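import Cfsg.Agent.Omega.EH3.Cons

/-!
# EH3 END: a normal subgroup `L` of `H` which contains all elements of odd order

`H = L T`, `T` a Sylow 2-subgroup fixing `a`; so the `L`-orbit of `a` is the `H`-orbit.
-/

set_option autoImplicit false

namespace Cfsg.Agent.Omega.EH3Close.Two

open Cfsg.Agent.Omega.EH3

/-- powers in `L` -/
theorem pow_mem {H : Type*} [Group H] [Finite H] {L : Subgroup H} (hodd : ∀ g : H, Odd (orderOf g) → g ∈ L) (g : H) :
    ∃ n : ℕ, g ^ 2 ^ n ∈ L := by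
  obtain ⟨k, m, hm, e⟩ := Nat.exists_eq_two_pow_mul_odd (n := orderOf g) (orderOf_pos g).ne'
  refine ⟨k, hodd _ ?_⟩
  have h1 : orderOf (g ^ 2 ^ k) = m := by
    rw [orderOf_pow_of_dvd (by positivity) (by rw [e]; exact Dvd.intro _ rfl), e]
    exact Nat.mul_div_cancel_left _ (by positivity)
  rw [h1]; exact hm

theorem sup_eq_top {H : Type*} [Group H] [Finite H] {L : Subgroup H} (hL : L.Normal)
    (hodd : ∀ g : H, Odd (orderOf g) → g ∈ L) (T : Sylow 2 H) : L ⊔ (T : Subgroup H) = ⊤ := by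
  have : Fact (Nat.Prime 2) := ⟨Nat.prime_two⟩
  have hp : IsPGroup 2 (H ⧸ L) := by
    intro x
    induction x using QuotientGroup.induction_on with
    | _ g =>
    obtain ⟨n, hn⟩ := pow_mem hodd g
    exact ⟨n, by rw [← QuotientGroup.mk_pow, QuotientGroup.eq_one_iff]; exact hn⟩
  obtain ⟨n, hn⟩ := (IsPGroup.iff_card (p := 2)).1 hp
  have h1 : (L ⊔ (T : Subgroup H)).index ∣ 2 ^ n := by
    rw [← hn]
    exact Subgroup.index_dvd_of_le le_sup_left
  have h2 : (L ⊔ (T : Subgroup H)).index ∣ (T : Subgroup H).index := Subgroup.index_dvd_of_le le_sup_right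
  obtain ⟨k, -, hk⟩ := (Nat.dvd_prime_pow Nat.prime_two).1 h1
  rw [← Subgroup.index_eq_one, hk]
  rcases Nat.eq_zero_or_pos k with rfl | hk0
  · rfl
  · exfalso
    apply T.not_dvd_index
    refine dvd_trans ?_ h2
    rw [hk]
    exact dvd_pow_self 2 hk0.ne'

variable {H V : Type*} [Group H] [AddCommGroup V] [Module (ZMod 2) V]
  {ρ : H →* (V ≃ₗ[ZMod 2] V)} {b : LinearMap.BilinForm (ZMod 2) V} {q : V → ZMod 2}
  {a : V} {D : Submodule (ZMod 2) V} {X : Subgroup H} {w : ℕ}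

/-- the `L`-orbit of `a` is the `H`-orbit -/
theorem exists_mem (C : Cfg ρ b q a D X w) {L : Subgroup H} (hL : L.Normal)
    (hodd : ∀ g : H, Odd (orderOf g) → g ∈ L) (g : H) : ∃ l ∈ L, ρ l a = ρ g a := by
  have := C.finite_H
  obtain ⟨T, -, hT⟩ := C.exists_syl
  have h1 : g ∈ L ⊔ (T : Subgroup H) := by rw [sup_eq_top hL hodd T]; trivial
  obtain ⟨l, hl, t, ht, rfl⟩ := Subgroup.mem_sup_of_normal_left.1 h1
  refine ⟨l, hl, ?_⟩
  have h2 : ρ t a = a := hT ht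
  rw [C.ρ_mul, h2]

theorem exists_opp (C : Cfg ρ b q a D X w) {L : Subgroup H} (hL : L.Normal)
    (hodd : ∀ g : H, Odd (orderOf g) → g ∈ L) : ∃ l ∈ L, b a (ρ l a) = 1 := by
  obtain ⟨g, hg⟩ := C.exists_opp
  obtain ⟨l, hl, e⟩ := exists_mem C hL hodd g
  exact ⟨l, hl, by rw [e]; exact hg⟩

theorem exists_move (C : Cfg ρ b q a D X w) {L : Subgroup H} (hL : L.Normal)
    (hodd : ∀ g : H, Odd (orderOf g) → g ∈ L) : ∃ l ∈ L, ρ l a ≠ a := by
  obtain ⟨l, hl, h1⟩ := exists_opp C hL hodd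
  refine ⟨l, hl, fun h => ?_⟩
  rw [h, C.b_self] at h1
  exact zero_ne_one h1

end Cfsg.Agent.Omega.EH3Close.Two
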