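import Cfsg.Agent.Omega.EH3Close.LeadU
import Cfsg.Agent.KFacts.RgdSL
import Cfsg.Agent.Nodes.Unique

/-!
# Leading roots in a simply laced root group datum (helper805)

`Fn cs h g c o` : `g` additive, positive and injective on the positive roots, `c ≤ g x ↔ 1 ≤ x o`.
`com` : the commutator relations; `pair` : two leading roots `x ≠ y` with `x o = y o = 0` of an abelian subgroup
normalised by `Q = ⟨X x : x o ≥ 1⟩` have `⟨x, y⟩ = 1`, or `⟨x, y⟩ = 0` and no `μ` with `μ o ≥ 1`, `⟨μ, x⟩ = ⟨μ, y⟩ = -1`.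
-/

set_option autoImplicit false
set_option linter.unusedSectionVars false

namespace Cfsg.Agent.Omega.EH3Close.RgdLead

open CoxeterSystem Cfsg.Agent.ChevalleyStructure.CoxeterGeom Cfsg.Agent.Tits.Roots Cfsg.Agent.Tits.Core
  Cfsg.Agent.Tits.Exchange Cfsg.Agent.Nodes.Reps Cfsg.Agent.Nodes.BNOf Cfsg.Agent.Nodes.StabComb
  Cfsg.Agent.Nodes.Bruhat Cfsg.Agent.Nodes.OppDec Cfsg.Agent.Nodes.PosPair Cfsg.Agent.Nodes.Coroot
  Cfsg.Agent.KFacts.RgdSL Cfsg.Agent.Omega.EH3Close.LeadU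
open scoped commutatorElement

variable {I W Y : Type*} [Fintype I] [DecidableEq I] [Group W] [Group Y] {M : CoxeterMatrix I}
  {cs : CoxeterSystem M W} {A : I → I → ℤ} {h : IsCartan M A} {p : ℕ} {T : Subgroup Y} {n : I → Y}
  {X : (I → ℤ) → Subgroup Y}

/-- the positive roots -/
noncomputable def PF [Finite W] (cs : CoxeterSystem M W) (h : IsCartan M A) : Finset (I → ℤ) :=
  (Nodes.Unique.finite_pos (cs := cs) (h := h)).toFinset

theorem mem_PF [Finite W] {x : I → ℤ} : x ∈ PF cs h ↔ x ∈ RGD.Pos cs h := by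
  rw [PF, Set.Finite.mem_toFinset]

/-- the functional -/
structure Fn (cs : CoxeterSystem M W) (h : IsCartan M A) (g : (I → ℤ) → ℕ) (c : ℕ) (o : I) : Prop where
  pos : ∀ x ∈ RGD.Pos cs h, 0 < g x
  inj : ∀ x ∈ RGD.Pos cs h, ∀ y ∈ RGD.Pos cs h, g x = g y → x = y
  add : ∀ x ∈ RGD.Pos cs h, ∀ y ∈ RGD.Pos cs h, g (x + y) = g x + g y
  cut : ∀ x ∈ RGD.Pos cs h, c ≤ g x ↔ 1 ≤ x o

/-! ### Existence of the functional -/

/-- base `B` expansions -/
theorem digits {B : ℤ} (hB : 0 < B) (e : I → ℕ) (he : Function.Injective e) {x y : I → ℤ}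
    (hx : ∀ i, 0 ≤ x i ∧ x i < B) (hy : ∀ i, 0 ≤ y i ∧ y i < B)
    (hxy : ∑ i, B ^ e i * x i = ∑ i, B ^ e i * y i) : x = y := by
  classical
  by_contra hne
  have h1 : ∃ i, x i ≠ y i := by
    by_contra hcon
    push Not at hcon
    exact hne (funext hcon)
  -- minimal
  obtain ⟨i, hi, hmin⟩ := Finset.exists_min_image (Finset.univ.filter fun i => x i ≠ y i) e
    (by obtain ⟨i, hi⟩ := h1; exact ⟨i, by simp [hi]⟩)
  have hi' : x i ≠ y i := by simpa using hi
  have h2 : ∑ j, B ^ e j * (x j - y j) = 0 := by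
    simp only [mul_sub, Finset.sum_sub_distrib]
    rw [hxy, sub_self]
  rw [← Finset.add_sum_erase _ _ (Finset.mem_univ i)] at h2
  have h3 : B ^ (e i + 1) ∣ ∑ j ∈ Finset.univ.erase i, B ^ e j * (x j - y j) := by
    refine Finset.dvd_sum fun j hj => ?_
    have hji : j ≠ i := (Finset.mem_erase.1 hj).1
    by_cases hj' : x j = y j
    · rw [hj', sub_self, mul_zero]; exact dvd_zero _
    · have h4 := hmin j (by simp [hj'])
      have h5 : e i ≠ e j := fun h => hji (he h).symm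
      exact Dvd.dvd.mul_right (pow_dvd_pow B (by omega)) _
  have h4 : B ^ (e i + 1) ∣ B ^ e i * (x i - y i) := by
    have h5 : B ^ e i * (x i - y i) = -∑ j ∈ Finset.univ.erase i, B ^ e j * (x j - y j) := by linarith
    rw [h5]
    exact (dvd_neg).2 h3
  rw [pow_succ] at h4
  have h5 : B ∣ x i - y i := by
    have : B ^ e i ≠ 0 := pow_ne_zero _ hB.ne'
    exact (mul_dvd_mul_iff_left this).1 h4
  have h6 : x i - y i = 0 := by
    refine Int.eq_zero_of_abs_lt_dvd h5 ?_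
    have := hx i
    have := hy i
    rw [abs_lt]
    omega
  exact hi' (by omega)

theorem exists_fn [Finite W] (o : I) : ∃ g c, Fn cs h g c o := by
  classical
  have hfin := Nodes.Unique.finite_pos (cs := cs) (h := h)
  -- the base
  obtain ⟨B, hB0, hB⟩ : ∃ B : ℤ, 0 < B ∧ ∀ x ∈ RGD.Pos cs h, ∀ i, x i < B := by
    have : ∀ i : I, ∃ b : ℤ, ∀ x ∈ RGD.Pos cs h, x i ≤ b := by
      intro i
      obtain ⟨b, hb⟩ := (hfin.image fun x : I → ℤ => x i).bddAbove
      exact ⟨b, fun x hx => hb ⟨x, hx, rfl⟩⟩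
    choose b hb using this
    refine ⟨1 + ∑ i, |b i|, by positivity, fun x hx i => ?_⟩
    have h1 := hb i x hx
    have h2 : |b i| ≤ ∑ i, |b i| := Finset.single_le_sum (f := fun i => |b i|) (fun _ _ => abs_nonneg _) (Finset.mem_univ i)
    have h3 := le_abs_self (b i)
    omega
  let e : I → ℕ := fun i => (Fintype.equivFin I i : ℕ)
  have he : Function.Injective e := fun i j hij => (Fintype.equivFin I).injective (Fin.ext hij)
  let D : (I → ℤ) → ℤ := fun x => ∑ i, B ^ e i * x i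
  have hD0 : ∀ x ∈ RGD.Pos cs h, 0 ≤ D x := fun x hx =>
    Finset.sum_nonneg fun i _ => mul_nonneg (pow_nonneg hB0.le _) (hx.2 i)
  have hDadd : ∀ x y, D (x + y) = D x + D y := by
    intro x y
    show ∑ i, B ^ e i * (x + y) i = _
    rw [← Finset.sum_add_distrib]
    exact Finset.sum_congr rfl fun i _ => by rw [Pi.add_apply, mul_add]
  have hDinj : ∀ x ∈ RGD.Pos cs h, ∀ y ∈ RGD.Pos cs h, D x = D y → x = y := fun x hx y hy hxy =>
    digits hB0 e he (fun i => ⟨hx.2 i, hB x hx i⟩) (fun i => ⟨hy.2 i, hB y hy i⟩) hxy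
  have hDpos : ∀ x ∈ RGD.Pos cs h, 0 < D x := by
    intro x hx
    rcases (hD0 x hx).eq_or_lt with h1 | h1
    · exfalso
      apply hx.1.ne_zero
      exact digits hB0 e he (fun i => ⟨hx.2 i, hB x hx i⟩) (y := 0) (fun i => ⟨le_rfl, hB0⟩)
        (h1.symm.trans (by simp))
    · exact h1
  obtain ⟨K, hK0, hK⟩ : ∃ K : ℤ, 0 < K ∧ ∀ x ∈ RGD.Pos cs h, D x < K := by
    obtain ⟨b, hb⟩ := (hfin.image D).bddAbove
    refine ⟨1 + |b|, by positivity, fun x hx => ?_⟩
    have h1 := hb ⟨x, hx, rfl⟩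
    have h3 := le_abs_self b
    omega
  have hnn : ∀ x ∈ RGD.Pos cs h, 0 < K * x o + D x := fun x hx =>
    add_pos_of_nonneg_of_pos (mul_nonneg hK0.le (hx.2 o)) (hDpos x hx)
  refine ⟨fun x => (K * x o + D x).toNat, K.toNat, ?_, ?_, ?_, ?_⟩
  · intro x hx
    have := hnn x hx
    omega
  · intro x hx y hy hxy
    have h1 := hnn x hx
    have h2 := hnn y hy
    have h3 : K * x o + D x = K * y o + D y := by omega
    have h4 : x o = y o := by
      by_contra hne
      have h5 := hK x hx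
      have h6 := hK y hy
      have h7 := hD0 x hx
      have h8 := hD0 y hy
      rcases lt_or_gt_of_ne hne with h9 | h9
      · have h10 : K * (x o + 1) ≤ K * y o := mul_le_mul_of_nonneg_left h9 hK0.le
        rw [mul_add, mul_one] at h10
        omega
      · have h10 : K * (y o + 1) ≤ K * x o := mul_le_mul_of_nonneg_left h9 hK0.le
        rw [mul_add, mul_one] at h10
        omega
    rw [h4] at h3
    exact hDinj x hx y hy (by omega)
  · intro x hx y hy
    have h1 := hnn x hx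
    have h2 := hnn y hy
    have h3 := hDadd x y
    have h4 : K * (x + y) o = K * x o + K * y o := by rw [Pi.add_apply, mul_add]
    show (K * (x + y) o + D (x + y)).toNat = _
    rw [h3, h4]
    omega
  · intro x hx
    have h1 := hnn x hx
    have h5 := hK x hx
    have h7 := hD0 x hx
    constructor
    · intro h9
      by_contra hcon
      have h10 : x o = 0 := le_antisymm (by omega) (hx.2 o)
      have h11 : K ≤ K * x o + D x := by
        have h12 : K.toNat ≤ (K * x o + D x).toNat := h9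
        omega
      rw [h10, mul_zero] at h11
      omega
    · intro h9
      have h10 : K * 1 ≤ K * x o := mul_le_mul_of_nonneg_left h9 hK0.le
      rw [mul_one] at h10
      show K.toNat ≤ (K * x o + D x).toNat
      omega

/-! ### The commutator relations -/

variable (R : RGD cs h p T n X) (hs : SL cs h) {g : (I → ℤ) → ℕ} {c : ℕ} {o : I} (fn : Fn cs h g c o)

include R

theorem add_mem_pos {x y : I → ℤ} (hx : x ∈ RGD.Pos cs h) (hy : y ∈ RGD.Pos cs h) (hr : IsRoot cs h (x + y)) :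
    x + y ∈ RGD.Pos cs h := ⟨hr, add_nonneg hx.2 hy.2⟩

include hs fn

theorem com [Finite W] (hab : ∀ x, IsRoot cs h x → ∀ a ∈ X x, ∀ b ∈ X x, a * b = b * a) : Com (PF cs h) X g where
  pos x hx := fn.pos x (mem_PF.1 hx)
  inj x hx y hy := fn.inj x (mem_PF.1 hx) y (mem_PF.1 hy)
  comm := by
    intro x hx y hy a ha b hb
    rw [mem_PF] at hx hy
    rcases hs.cases hx.1 hy.1 with ⟨rfl, -⟩ | ⟨hxy, -⟩ | ⟨hxy, hxy', h1, h2⟩
    · rw [commutatorElement_eq_one_iff_mul_comm.2 (hab x hx.1 a ha b hb)]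
      exact one_mem _
    · exfalso
      have := hx.2
      rw [hxy] at this
      exact hy.1.not_pos_neg hy.2 (neg_nonneg.1 this)
    · have hm := R.comm x y hx.1 hy.1 hxy hxy' a ha b hb
      by_cases hc : cpr cs h x y = -1
      · have h3 := btw_le_of (X := X) (fun z hz => hs.btwn_eq hx.1 hy.1 hc hz) hm
        have h4 := add_mem_pos R hx hy (isRoot_add hx.1 hy.1 hc)
        exact le_U (mem_PF.2 h4) (le_of_eq (fn.add x hx y hy).symm) h3
      · rw [btw_eq_bot (fun z => hs.not_btwn hx.1 hy.1 hxy (by omega) z), Subgroup.mem_bot] at hm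
        rw [hm]
        exact one_mem _

/-- independence -/
theorem ind [Finite W] {x : I → ℤ} (hx : x ∈ RGD.Pos cs h) {a : Y} (ha : a ∈ X x) (ha' : a ∈ U (PF cs h) X g (g x + 1)) :
    a = 1 := by
  have h1 : Nodes.Unique.Closed cs h ({x} : Set (I → ℤ)) := by
    rintro _ rfl _ rfl z hz
    exact Nodes.Unique.btwn_self hx.1 hz
  have h2 : Nodes.Unique.Closed cs h {y | y ∈ RGD.Pos cs h ∧ g x + 1 ≤ g y} := by
    rintro y ⟨hy, hyg⟩ z ⟨hz, hzg⟩ w hw
    rcases hs.cases hy.1 hz.1 with ⟨rfl, -⟩ | ⟨hxy, -⟩ | ⟨hxy, hxy', -, -⟩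
    · have := Nodes.Unique.btwn_self hy.1 hw
      subst this
      exact ⟨hy, hyg⟩
    · exfalso
      have := hy.2
      rw [hxy] at this
      exact hz.1.not_pos_neg hz.2 (neg_nonneg.1 this)
    · have h3 := hs.btwn hy.1 hz.1 hxy hxy' hw
      have h4 : w ∈ RGD.Pos cs h := by
        have := add_mem_pos R hy hz (h3.2 ▸ hw.1)
        rwa [← h3.2] at this
      refine ⟨h4, ?_⟩
      rw [h3.2, fn.add y hy z hz]
      omega
  have h3 := Nodes.Unique.inf_eq R (S := {x}) (S' := {y | y ∈ RGD.Pos cs h ∧ g x + 1 ≤ g y})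
    (Set.singleton_subset_iff.2 hx) (fun _ hy => hy.1) h1 h2
  have h4 : a ∈ RGD.Sup X {x} ⊓ RGD.Sup X {y | y ∈ RGD.Pos cs h ∧ g x + 1 ≤ g y} := by
    refine ⟨RGD.le_Sup (Set.mem_singleton x) ha, ?_⟩
    have h5 : U (PF cs h) X g (g x + 1) ≤ RGD.Sup X {y | y ∈ RGD.Pos cs h ∧ g x + 1 ≤ g y} :=
      U_le fun y hy hg => RGD.le_Sup (S := {y | y ∈ RGD.Pos cs h ∧ g x + 1 ≤ g y}) ⟨mem_PF.1 hy, hg⟩
    exact h5 ha'
  have h5 : ({x} : Set (I → ℤ)) ∩ {y | y ∈ RGD.Pos cs h ∧ g x + 1 ≤ g y} = ∅ := by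
    ext y
    simp only [Set.mem_inter_iff, Set.mem_singleton_iff, Set.mem_ofPred_eq, Set.mem_empty_iff_false, iff_false]
    rintro ⟨rfl, -, h6⟩
    omega
  rw [h3, h5] at h4
  have h6 : RGD.Sup X (∅ : Set (I → ℤ)) = ⊥ := by
    rw [eq_bot_iff]
    exact RGD.Sup_le (fun z hz => absurd hz (by simp))
  rw [h6] at h4
  exact Subgroup.mem_bot.1 h4

theorem comm_not_mem [Finite W] {x y : I → ℤ} (hx : x ∈ RGD.Pos cs h) (hy : y ∈ RGD.Pos cs h)
    (hc : cpr cs h x y = -1) {a b : Y} (ha : a ∈ X x) (ha1 : a ≠ 1) (hb : b ∈ X y) (hb1 : b ≠ 1) :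
    ⁅a, b⁆ ∉ U (PF cs h) X g (g (x + y) + 1) := by
  intro hm
  have hA := hs.a2 hx.1 hy.1 hc
  exact A2.comm_ne_one R hA ha ha1 hb hb1
    (ind R hs fn (add_mem_pos R hx hy hA.rxy) (A2.comm_mem R hA ha hb) hm)

/-- **Two leading roots.** -/
theorem pair [Finite W] (hab : ∀ x, IsRoot cs h x → ∀ a ∈ X x, ∀ b ∈ X x, a * b = b * a)
    (hne : ∀ x, IsRoot cs h x → X x ≠ ⊥) {V : Subgroup Y} (hV : ∀ a ∈ V, ∀ b ∈ V, a * b = b * a)
    (hn : ∀ q ∈ U (PF cs h) X g c, ∀ v ∈ V, q * v * q⁻¹ ∈ V) {x y : I → ℤ} (hx : x ∈ Psi (PF cs h) X g V c)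
    (hy : y ∈ Psi (PF cs h) X g V c) (hxy : x ≠ y) :
    cpr cs h x y = 1 ∨ (cpr cs h x y = 0 ∧
      ∀ μ ∈ RGD.Pos cs h, 1 ≤ μ o → cpr cs h μ x = -1 → cpr cs h μ y ≠ -1) := by
  have C := com R hs fn hab
  rw [mem_Psi] at hx hy
  obtain ⟨hx, hxc, lx⟩ := hx
  obtain ⟨hy, hyc, ly⟩ := hy
  rw [mem_PF] at hx hy
  rcases hs.cases hx.1 hy.1 with ⟨h0, -⟩ | ⟨h0, -⟩ | ⟨-, hxy', h1, h2⟩
  · exact absurd h0 hxy
  · exfalso
    have := hx.2
    rw [h0] at this
    exact hy.1.not_pos_neg hy.2 (neg_nonneg.1 this)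
  · have h3 : cpr cs h x y = -1 ∨ cpr cs h x y = 0 ∨ cpr cs h x y = 1 := by omega
    rcases h3 with h3 | h3 | h3
    · exfalso
      obtain ⟨u, hu, hu1, hu2⟩ := lx
      obtain ⟨u', hu', hu1', hu2'⟩ := ly
      obtain ⟨a, ha, w, hw, rfl⟩ := C.exists_mul (mem_PF.2 hx) hu1
      obtain ⟨b, hb, w', hw', rfl⟩ := C.exists_mul (mem_PF.2 hy) hu1'
      have ha1 : a ≠ 1 := by
        rintro rfl
        rw [one_mul] at hu2
        exact hu2 hw
      have hb1 : b ≠ 1 := by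
        rintro rfl
        rw [one_mul] at hu2'
        exact hu2' hw'
      refine comm_not_mem R hs fn hx hy h3 ha ha1 hb hb1 ?_
      rw [fn.add x hx y hy]
      refine C.comm_lead (le_U (mem_PF.2 hx) le_rfl ha) (le_U (mem_PF.2 hy) le_rfl hb) hw hw' ?_
      rw [commutatorElement_eq_one_iff_mul_comm.2 (hV _ hu _ hu')]
      exact one_mem _
    · right
      refine ⟨h3, fun μ hμ hμo hc1 hc2 => ?_⟩
      have hA := hs.a2 hμ.1 hx.1 hc1
      have hν := add_mem_pos R hμ hx hA.rxy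
      have hc3 : cpr cs h (μ + x) y = -1 := by
        rw [cpr_add cs h _ _ hy.1, hc2, h3]; norm_num
      obtain ⟨v, hv, hv1⟩ : ∃ v ∈ X μ, v ≠ 1 := by
        by_contra hcon
        push Not at hcon
        exact hne μ hμ.1 ((Subgroup.eq_bot_iff_forall _).2 hcon)
      refine C.not_pair hV hn (mem_PF.2 hx) (mem_PF.2 hy) (mem_PF.2 hμ) (ν := μ + x) (ξ := μ + x + y) (mem_PF.2 hν)
        ((fn.cut μ hμ).2 hμo) (fn.add μ hμ x hx) (fn.add _ hν y hy) hv lx ly ?_ ?_
      · rintro a ha ha1 d hd w hw e rfl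
        rw [one_mul] at e
        apply comm_not_mem R hs fn hμ hx hc1 hv hv1 ha ha1
        rw [e]
        exact hw
      · intro b hb hb1 d hd hd1
        exact comm_not_mem R hs fn hν hy hc3 hd hd1 hb hb1
    · exact Or.inl h3

end Cfsg.Agent.Omega.EH3Close.RgdLead
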