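import Cfsg.Agent.ChevalleyStructure.CoxeterGeom

/-!
# EH3 END: the extended diagram

`extM M S`, `extA A S`: the Coxeter matrix / Cartan matrix on `Option I` with a new node `none` joined by simple bonds to
the nodes of `S`.
-/

set_option autoImplicit false

namespace Cfsg.Agent.Omega.EH3Close

open Cfsg.Agent.ChevalleyStructure.CoxeterGeom

variable {I : Type*} [DecidableEq I]

/-- the extended Coxeter matrix -/
def extM (M : CoxeterMatrix I) (S : Finset I) : CoxeterMatrix (Option I) where
  M := Matrix.of fun
    | none, none => 1
    | none, some j => if j ∈ S then 3 else 2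
    | some i, none => if i ∈ S then 3 else 2
    | some i, some j => M i j
  isSymm := by
    ext i j
    rcases i with _ | i <;> rcases j with _ | j <;> try rfl
    exact M.symmetric j i
  diagonal i := by
    rcases i with _ | i
    · rfl
    · exact M.diagonal i
  off_diagonal i j hij := by
    rcases i with _ | i <;> rcases j with _ | j
    · exact absurd rfl hij
    · show (if j ∈ S then 3 else 2) ≠ 1
      split_ifs <;> decide
    · show (if i ∈ S then 3 else 2) ≠ 1
      split_ifs <;> decide
    · exact M.off_diagonal i j fun h => hij (by rw [h])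

/-- the extended Cartan matrix -/
def extA (A : I → I → ℤ) (S : Finset I) : Option I → Option I → ℤ
  | none, none => 2
  | none, some j => if j ∈ S then -1 else 0
  | some i, none => if i ∈ S then -1 else 0
  | some i, some j => A i j

variable {M : CoxeterMatrix I} {A : I → I → ℤ} {S : Finset I}

theorem extM_none_some (j : I) : extM M S none (some j) = if j ∈ S then 3 else 2 := rfl

theorem extM_some_none (j : I) : extM M S (some j) none = if j ∈ S then 3 else 2 := rfl

theorem extM_some_some (i j : I) : extM M S (some i) (some j) = M i j := rfl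

theorem isCartan_ext (h : IsCartan M A) : IsCartan (extM M S) (extA A S) where
  diag i := by
    rcases i with _ | i
    · rfl
    · exact h.diag i
  rel i j hij := by
    rcases i with _ | i <;> rcases j with _ | j
    · exact absurd rfl hij
    · rw [extM_none_some]
      by_cases hj : j ∈ S
      · right; left
        simp [extA, hj]
      · left
        simp [extA, hj]
    · rw [extM_some_none]
      by_cases hi : i ∈ S
      · right; left
        simp [extA, hi]
      · left
        simp [extA, hi]
    · exact h.rel i j fun h => hij (by rw [h])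

/-- irreducibility of the extended matrix -/
theorem ext_irred {s : I} (hs : s ∈ S)
    (hM : ∀ J : Set I, J.Nonempty → Jᶜ.Nonempty → ∃ i ∈ J, ∃ j ∈ Jᶜ, M i j ≠ 2)
    (J : Set (Option I)) (h1 : J.Nonempty) (h2 : Jᶜ.Nonempty) : ∃ i ∈ J, ∃ j ∈ Jᶜ, extM M S i j ≠ 2 := by
  by_cases hJ : (some ⁻¹' J : Set I).Nonempty
  · by_cases hJ2 : (some ⁻¹' J : Set I)ᶜ.Nonempty
    · obtain ⟨i, hi, j, hj, hij⟩ := hM _ hJ hJ2
      exact ⟨some i, hi, some j, hj, hij⟩
    · have h3 : ∀ i : I, some i ∈ J := by
        intro i
        by_contra hi
        exact hJ2 ⟨i, hi⟩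
      obtain ⟨x, hx⟩ := h2
      rcases x with _ | x
      · refine ⟨some s, h3 s, none, hx, ?_⟩
        rw [extM_some_none, if_pos hs]; decide
      · exact absurd (h3 x) hx
  · have h3 : ∀ i : I, some i ∉ J := fun i hi => hJ ⟨i, hi⟩
    obtain ⟨x, hx⟩ := h1
    rcases x with _ | x
    · refine ⟨none, hx, some s, h3 s, ?_⟩
      rw [extM_none_some, if_pos hs]; decide
    · exact absurd hx (h3 x)

end Cfsg.Agent.Omega.EH3Close
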