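import Cfsg.Agent.ParSys.RootExc
import Cfsg.Agent.Nodes.TypeD
import Cfsg.Agent.LieRecognition.BNCox

/-!
# EH3 END: the positive roots of `A₅`, `D₆`, `B₃`, `C₃` in the coordinates of the simple roots
-/

set_option autoImplicit false
set_option Elab.async false

namespace Cfsg.Agent.Omega.EH3Close.Roots

open Cfsg.Agent.ChevalleyStructure.CoxeterGeom Cfsg.Agent.ParSys.RootCount Cfsg.Agent.ParSys.RootExc
open Cfsg.Agent.LieRecognition.BNCox (cA)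

/-- Cartan matrix -/
def AA5 : Fin 5 → Fin 5 → ℤ := ![![2, -1, 0, 0, 0],
  ![-1, 2, -1, 0, 0],
  ![0, -1, 2, -1, 0],
  ![0, 0, -1, 2, -1],
  ![0, 0, 0, -1, 2]]

/-- positive roots -/
def LA5 : List (Fin 5 → ℤ) := [![0, 0, 0, 0, 1],
  ![0, 0, 0, 1, 0],
  ![0, 0, 1, 0, 0],
  ![0, 1, 0, 0, 0],
  ![1, 0, 0, 0, 0],
  ![0, 0, 0, 1, 1],
  ![0, 0, 1, 1, 0],
  ![0, 1, 1, 0, 0],
  ![1, 1, 0, 0, 0],
  ![0, 0, 1, 1, 1],
  ![0, 1, 1, 1, 0],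
  ![1, 1, 1, 0, 0],
  ![0, 1, 1, 1, 1],
  ![1, 1, 1, 1, 0],
  ![1, 1, 1, 1, 1]]

/-- images under the simple reflections -/
def TA5 : List (List ℕ) := [[0, 1, 2, 8, 0, 5, 6, 11, 3, 9, 13, 7, 14, 10, 12],
  [0, 1, 7, 0, 8, 5, 10, 2, 4, 12, 6, 11, 9, 13, 14],
  [0, 6, 0, 7, 4, 9, 1, 3, 11, 5, 10, 8, 12, 13, 14],
  [5, 0, 6, 3, 4, 0, 2, 10, 8, 9, 7, 13, 12, 11, 14],
  [0, 5, 2, 3, 4, 1, 9, 7, 8, 6, 12, 11, 10, 14, 13]]

def RA5 : Finset (Fin 5 → ℤ) := LA5.toFinset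

theorem nodup_A5 : LA5.Nodup := by decide +kernel

theorem posRoots_A5 : PosRoots AA5 RA5 where
  simple_mem := by
    have h : ∀ i, Pi.single i 1 ∈ LA5 := by decide +kernel
    exact fun i => List.mem_toFinset.2 (h i)
  pos := by
    have h : ∀ v ∈ LA5, ∀ i, 0 ≤ v i := by decide +kernel
    exact fun v hv => h v (List.mem_toFinset.1 hv)
  ne := by
    have h : (0 : Fin 5 → ℤ) ∉ LA5 := by decide +kernel
    exact fun h0 => h (List.mem_toFinset.1 h0)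
  perm := perm_of_table LA5 TA5 (by decide +kernel)

/-- Cartan matrix -/
def AD6 : Fin 6 → Fin 6 → ℤ := ![![2, -1, 0, 0, 0, 0],
  ![-1, 2, -1, 0, 0, 0],
  ![0, -1, 2, -1, 0, 0],
  ![0, 0, -1, 2, -1, -1],
  ![0, 0, 0, -1, 2, 0],
  ![0, 0, 0, -1, 0, 2]]

/-- positive roots -/
def LD6 : List (Fin 6 → ℤ) := [![0, 0, 0, 0, 0, 1],
  ![0, 0, 0, 0, 1, 0],
  ![0, 0, 0, 1, 0, 0],
  ![0, 0, 1, 0, 0, 0],
  ![0, 1, 0, 0, 0, 0],
  ![1, 0, 0, 0, 0, 0],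
  ![0, 0, 0, 1, 0, 1],
  ![0, 0, 0, 1, 1, 0],
  ![0, 0, 1, 1, 0, 0],
  ![0, 1, 1, 0, 0, 0],
  ![1, 1, 0, 0, 0, 0],
  ![0, 0, 0, 1, 1, 1],
  ![0, 0, 1, 1, 0, 1],
  ![0, 0, 1, 1, 1, 0],
  ![0, 1, 1, 1, 0, 0],
  ![1, 1, 1, 0, 0, 0],
  ![0, 0, 1, 1, 1, 1],
  ![0, 1, 1, 1, 0, 1],
  ![0, 1, 1, 1, 1, 0],
  ![1, 1, 1, 1, 0, 0],
  ![0, 0, 1, 2, 1, 1],
  ![0, 1, 1, 1, 1, 1],
  ![1, 1, 1, 1, 0, 1],
  ![1, 1, 1, 1, 1, 0],
  ![0, 1, 1, 2, 1, 1],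
  ![1, 1, 1, 1, 1, 1],
  ![0, 1, 2, 2, 1, 1],
  ![1, 1, 1, 2, 1, 1],
  ![1, 1, 2, 2, 1, 1],
  ![1, 2, 2, 2, 1, 1]]

/-- images under the simple reflections -/
def TD6 : List (List ℕ) := [[0, 1, 2, 3, 10, 0, 6, 7, 8, 15, 4, 11, 12, 13, 19, 9, 16, 22, 23, 14, 20, 25, 17, 18, 27, 21, 28, 24, 26, 29],
  [0, 1, 2, 9, 0, 10, 6, 7, 14, 3, 5, 11, 17, 18, 8, 15, 21, 12, 13, 19, 24, 16, 22, 23, 20, 25, 26, 27, 29, 28],
  [0, 1, 8, 0, 9, 5, 12, 13, 2, 4, 15, 16, 6, 7, 14, 10, 11, 17, 18, 19, 20, 21, 22, 23, 26, 25, 24, 28, 27, 29],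
  [6, 7, 0, 8, 4, 5, 0, 1, 3, 14, 10, 11, 12, 13, 9, 19, 20, 17, 18, 15, 16, 24, 22, 23, 21, 27, 26, 25, 28, 29],
  [0, 0, 7, 3, 4, 5, 11, 2, 13, 9, 10, 6, 16, 8, 18, 15, 12, 21, 14, 23, 20, 17, 25, 19, 24, 22, 26, 27, 28, 29],
  [0, 1, 6, 3, 4, 5, 2, 11, 12, 9, 10, 7, 8, 16, 17, 15, 13, 14, 21, 22, 20, 18, 19, 25, 24, 23, 26, 27, 28, 29]]

def RD6 : Finset (Fin 6 → ℤ) := LD6.toFinset

theorem nodup_D6 : LD6.Nodup := by decide +kernel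

theorem posRoots_D6 : PosRoots AD6 RD6 where
  simple_mem := by
    have h : ∀ i, Pi.single i 1 ∈ LD6 := by decide +kernel
    exact fun i => List.mem_toFinset.2 (h i)
  pos := by
    have h : ∀ v ∈ LD6, ∀ i, 0 ≤ v i := by decide +kernel
    exact fun v hv => h v (List.mem_toFinset.1 hv)
  ne := by
    have h : (0 : Fin 6 → ℤ) ∉ LD6 := by decide +kernel
    exact fun h0 => h (List.mem_toFinset.1 h0)
  perm := perm_of_table LD6 TD6 (by decide +kernel)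

/-- Cartan matrix -/
def AB3 : Fin 3 → Fin 3 → ℤ := ![![2, -1, 0],
  ![-1, 2, -1],
  ![0, -2, 2]]

/-- positive roots -/
def LB3 : List (Fin 3 → ℤ) := [![0, 0, 1],
  ![0, 1, 0],
  ![1, 0, 0],
  ![0, 1, 1],
  ![1, 1, 0],
  ![0, 1, 2],
  ![1, 1, 1],
  ![1, 1, 2],
  ![1, 2, 2]]

/-- images under the simple reflections -/
def TB3 : List (List ℕ) := [[0, 4, 0, 6, 1, 7, 3, 5, 8],
  [3, 0, 4, 0, 2, 5, 6, 8, 7],
  [0, 5, 2, 3, 7, 1, 6, 4, 8]]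

def RB3 : Finset (Fin 3 → ℤ) := LB3.toFinset

theorem nodup_B3 : LB3.Nodup := by decide +kernel

theorem posRoots_B3 : PosRoots AB3 RB3 where
  simple_mem := by
    have h : ∀ i, Pi.single i 1 ∈ LB3 := by decide +kernel
    exact fun i => List.mem_toFinset.2 (h i)
  pos := by
    have h : ∀ v ∈ LB3, ∀ i, 0 ≤ v i := by decide +kernel
    exact fun v hv => h v (List.mem_toFinset.1 hv)
  ne := by
    have h : (0 : Fin 3 → ℤ) ∉ LB3 := by decide +kernel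
    exact fun h0 => h (List.mem_toFinset.1 h0)
  perm := perm_of_table LB3 TB3 (by decide +kernel)

/-- Cartan matrix -/
def AC3 : Fin 3 → Fin 3 → ℤ := ![![2, -1, 0],
  ![-1, 2, -2],
  ![0, -1, 2]]

/-- positive roots -/
def LC3 : List (Fin 3 → ℤ) := [![0, 0, 1],
  ![0, 1, 0],
  ![1, 0, 0],
  ![0, 1, 1],
  ![1, 1, 0],
  ![0, 2, 1],
  ![1, 1, 1],
  ![1, 2, 1],
  ![2, 2, 1]]

/-- images under the simple reflections -/
def TC3 : List (List ℕ) := [[0, 4, 0, 6, 1, 8, 3, 7, 5],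
  [5, 0, 4, 3, 2, 0, 7, 6, 8],
  [0, 3, 2, 1, 6, 5, 4, 7, 8]]

def RC3 : Finset (Fin 3 → ℤ) := LC3.toFinset

theorem nodup_C3 : LC3.Nodup := by decide +kernel

theorem posRoots_C3 : PosRoots AC3 RC3 where
  simple_mem := by
    have h : ∀ i, Pi.single i 1 ∈ LC3 := by decide +kernel
    exact fun i => List.mem_toFinset.2 (h i)
  pos := by
    have h : ∀ v ∈ LC3, ∀ i, 0 ≤ v i := by decide +kernel
    exact fun v hv => h v (List.mem_toFinset.1 hv)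
  ne := by
    have h : (0 : Fin 3 → ℤ) ∉ LC3 := by decide +kernel
    exact fun h0 => h (List.mem_toFinset.1 h0)
  perm := perm_of_table LC3 TC3 (by decide +kernel)

end Cfsg.Agent.Omega.EH3Close.Roots
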