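import Cfsg.Agent.Omega.EH3Close.CountU
import Cfsg.Agent.Omega.EH3Close.Roots
import Cfsg.Agent.Omega.EH3Close.Ext
import Cfsg.Agent.Omega.ThmID.Sys
import Cfsg.Agent.ParSys.FreeCount

/-!
# EH3 END: the numbers for the four diagrams

For `M` = `A₅` (node 2), `D₆` (node 4 or 5), `E₇` (node 6), `B₃` (node 2, `q = (4, 4, 2)`): the orders of `U` and of
`V_J`, `J = I ∖ {i}`, for every root group datum of type `M`, and the number `q_{w₀}` of the extended diagram
(`E₆`, `E₇`, `E₈`, `F₄`).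
-/

set_option autoImplicit false

namespace Cfsg.Agent.Omega.EH3Close.Numb

open CoxeterSystem Cfsg.Agent.ChevalleyStructure.CoxeterGeom Cfsg.Agent.Tits.Roots Cfsg.Agent.Tits.Core
  Cfsg.Agent.Tits.RootComb Cfsg.Agent.Nodes.Comb Cfsg.Agent.Nodes.Reps Cfsg.Agent.Nodes.BNOf
  Cfsg.Agent.Nodes.StabComb Cfsg.Agent.Nodes.Bruhat Cfsg.Agent.Nodes.LeviDec
  Cfsg.Agent.ParSys.RootCount Cfsg.Agent.ParSys.RootExc Cfsg.Agent.ParSys.FreeCount Cfsg.Agent.Omega.EH3Close.Roots
open Cfsg.Agent.LieRecognition.BNCox (cA)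

/-! ### the Cartan matrix is determined by the Coxeter matrix -/

theorem cartan_eq {I : Type*} {M : CoxeterMatrix I} {A A₀ : I → I → ℤ} (h : IsCartan M A) (h₀ : IsCartan M A₀)
    (h4 : ∀ i j, M i j ≠ 4) (h6 : ∀ i j, M i j ≠ 6) : A = A₀ := by
  funext i j
  by_cases hij : i = j
  · subst hij; rw [h.diag, h₀.diag]
  · rcases h.rel i j hij with h1 | h1 | h1 | h1
    · rcases h₀.rel i j hij with h2 | h2 | h2 | h2
      · rw [h1.2.1, h2.2.1]
      all_goals omega
    · rcases h₀.rel i j hij with h2 | h2 | h2 | h2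
      · omega
      · rw [h1.2.1, h2.2.1]
      all_goals omega
    · exact absurd h1.1 (h4 i j)
    · exact absurd h1.1 (h6 i j)

set_option backward.isDefEq.respectTransparency false in
theorem isCartan_A5 : IsCartan (cA 5) AA5 := by
  constructor <;> decide +kernel

set_option backward.isDefEq.respectTransparency false in
theorem isCartan_D6 : IsCartan (Nodes.TypeD.M 4) AD6 := by
  constructor <;> decide +kernel

set_option backward.isDefEq.respectTransparency false in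
theorem ne_A5 : (∀ i j, cA 5 i j ≠ 4) ∧ ∀ i j, cA 5 i j ≠ 6 := by
  constructor <;> decide +kernel

set_option backward.isDefEq.respectTransparency false in
theorem ne_D6 : (∀ i j, Nodes.TypeD.M 4 i j ≠ 4) ∧ ∀ i j, Nodes.TypeD.M 4 i j ≠ 6 := by
  constructor <;> decide +kernel

set_option backward.isDefEq.respectTransparency false in
theorem ne_E7 : (∀ i j, CoxeterMatrix.E₇ i j ≠ 4) ∧ ∀ i j, CoxeterMatrix.E₇ i j ≠ 6 := by
  constructor <;> decide +kernel

/-! ### orders -/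

section orders

variable {W Y : Type*} [Group W] [Group Y] [Finite W] {p : ℕ}

/-- all parameters equal -/
theorem card_const {k : ℕ} {M : CoxeterMatrix (Fin k)} {cs : CoxeterSystem M W} {A : Fin k → Fin k → ℤ}
    {h : IsCartan M A} {T : Subgroup Y} {n : Fin k → Y} {X : (Fin k → ℤ) → Subgroup Y} (R : RGD cs h p T n X)
    {L : List (Fin k → ℤ)} (hR : PosRoots A L.toFinset) (hN : L.Nodup) {x : ℕ}
    (hq : ∀ i, Nat.card (X (sr i)) = x) (i : Fin k) {N m : ℕ} (h1 : L.length = N)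
    (h2 : (L.filter fun v => 0 < v i).length = m) :
    Nat.card (RGD.Sup X (RGD.Pos cs h)) = x ^ N ∧ Nat.card (VJ cs h X {i}ᶜ) = x ^ m := by
  constructor
  · rw [CountU.card_U R hR (wt := fun _ => x) (fun _ _ _ _ => rfl) hq, Finset.prod_const,
      List.toFinset_card_of_nodup hN, h1]
  · rw [CountU.card_VJ_single R hR (wt := fun _ => x) (fun _ _ _ _ => rfl) hq i, Finset.prod_const]
    congr 1
    have e : (L.toFinset.filter fun v => 0 < v i) = (L.filter fun v => 0 < v i).toFinset := by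
      ext v
      simp
    rw [e, List.toFinset_card_of_nodup (hN.filter _), ← h2]

theorem card_A5 {cs : CoxeterSystem (cA 5) W} {A : Fin 5 → Fin 5 → ℤ} {h : IsCartan (cA 5) A} {T : Subgroup Y}
    {n : Fin 5 → Y} {X : (Fin 5 → ℤ) → Subgroup Y} (R : RGD cs h p T n X) (hq : ∀ i, Nat.card (X (sr i)) = 2) :
    Nat.card (RGD.Sup X (RGD.Pos cs h)) = 2 ^ 15 ∧ Nat.card (VJ cs h X {(2 : Fin 5)}ᶜ) = 2 ^ 9 := by
  have e : A = AA5 := cartan_eq h isCartan_A5 ne_A5.1 ne_A5.2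
  subst e
  exact card_const R posRoots_A5 nodup_A5 hq 2 (by decide +kernel) (by decide +kernel)

theorem card_D6 {cs : CoxeterSystem (Nodes.TypeD.M 4) W} {A : Fin 6 → Fin 6 → ℤ} {h : IsCartan (Nodes.TypeD.M 4) A}
    {T : Subgroup Y} {n : Fin 6 → Y} {X : (Fin 6 → ℤ) → Subgroup Y} (R : RGD cs h p T n X)
    (hq : ∀ i, Nat.card (X (sr i)) = 2) {i : Fin 6} (hi : i = 4 ∨ i = 5) :
    Nat.card (RGD.Sup X (RGD.Pos cs h)) = 2 ^ 30 ∧ Nat.card (VJ cs h X {i}ᶜ) = 2 ^ 15 := by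
  have e : A = AD6 := cartan_eq h isCartan_D6 ne_D6.1 ne_D6.2
  subst e
  rcases hi with rfl | rfl
  · exact card_const R posRoots_D6 nodup_D6 hq 4 (by decide +kernel) (by decide +kernel)
  · exact card_const R posRoots_D6 nodup_D6 hq 5 (by decide +kernel) (by decide +kernel)

theorem card_E7 {cs : CoxeterSystem CoxeterMatrix.E₇ W} {A : Fin 7 → Fin 7 → ℤ} {h : IsCartan CoxeterMatrix.E₇ A}
    {T : Subgroup Y} {n : Fin 7 → Y} {X : (Fin 7 → ℤ) → Subgroup Y} (R : RGD cs h p T n X)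
    (hq : ∀ i, Nat.card (X (sr i)) = 2) :
    Nat.card (RGD.Sup X (RGD.Pos cs h)) = 2 ^ 63 ∧ Nat.card (VJ cs h X {(6 : Fin 7)}ᶜ) = 2 ^ 27 := by
  have e : A = AE7 := cartan_eq h isCartan_E7 ne_E7.1 ne_E7.2
  subst e
  exact card_const R posRoots_E7 (by decide +kernel) hq 6 (by decide +kernel) (by decide +kernel)

/-- the weight of the long roots of `B₃` is `4`, of the short roots `2` -/
def wB (v : Fin 3 → ℤ) : ℕ := if v 2 % 2 = 0 then 4 else 2

/-- the weight of the short roots of `C₃` is `4`, of the long roots `2` -/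
def wC (v : Fin 3 → ℤ) : ℕ := if v 0 % 2 = 0 ∧ v 1 % 2 = 0 then 2 else 4

theorem card_wt {M : CoxeterMatrix (Fin 3)} {cs : CoxeterSystem M W} {A : Fin 3 → Fin 3 → ℤ}
    {h : IsCartan M A} {T : Subgroup Y} {n : Fin 3 → Y} {X : (Fin 3 → ℤ) → Subgroup Y} (R : RGD cs h p T n X)
    {L : List (Fin 3 → ℤ)} (hR : PosRoots A L.toFinset) (hN : L.Nodup) (wt : (Fin 3 → ℤ) → ℕ)
    (hwt : ∀ i, ∀ v ∈ L, v ≠ Pi.single i 1 → wt (refl A i v) = wt v)
    (hq : ∀ i, Nat.card (X (sr i)) = wt (Pi.single i 1)) (i : Fin 3)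
    (h1 : (L.map wt).prod = 2 ^ 15) (h2 : ((L.filter fun v => 0 < v i).map wt).prod = 2 ^ 9) :
    Nat.card (RGD.Sup X (RGD.Pos cs h)) = 2 ^ 15 ∧ Nat.card (VJ cs h X {i}ᶜ) = 2 ^ 9 := by
  have hwt' : ∀ i, ∀ v ∈ L.toFinset, v ≠ Pi.single i 1 → wt (refl A i v) = wt v :=
    fun i v hv => hwt i v (List.mem_toFinset.1 hv)
  constructor
  · rw [CountU.card_U R hR hwt' hq, List.prod_toFinset _ hN, h1]
  · have e : (L.toFinset.filter fun v => 0 < v i) = (L.filter fun v => 0 < v i).toFinset := by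
      ext v
      simp
    rw [CountU.card_VJ_single R hR hwt' hq i, e, List.prod_toFinset _ (hN.filter _)]
    exact h2

set_option backward.isDefEq.respectTransparency false in
theorem B3_vals : (∀ i j : Fin 3, CoxeterMatrix.B 3 i j = if i = j then 1 else
    if (i = 0 ∧ j = 1) ∨ (i = 1 ∧ j = 0) then 3 else if (i = 1 ∧ j = 2) ∨ (i = 2 ∧ j = 1) then 4 else 2) := by
  decide +kernel

theorem cartan_B3 {A : Fin 3 → Fin 3 → ℤ} (h : IsCartan (CoxeterMatrix.B 3) A) : A = AB3 ∨ A = AC3 := by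
  have h01 := h.rel 0 1 (by decide)
  have h02 := h.rel 0 2 (by decide)
  have h12 := h.rel 1 2 (by decide)
  have d0 := h.diag 0
  have d1 := h.diag 1
  have d2 := h.diag 2
  rw [B3_vals] at h01 h02 h12
  have e01 : (if (0 : Fin 3) = 1 then 1 else if ((0 : Fin 3) = 0 ∧ (1 : Fin 3) = 1) ∨ ((0 : Fin 3) = 1 ∧ (1 : Fin 3) = 0) then 3
      else if ((0 : Fin 3) = 1 ∧ (1 : Fin 3) = 2) ∨ ((0 : Fin 3) = 2 ∧ (1 : Fin 3) = 1) then 4 else 2) = 3 := by decide
  have e02 : (if (0 : Fin 3) = 2 then 1 else if ((0 : Fin 3) = 0 ∧ (2 : Fin 3) = 1) ∨ ((0 : Fin 3) = 1 ∧ (2 : Fin 3) = 0) then 3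
      else if ((0 : Fin 3) = 1 ∧ (2 : Fin 3) = 2) ∨ ((0 : Fin 3) = 2 ∧ (2 : Fin 3) = 1) then 4 else 2) = 2 := by decide
  have e12 : (if (1 : Fin 3) = 2 then 1 else if ((1 : Fin 3) = 0 ∧ (2 : Fin 3) = 1) ∨ ((1 : Fin 3) = 1 ∧ (2 : Fin 3) = 0) then 3
      else if ((1 : Fin 3) = 1 ∧ (2 : Fin 3) = 2) ∨ ((1 : Fin 3) = 2 ∧ (2 : Fin 3) = 1) then 4 else 2) = 4 := by decide
  rw [e01] at h01
  rw [e02] at h02
  rw [e12] at h12
  have a01 : A 0 1 = -1 ∧ A 1 0 = -1 := by omega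
  have a02 : A 0 2 = 0 ∧ A 2 0 = 0 := by omega
  have a12 : (A 1 2 = -1 ∧ A 2 1 = -2) ∨ (A 1 2 = -2 ∧ A 2 1 = -1) := by omega
  rcases a12 with a12 | a12
  · left
    funext i j
    fin_cases i <;> fin_cases j
    · exact d0
    · exact a01.1
    · exact a02.1
    · exact a01.2
    · exact d1
    · exact a12.1
    · exact a02.2
    · exact a12.2
    · exact d2
  · right
    funext i j
    fin_cases i <;> fin_cases j
    · exact d0
    · exact a01.1
    · exact a02.1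
    · exact a01.2
    · exact d1
    · exact a12.1
    · exact a02.2
    · exact a12.2
    · exact d2

theorem card_B3 {cs : CoxeterSystem (CoxeterMatrix.B 3) W} {A : Fin 3 → Fin 3 → ℤ} {h : IsCartan (CoxeterMatrix.B 3) A}
    {T : Subgroup Y} {n : Fin 3 → Y} {X : (Fin 3 → ℤ) → Subgroup Y} (R : RGD cs h p T n X)
    (hq : ∀ i, Nat.card (X (sr i)) = (![4, 4, 2] : Fin 3 → ℕ) i) :
    Nat.card (RGD.Sup X (RGD.Pos cs h)) = 2 ^ 15 ∧ Nat.card (VJ cs h X {(2 : Fin 3)}ᶜ) = 2 ^ 9 := by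
  rcases cartan_B3 h with e | e
  · subst e
    refine card_wt R posRoots_B3 nodup_B3 wB (by decide +kernel) ?_ 2 (by decide +kernel) (by decide +kernel)
    intro i
    rw [hq]
    have key : ∀ i : Fin 3, (![4, 4, 2] : Fin 3 → ℕ) i = wB (Pi.single i 1) := by decide +kernel
    exact key i
  · subst e
    refine card_wt R posRoots_C3 nodup_C3 wC (by decide +kernel) ?_ 2 (by decide +kernel) (by decide +kernel)
    intro i
    rw [hq]
    have key : ∀ i : Fin 3, (![4, 4, 2] : Fin 3 → ℕ) i = wC (Pi.single i 1) := by decide +kernel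
    exact key i

end orders

/-! ### the extended diagrams -/

/-- `A₅ + 0 = E₆` -/
def eA : Option (Fin 5) ≃ Fin 6 where
  toFun := fun o => match o with
    | none => 1
    | some i => (![0, 2, 3, 4, 5] : Fin 5 → Fin 6) i
  invFun := ![some 0, none, some 1, some 2, some 3, some 4]
  left_inv := by decide
  right_inv := by decide

/-- `D₆ + 0 = E₇`, node 4 -/
def eD : Option (Fin 6) ≃ Fin 7 where
  toFun := fun o => match o with
    | none => 0
    | some i => (![6, 5, 4, 3, 2, 1] : Fin 6 → Fin 7) i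
  invFun := ![none, some 5, some 4, some 3, some 2, some 1, some 0]
  left_inv := by decide
  right_inv := by decide

/-- `D₆ + 0 = E₇`, node 5 -/
def eD' : Option (Fin 6) ≃ Fin 7 where
  toFun := fun o => match o with
    | none => 0
    | some i => (![6, 5, 4, 3, 1, 2] : Fin 6 → Fin 7) i
  invFun := ![none, some 4, some 5, some 3, some 2, some 1, some 0]
  left_inv := by decide
  right_inv := by decide

/-- `E₇ + 0 = E₈` -/
def eE : Option (Fin 7) ≃ Fin 8 where
  toFun := fun o => match o with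
    | none => 7
    | some i => (![0, 1, 2, 3, 4, 5, 6] : Fin 7 → Fin 8) i
  invFun := ![some 0, some 1, some 2, some 3, some 4, some 5, some 6, none]
  left_inv := by decide
  right_inv := by decide

/-- `B₃ + 0 = F₄` -/
def eB : Option (Fin 3) ≃ Fin 4 where
  toFun := fun o => match o with
    | none => 3
    | some i => (![0, 1, 2] : Fin 3 → Fin 4) i
  invFun := ![some 0, some 1, some 2, none]
  left_inv := by decide
  right_inv := by decide

theorem cox_ext {B : Type*} {M M' : CoxeterMatrix B} (h : ∀ i j, M i j = M' i j) : M = M' := by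
  cases M; cases M'
  congr
  exact funext fun i => funext fun j => h i j

set_option backward.isDefEq.respectTransparency false in
theorem ext_A : (extM (cA 5) {(2 : Fin 5)}).reindex eA = CoxeterMatrix.E₆ := by
  apply cox_ext
  decide +kernel

set_option backward.isDefEq.respectTransparency false in
theorem ext_D : (extM (Nodes.TypeD.M 4) {(4 : Fin 6)}).reindex eD = CoxeterMatrix.E₇ := by
  apply cox_ext
  decide +kernel

set_option backward.isDefEq.respectTransparency false in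
theorem ext_D' : (extM (Nodes.TypeD.M 4) {(5 : Fin 6)}).reindex eD' = CoxeterMatrix.E₇ := by
  apply cox_ext
  decide +kernel

set_option backward.isDefEq.respectTransparency false in
theorem ext_E : (extM CoxeterMatrix.E₇ {(6 : Fin 7)}).reindex eE = CoxeterMatrix.E₈ := by
  apply cox_ext
  decide +kernel

set_option backward.isDefEq.respectTransparency false in
theorem ext_B : (extM (CoxeterMatrix.B 3) {(2 : Fin 3)}).reindex eB = CoxeterMatrix.F₄ := by
  apply cox_ext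
  decide +kernel

open Cfsg.Agent.Omega.ThmID (qq)

theorem qq_two {I : Type*} {q : I → ℕ} (hq : ∀ i, q i = 2) (o : Option I) : qq q o = 2 := by
  cases o with
  | none => rfl
  | some i => exact hq i

theorem hasQ_A {q : Fin 5 → ℕ} (hq : ∀ i, q i = 2) : HasQ (extM (cA 5) {(2 : Fin 5)}) (qq q) (2 ^ 36) :=
  hasQ_E6 eA ext_A (qq_two hq)

theorem hasQ_D6 {q : Fin 6 → ℕ} (hq : ∀ i, q i = 2) {i : Fin 6} (hi : i = 4 ∨ i = 5) :
    HasQ (extM (Nodes.TypeD.M 4) {i}) (qq q) (2 ^ 63) := by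
  rcases hi with rfl | rfl
  · exact hasQ_E7 eD ext_D (qq_two hq)
  · exact hasQ_E7 eD' ext_D' (qq_two hq)

theorem hasQ_E {q : Fin 7 → ℕ} (hq : ∀ i, q i = 2) : HasQ (extM CoxeterMatrix.E₇ {(6 : Fin 7)}) (qq q) (2 ^ 120) :=
  hasQ_E8 eE ext_E (qq_two hq)

theorem hasQ_B {q : Fin 3 → ℕ} (hq : ∀ i, q i = (![4, 4, 2] : Fin 3 → ℕ) i) :
    HasQ (extM (CoxeterMatrix.B 3) {(2 : Fin 3)}) (qq q) (2 ^ 36) := by
  have e : q = ![4, 4, 2] := funext hq
  subst e
  have h1 := hasQ_F4 (q := qq (![4, 4, 2] : Fin 3 → ℕ)) eB ext_B (x := 4) (y := 2) (by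
    intro o
    cases o with
    | none => rfl
    | some i =>
      have key : ∀ i : Fin 3, (![4, 4, 2] : Fin 3 → ℕ) i = if ((eB (some i) : Fin 4) : ℕ) < 2 then 4 else 2 := by decide
      exact key i)
  have h2 : 4 ^ 12 * 2 ^ 12 = 2 ^ 36 := by norm_num
  rwa [h2] at h1

theorem conn_A5 : ∀ J : Set (Option (Fin 5)), J.Nonempty → Jᶜ.Nonempty →
    ∃ i ∈ J, ∃ j ∈ Jᶜ, extM (cA 5) {(2 : Fin 5)} i j ≠ 2 := conn_E6 eA ext_A

theorem conn_D6 {i : Fin 6} (hi : i = 4 ∨ i = 5) : ∀ J : Set (Option (Fin 6)), J.Nonempty → Jᶜ.Nonempty →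
    ∃ k ∈ J, ∃ j ∈ Jᶜ, extM (Nodes.TypeD.M 4) {i} k j ≠ 2 := by
  rcases hi with rfl | rfl
  · exact conn_E7 eD ext_D
  · exact conn_E7 eD' ext_D'

theorem conn_E : ∀ J : Set (Option (Fin 7)), J.Nonempty → Jᶜ.Nonempty →
    ∃ i ∈ J, ∃ j ∈ Jᶜ, extM CoxeterMatrix.E₇ {(6 : Fin 7)} i j ≠ 2 := conn_E8 eE ext_E

theorem conn_B3 : ∀ J : Set (Option (Fin 3)), J.Nonempty → Jᶜ.Nonempty →
    ∃ i ∈ J, ∃ j ∈ Jᶜ, extM (CoxeterMatrix.B 3) {(2 : Fin 3)} i j ≠ 2 := conn_F4 eB ext_B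

end Cfsg.Agent.Omega.EH3Close.Numb
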