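import Cfsg.Agent.Nodes.NormalForm
import Cfsg.Agent.ParSys.Fam.Rgd

/-!
# The module facts for the local quadratic bound (helper805)

`R : RGD cs h 2 T n X` on `Y`, `ρ : Y → GL(V)`, `V` over `F₂`, `C_V(U) = {0, a}`, the minimal parabolics of the nodes
`j ≠ i` fix `a`, `n i` moves `a`, `|X_i| = 2`.

* `star` : `x (g n_i a) = g n_i a + a` for `1 ≠ x ∈ X (u α_i)`, `g` over `u ∈ W_{I - i}`;
* `kill` : `θ = u' α_i`, `β = u α_i` orthogonal, `u ∈ W_{J - i}`, `i ∈ J`, `z₀ ∈ X θ`, `x ∈ X β` nontrivial, `y ∈ V_J`: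
  `(x y - 1) (z₀ - 1) ≠ 0` on `V`.
-/

set_option autoImplicit false
set_option linter.unusedSectionVars false

namespace Cfsg.Agent.Omega.EH3Close.Star

open CoxeterSystem Cfsg.Agent.ChevalleyStructure.CoxeterGeom Cfsg.Agent.Tits.Roots Cfsg.Agent.Tits.Core
  Cfsg.Agent.Tits.RootComb Cfsg.Agent.Nodes.Comb Cfsg.Agent.Nodes.Reps Cfsg.Agent.Nodes.BNOf
  Cfsg.Agent.Nodes.StabComb Cfsg.Agent.Nodes.Bruhat Cfsg.Agent.Nodes.LeviDec Cfsg.Agent.Nodes.NormalForm
  Cfsg.Agent.ParSys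

variable {I W Y V : Type*} [Fintype I] [DecidableEq I] [Group W] [Group Y] [AddCommGroup V] [Module (ZMod 2) V]
  {M : CoxeterMatrix I} {cs : CoxeterSystem M W} {A : I → I → ℤ} {h : IsCartan M A} {T : Subgroup Y} {n : I → Y}
  {X : (I → ℤ) → Subgroup Y}

/-- the module -/
structure Mod (cs : CoxeterSystem M W) (h : IsCartan M A) (T : Subgroup Y) (n : I → Y) (X : (I → ℤ) → Subgroup Y)
    (ρ : Y →* (V ≃ₗ[ZMod 2] V)) (a : V) (i : I) : Prop where
  rgd : RGD cs h 2 T n X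
  ne : a ≠ 0
  fixB : ∀ g ∈ RGD.B cs h T X, ρ g a = a
  fixn : ∀ j, j ≠ i → ρ (n j) a = a
  two : Nat.card (X (sr i)) = 2
  move : ρ (n i) a ≠ a
  cen : ∀ v, (∀ g ∈ RGD.Sup X (RGD.Pos cs h), ρ g v = v) → v = 0 ∨ v = a

theorem add_self' (v : V) : v + v = 0 := by
  have h1 := add_smul (1 : ZMod 2) 1 v
  rw [one_smul, show (1 : ZMod 2) + 1 = 0 from by decide, zero_smul] at h1
  exact h1.symm

theorem rmul (ρ : Y →* (V ≃ₗ[ZMod 2] V)) (g k : Y) (v : V) : ρ (g * k) v = ρ g (ρ k v) := by rw [map_mul]; rfl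

theorem rone (ρ : Y →* (V ≃ₗ[ZMod 2] V)) (v : V) : ρ 1 v = v := by rw [map_one]; rfl

theorem rinv (ρ : Y →* (V ≃ₗ[ZMod 2] V)) {g : Y} {v u : V} (h : ρ g v = u) : ρ g⁻¹ u = v := by
  rw [← h, ← rmul, inv_mul_cancel, rone]

namespace Mod

variable {ρ : Y →* (V ≃ₗ[ZMod 2] V)} {a : V} {i : I} (D : Mod cs h T n X ρ a i)

include D

theorem fixU {g : Y} (hg : g ∈ RGD.Sup X (RGD.Pos cs h)) : ρ g a = a := D.fixB g (RGD.U_le_B hg)

theorem fixT {t : Y} (ht : t ∈ T) : ρ t a = a := D.fixB t (RGD.T_le_B ht)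

theorem fix_rp {w : W} (hw : w ∈ WJ cs {i}ᶜ) : ∀ g, Rp cs D.rgd.nsys w g → ρ g a = a := by
  induction hw using Subgroup.closure_induction with
  | mem y hy =>
    obtain ⟨j, hj, rfl⟩ := hy
    intro g hg
    have h1 := D.fixT ((rp_simple cs D.rgd.nsys j).unique hg)
    have e : g = n j * ((n j)⁻¹ * g) := by group
    rw [e, rmul, h1]
    exact D.fixn j hj
  | one =>
    intro g hg
    have h1 := D.fixT ((rp_one (cs := cs) (hN := D.rgd.nsys)).unique hg)
    rwa [inv_one, one_mul] at h1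
  | mul x y _ _ ihx ihy =>
    intro g hg
    obtain ⟨k, hk⟩ := exists_rp cs D.rgd.nsys x
    obtain ⟨l, hl⟩ := exists_rp cs D.rgd.nsys y
    have h1 := D.fixT ((hk.mul hl).unique hg)
    have e : g = k * l * ((k * l)⁻¹ * g) := by group
    rw [e, rmul, h1, rmul, ihy l hl, ihx k hk]
  | inv x _ ih =>
    intro g hg
    have h1 := ih g⁻¹ (by have := hg.inv; rwa [inv_inv] at this)
    have := rinv ρ h1
    rwa [inv_inv] at this

/-- `X_i = {1, x}` -/
theorem eq_of_two {x y : Y} (hx : x ∈ X (sr i)) (hx1 : x ≠ 1) (hy : y ∈ X (sr i)) : y = 1 ∨ y = x := by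
  have h2 := D.two
  classical
  by_contra hcon
  push Not at hcon
  have : Finite (X (sr i)) := Nat.finite_of_card_ne_zero (by rw [h2]; norm_num)
  have h3 : ({⟨1, one_mem _⟩, ⟨x, hx⟩, ⟨y, hy⟩} : Finset (X (sr i))).card = 3 := by
    rw [Finset.card_eq_three]
    refine ⟨_, _, _, ?_, ?_, ?_, rfl⟩
    · intro e; exact hx1 (congrArg Subtype.val e).symm
    · intro e; exact hcon.1 (congrArg Subtype.val e).symm
    · intro e; exact hcon.2 (congrArg Subtype.val e).symm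
  have : Fintype (X (sr i)) := Fintype.ofFinite _
  have h4 := Finset.card_le_univ ({⟨1, one_mem _⟩, ⟨x, hx⟩, ⟨y, hy⟩} : Finset (X (sr i)))
  rw [← Nat.card_eq_fintype_card, h2, h3] at h4
  omega

theorem sq_eq {x : Y} (hx : x ∈ X (sr i)) : x * x = 1 := by
  have h2 := D.two
  have h3 : (⟨x, hx⟩ : X (sr i)) ^ Nat.card (X (sr i)) = 1 := pow_card_eq_one'
  rw [h2, pow_two] at h3
  exact congrArg Subtype.val h3

variable [Finite W]

/-- `x n_i a = n_i a + a` -/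
theorem star_simple {x : Y} (hx : x ∈ X (sr i)) (hx1 : x ≠ 1) : ρ x (ρ (n i) a) = ρ (n i) a + a := by
  have R := D.rgd
  set b := ρ (n i) a with hb
  set c := ρ x b with hc
  have hxU : x ∈ RGD.Sup X (RGD.Pos cs h) :=
    RGD.le_Sup (S := RGD.Pos cs h) ⟨isRoot_sr cs h i, sr_nonneg i⟩ hx
  -- `V_i` fixes `b`, `c`
  have hVb : ∀ v ∈ RGD.Sup X (RGD.PosNe cs h i), ρ v b = b := by
    intro v hv
    have h1 := D.fixB _ (Fam.V_conj_mem_B R i hv)
    rw [hb, ← rmul, show v * n i = n i * ((n i)⁻¹ * v * n i) by group, rmul, h1]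
  have hVc : ∀ v ∈ RGD.Sup X (RGD.PosNe cs h i), ρ v c = c := by
    intro v hv
    have h1 := R.X_le_normalizer_V i (inv_mem hx)
    have h2 := (Subgroup.mem_normalizer_iff.1 h1 v).1 hv
    rw [inv_inv] at h2
    rw [hc, ← rmul, show v * x = x * (x⁻¹ * v * x) by group, rmul, hVb _ h2]
  have hVa : ∀ v ∈ RGD.Sup X (RGD.PosNe cs h i), ρ v a = a := fun v hv =>
    D.fixU (RGD.Sup_mono (S := RGD.PosNe cs h i) (S' := RGD.Pos cs h) (fun z hz => ⟨hz.1, hz.2.1⟩) hv)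
  have hxc : ρ x c = b := by rw [hc, ← rmul, D.sq_eq hx, rone]
  -- a vector fixed by `V_i` and `x` is `0` or `a`
  have key : ∀ u, (∀ v ∈ RGD.Sup X (RGD.PosNe cs h i), ρ v u = u) → ρ x u = u → u = 0 ∨ u = a := by
    intro u h1 h2
    refine D.cen u fun g hg => ?_
    obtain ⟨v, hv, y, hy, e⟩ := Fam.exists_V_mul R i hg
    rw [e, rmul]
    rcases D.eq_of_two hx hx1 hy with rfl | rfl
    · rw [rone]; exact h1 v hv
    · rw [h2]; exact h1 v hv
  have h1 := key (a + b + c) (fun v hv => by rw [map_add, map_add, hVa v hv, hVb v hv, hVc v hv]) (by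
    rw [map_add, map_add, D.fixU hxU, hxc, ← hc]; abel)
  rcases h1 with h1 | h1
  · have h2 : c = b + a := by
      have h3 : c = c + (a + b + c) := by rw [h1, add_zero]
      have h4 : c + (a + b + c) = (c + c) + (b + a) := by abel
      rw [h3, h4, add_self', zero_add]
    exact h2
  · exfalso
    have h2 : b = c := by
      have h3 : b + c = 0 := by
        have h4 : a + b + c = a + (b + c) := by abel
        rw [h4] at h1
        exact (add_eq_left.1 h1)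
      have h4 : b = b + (b + c) := by rw [h3, add_zero]
      rw [h4, ← add_assoc, add_self', zero_add]
    rcases key b hVb (by rw [← hc, ← h2]) with h3 | h3
    · apply D.ne
      have h4 := rinv ρ (hb.symm.trans h3)
      rw [map_zero] at h4
      exact h4.symm
    · exact D.move h3

/-- `x (g n_i a) = g n_i a + a`, `1 ≠ x ∈ X (u α_i)`, `g` over `u ∈ W_{I - i}` -/
theorem star {u : W} (hu : u ∈ WJ cs {i}ᶜ) {g : Y} (hg : Rp cs D.rgd.nsys u g) {x : Y}
    (hx : x ∈ X (rep cs h u (sr i))) (hx1 : x ≠ 1) : ρ x (ρ (g * n i) a) = ρ (g * n i) a + a := by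
  have h1 := D.rgd.conj_mem' hg ((isRoot_sr cs h i).act u) hx
  rw [rep_inv_apply] at h1
  have h2 : g⁻¹ * x * g ≠ 1 := by
    intro h3
    apply hx1
    have : x = g * (g⁻¹ * x * g) * g⁻¹ := by group
    rw [this, h3]; group
  have h3 := D.star_simple h1 h2
  have h4 := D.fix_rp hu g hg
  calc ρ x (ρ (g * n i) a) = ρ g (ρ (g⁻¹ * x * g) (ρ (n i) a)) := by
        rw [← rmul, ← rmul, ← rmul]
        congr 2
        group
    _ = ρ (g * n i) a + a := by rw [h3, map_add, ← rmul, h4]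

/-- **The kill.** -/
theorem kill {J : Set I} (hi : i ∈ J) {u u' : W} (hu : u ∈ WJ cs (J \ {i})) (hu' : u' ∈ WJ cs {i}ᶜ)
    (ho : rep cs h (u * cs.simple i * u⁻¹) (rep cs h u' (sr i)) = rep cs h u' (sr i)) {z x y : Y}
    (hz : z ∈ X (rep cs h u' (sr i))) (hz1 : z ≠ 1) (hx : x ∈ X (rep cs h u (sr i))) (hx1 : x ≠ 1)
    (hy : y ∈ VJ cs h X J) : ∃ v, ρ (x * y) (ρ z v + v) ≠ ρ z v + v := by
  have R := D.rgd
  obtain ⟨g, hg⟩ := exists_rp cs R.nsys u
  obtain ⟨g', hg'⟩ := exists_rp cs R.nsys u'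
  have huc : u ∈ WJ cs {i}ᶜ := by
    have h1 : J \ {i} ⊆ ({i} : Set I)ᶜ := fun j hj => hj.2
    exact Subgroup.closure_mono (Set.image_mono h1) hu
  have huJ : u ∈ WJ cs J := by
    have h1 : J \ {i} ⊆ J := fun j hj => hj.1
    exact Subgroup.closure_mono (Set.image_mono h1) hu
  have hk : Rp cs R.nsys (u * cs.simple i * u⁻¹) (g * n i * g⁻¹) := (hg.mul (rp_simple cs R.nsys i)).mul hg.inv
  have hkJ : g * n i * g⁻¹ ∈ LJ cs h T X J :=
    rp_mem_LJ R (mul_mem (mul_mem huJ (Cfsg.Agent.Tits.Exchange.simple_mem_WJ cs hi)) (inv_mem huJ)) hk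
  set k := g * n i * g⁻¹ with hkdef
  -- `t = k a`
  have ht : ρ k a = ρ (g * n i) a := by
    have h1 := rinv ρ (D.fix_rp huc g hg)
    rw [hkdef, rmul, h1]
  set t := ρ (g * n i) a with htdef
  have hxt : ρ x t = t + a := D.star huc hg hx hx1
  have hyt : ρ y t = t := by
    have h1 := Subgroup.mem_normalizer_iff.1 (inv_mem (LJ_le_normalizer_VJ R J hkJ)) y
    have h2 := h1.1 hy
    rw [inv_inv] at h2
    have h3 := D.fixU (VJ_le_U J h2)
    rw [← ht, ← rmul, show y * k = k * (k⁻¹ * y * k) by group, rmul, h3]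
  refine ⟨ρ k (ρ (g' * n i) a), ?_⟩
  have hz2 := R.conj_mem' hk ((isRoot_sr cs h i).act u') hz
  have ho' : rep cs h (u * cs.simple i * u⁻¹)⁻¹ (rep cs h u' (sr i)) = rep cs h u' (sr i) := by
    nth_rewrite 1 [← ho]
    rw [rep_inv_apply]
  rw [ho'] at hz2
  have hz3 : k⁻¹ * z * k ≠ 1 := by
    intro h3
    apply hz1
    have : z = k * (k⁻¹ * z * k) * k⁻¹ := by group
    rw [this, h3]; group
  have h4 := D.star hu' hg' hz2 hz3
  have h5 : ρ z (ρ k (ρ (g' * n i) a)) = ρ k (ρ (g' * n i) a) + t := by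
    rw [← rmul, show z * k = k * (k⁻¹ * z * k) by group, rmul, h4, map_add, ht]
  have h6 : ρ z (ρ k (ρ (g' * n i) a)) + ρ k (ρ (g' * n i) a) = t := by
    rw [h5, add_assoc, add_comm t, ← add_assoc, add_self', zero_add]
  rw [h6, rmul, hyt, hxt]
  intro h7
  exact D.ne (add_eq_left.1 h7)

end Mod

end Cfsg.Agent.Omega.EH3Close.Star
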