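import Cfsg.Agent.Omega.EH3Close.DualRgd
import Cfsg.Agent.Omega.EH3Close.Star
import Cfsg.Agent.Omega.EH3Close.Numb

/-!
# `B₃` and `C₃` are the same for a root group datum (piece D1 of helper805's #17442)

* `modOf` : `Star.Mod` over the transposed Cartan matrix;
* `sc_B3` : the scaling data from `AB3` to `AC3`;
* `to_C3` : WLOG the Cartan matrix of type `B 3` is `AC3` (nodes `0, 1` short, node `2` long).
-/

set_option autoImplicit false

namespace Cfsg.Agent.Omega.EH3Close.DualRgd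

open CoxeterSystem Cfsg.Agent.ChevalleyStructure.CoxeterGeom Cfsg.Agent.Tits.Roots Cfsg.Agent.Nodes.Reps
  Cfsg.Agent.Nodes.BNOf Cfsg.Agent.Nodes.StabComb Cfsg.Agent.Nodes.Bruhat Cfsg.Agent.Nodes.LeviDec
  Cfsg.Agent.Omega.EH3Close.Roots

variable {I W Y V : Type*} [Fintype I] [DecidableEq I] [Group W] [Group Y] [AddCommGroup V] [Module (ZMod 2) V]
  {M : CoxeterMatrix I} {cs : CoxeterSystem M W} {A A' : I → I → ℤ} {h : IsCartan M A} {h' : IsCartan M A'}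
  {T : Subgroup Y} {n : I → Y} {X : (I → ℤ) → Subgroup Y} {ρ : Y →* (V ≃ₗ[ZMod 2] V)} {a : V} {i : I}

theorem modOf {D : I → ℤ} (S : Sc A A' D) (m : Star.Mod cs h T n X ρ a i) :
    Star.Mod cs h' T n (dX cs h h' X) ρ a i where
  rgd := rgd S m.rgd
  ne := m.ne
  fixB g hg := m.fixB g (by rwa [B_eq S] at hg)
  fixn := m.fixn
  two := by rw [dX_sr S]; exact m.two
  move := m.move
  cen v hv := m.cen v (by rwa [Sup_pos S] at hv)

theorem sc_B3 : Sc AB3 AC3 ![2, 2, 1] where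
  pos := by decide
  sym := by decide
  tr := by decide

/-- WLOG the Cartan matrix is `AC3`. -/
theorem to_C3 {W : Type*} [Group W] {cs : CoxeterSystem (CoxeterMatrix.B 3) W} {A : Fin 3 → Fin 3 → ℤ}
    {h : IsCartan (CoxeterMatrix.B 3) A} {T : Subgroup Y} {n : Fin 3 → Y} {X : (Fin 3 → ℤ) → Subgroup Y}
    {ρ : Y →* (V ≃ₗ[ZMod 2] V)} {a : V} {i : Fin 3} (m : Star.Mod cs h T n X ρ a i) :
    ∃ (h' : IsCartan (CoxeterMatrix.B 3) AC3) (X' : (Fin 3 → ℤ) → Subgroup Y), Star.Mod cs h' T n X' ρ a i ∧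
      (∀ j, X' (sr j) = X (sr j)) ∧ RGD.Sup X' (RGD.Pos cs h') = RGD.Sup X (RGD.Pos cs h) ∧
      (∀ J, VJ cs h' X' J = VJ cs h X J) ∧ (∀ J, PJ cs h' T X' J = PJ cs h T X J) := by
  rcases Numb.cartan_B3 h with rfl | rfl
  · have h' : IsCartan (CoxeterMatrix.B 3) AC3 := sc_B3.isCartan h
    exact ⟨h', dX cs h h' X, modOf sc_B3 m, fun j => dX_sr sc_B3 j, Sup_pos sc_B3, fun J => VJ_eq sc_B3 J,
      fun J => PJ_eq sc_B3 J⟩
  · exact ⟨h, X, m, fun _ => rfl, rfl, fun _ => rfl, fun _ => rfl⟩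

end Cfsg.Agent.Omega.EH3Close.DualRgd
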