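import Cfsg.Agent.Omega.EH3Close.Glue
import Cfsg.Agent.Omega.EH3Close.Numb
import Cfsg.Agent.Omega.EH3.Kf.Goal

/-!
# EH3 END, glue 2: the output `Four` of KF gives the (B,N)-pair of `⟨A, MM p L⟩`

`num` : the orders in the four cases;  `At` : the data of `Four`, unpacked;  `At.exists_bnPair` : the (B,N)-pair of
`G0 = ⟨A, MM p L⟩` with Borel subgroup `B^` (preimage of `B`);  `At.conj`, `At.conj_V` : `C_G(z)` and
`N_G(⟨z, a⟩)` normalise `G0`.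
-/

set_option autoImplicit false

namespace Cfsg.Agent.Omega.EH3Close.Fin4

open CoxeterSystem Cfsg.Agent.ChevalleyStructure.CoxeterGeom Cfsg.Agent.Tits.Roots Cfsg.Agent.Tits.Core
  Cfsg.Agent.Tits.RootComb Cfsg.Agent.Nodes.Comb Cfsg.Agent.Nodes.Reps Cfsg.Agent.Nodes.BNOf
  Cfsg.Agent.Nodes.StabComb Cfsg.Agent.Nodes.Bruhat Cfsg.Agent.Nodes.LeviDec Cfsg.Agent.Nodes.NormalForm
  Cfsg.Agent.ParSys Cfsg.Agent.ParSys.FreeCount Cfsg.Agent.Omega.ThmID Cfsg.Agent.Omega.EH3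
  Cfsg.Agent.Co2Type.Quad Cfsg.Agent.LargeExtra.Base Cfsg.Agent.Omega.EH3Close.Glue
open Cfsg.Agent.Omega.EH3.Kf.Goal (Good Four)
open Cfsg.Agent.Omega.EH3.Kf.Out (OutAt)

/-- the numbers in the four cases -/
theorem num {Y : Type*} [Group Y] {l : ℕ} {M : CoxeterMatrix (Fin l)} {q : Fin l → ℕ} {i : Fin l} (hg : Good M q i)
    [Finite M.Group] {A' : Fin l → Fin l → ℤ} {h : IsCartan M A'} {T : Subgroup Y} {n : Fin l → Y}
    {X : (Fin l → ℤ) → Subgroup Y} (R : RGD M.toCoxeterSystem h 2 T n X) (hq : ∀ j, Nat.card (X (sr j)) = q j) :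
    q i = 2 ∧ (∀ j, 2 ≤ q j) ∧ 3 ≤ Nat.card (Option (Fin l)) ∧ ∃ u v : ℕ,
      Nat.card (RGD.Sup X (RGD.Pos M.toCoxeterSystem h)) = 2 ^ u ∧
      Nat.card (VJ M.toCoxeterSystem h X {i}ᶜ) = 2 ^ v ∧ HasQ (extM M {i}) (qq q) (2 ^ (2 * v + 3 + u)) ∧
      ∀ J : Set (Option (Fin l)), J.Nonempty → Jᶜ.Nonempty → ∃ k ∈ J, ∃ j ∈ Jᶜ, extM M {i} k j ≠ 2 := by
  cases hg with
  | A5 =>
    obtain ⟨h1, h2⟩ := Numb.card_A5 R hq
    exact ⟨rfl, fun _ => le_rfl, by rw [Nat.card_eq_fintype_card]; decide, 15, 9, h1, h2,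
      Numb.hasQ_A fun _ => rfl, Numb.conn_A5⟩
  | D6 =>
    obtain ⟨h1, h2⟩ := Numb.card_D6 R hq (i := 4) (Or.inl rfl)
    exact ⟨rfl, fun _ => le_rfl, by rw [Nat.card_eq_fintype_card]; decide, 30, 15, h1, h2,
      Numb.hasQ_D6 (fun _ => rfl) (Or.inl rfl), Numb.conn_D6 (Or.inl rfl)⟩
  | D6' =>
    obtain ⟨h1, h2⟩ := Numb.card_D6 R hq (i := 5) (Or.inr rfl)
    exact ⟨rfl, fun _ => le_rfl, by rw [Nat.card_eq_fintype_card]; decide, 30, 15, h1, h2,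
      Numb.hasQ_D6 (fun _ => rfl) (Or.inr rfl), Numb.conn_D6 (Or.inr rfl)⟩
  | E7 =>
    obtain ⟨h1, h2⟩ := Numb.card_E7 R hq
    exact ⟨rfl, fun _ => le_rfl, by rw [Nat.card_eq_fintype_card]; decide, 63, 27, h1, h2,
      Numb.hasQ_E fun _ => rfl, Numb.conn_E⟩
  | C3 =>
    obtain ⟨h1, h2⟩ := Numb.card_B3 R hq
    exact ⟨rfl, by decide, by rw [Nat.card_eq_fintype_card]; decide, 15, 9, h1, h2,
      Numb.hasQ_B fun _ => rfl, Numb.conn_B3⟩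

variable {G : Type*} [Group G] {Q A : Subgroup G} {z a : G}

/-- the data of `Four`, unpacked -/
structure At (p : Pair Q z A a) {l : ℕ} {M : CoxeterMatrix (Fin l)} (q : Fin l → ℕ) (i : Fin l)
    {A' : Fin l → Fin l → ℤ} (h : IsCartan M A') (L : Subgroup p.H) (T : Subgroup L) (n : Fin l → L)
    (X : (Fin l → ℤ) → Subgroup L) : Prop where
  good : Good M q i
  fin : Finite M.Group
  normal : L.Normal
  odd : ∀ g : p.H, Odd (orderOf g) → g ∈ L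
  X0 : p.X.subgroupOf p.H = (VJ M.toCoxeterSystem h X {i}ᶜ).map L.subtype
  rgd : RGD M.toCoxeterSystem h 2 T n X
  gen : GG M.toCoxeterSystem h T X = ⊤
  fix : ∀ j, j ≠ i → ∀ g ∈ PJ M.toCoxeterSystem h T X {j}, (p.H.subtype (g : p.H) : p.lz.V ≃ₗ[ZMod 2] p.lz.V) p.va = p.va
  card : ∀ j, Nat.card (X (sr j)) = q j
  cent : ∀ v, (∀ g ∈ RGD.Sup X (RGD.Pos M.toCoxeterSystem h),
    (p.H.subtype (g : p.H) : p.lz.V ≃ₗ[ZMod 2] p.lz.V) v = v) → v = 0 ∨ v = p.va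

/-- `Four`, unpacked -/
theorem exists_at {p : Pair Q z A a}
    (F : Four (p.H.subtype : p.H →* (p.lz.V ≃ₗ[ZMod 2] p.lz.V)) p.va (p.X.subgroupOf p.H)) :
    ∃ (l : ℕ) (M : CoxeterMatrix (Fin l)) (q : Fin l → ℕ) (i : Fin l) (A' : Fin l → Fin l → ℤ) (h : IsCartan M A')
      (L : Subgroup p.H) (T : Subgroup L) (n : Fin l → L) (X : (Fin l → ℤ) → Subgroup L), At p q i h L T n X := by
  obtain ⟨l, M, q, i, A', h, hg, hf, L, T, n, X, h1, h2, h3, h4, h5, h6, h7, h8⟩ := F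
  exact ⟨l, M, q, i, A', h, L, T, n, X, ⟨hg, hf, h1, h2, h3, h4, h5, h6, h7, h8⟩⟩

namespace At

variable {p : Pair Q z A a} {l : ℕ} {M : CoxeterMatrix (Fin l)} {q : Fin l → ℕ} {i : Fin l}
  {A' : Fin l → Fin l → ℤ} {h : IsCartan M A'} {L : Subgroup p.H} {T : Subgroup L} {n : Fin l → L}
  {X : (Fin l → ℤ) → Subgroup L}

theorem X0_le (D : At p q i h L T n X) : p.X.subgroupOf p.H ≤ L := by
  rw [D.X0]
  rintro _ ⟨x, -, rfl⟩
  exact x.2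

variable [Finite G] {w : ℕ}

/-- `C_G(z)` normalises `G0` -/
theorem conj (D : At p q i h L T n X) {g : G} (hg : g * z = z * g) {x : G} (hx : x ∈ A ⊔ MM p L) :
    g * x * g⁻¹ ∈ A ⊔ MM p L := by
  have := D.fin
  exact (lev D.normal D.odd D.X0_le D.rgd D.gen D.cent).conj_G0 hg hx

/-- `N_G(⟨z, a⟩)` normalises `G0` -/
theorem conj_V (D : At p q i h L T n X) {g : G}
    (hg : g * z * g⁻¹ = z ∨ g * z * g⁻¹ = a ∨ g * z * g⁻¹ = a * z) {x : G} (hx : x ∈ A ⊔ MM p L) :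
    g * x * g⁻¹ ∈ A ⊔ MM p L := by
  have := D.fin
  exact (lev D.normal D.odd D.X0_le D.rgd D.gen D.cent).conj_G0_V hg hx

end At

end Cfsg.Agent.Omega.EH3Close.Fin4
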