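import Cfsg.Agent.Omega.EH3Close.LocSL

/-!
# The local quadratic bound, the rows `A₅` (2), `D₆` (4, 5), `E₇` (6) (helper805)

`|Ab| ≤ 2^5, 2^10, 2^17`.
-/

set_option autoImplicit false
set_option linter.unusedSectionVars false

namespace Cfsg.Agent.Omega.EH3Close.LocRow

open CoxeterSystem Cfsg.Agent.ChevalleyStructure.CoxeterGeom Cfsg.Agent.Tits.Roots Cfsg.Agent.Tits.Core
  Cfsg.Agent.Tits.RootComb Cfsg.Agent.Nodes.Comb Cfsg.Agent.Nodes.Reps Cfsg.Agent.Nodes.BNOf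
  Cfsg.Agent.Nodes.StabComb Cfsg.Agent.Nodes.Bruhat Cfsg.Agent.Nodes.LeviDec Cfsg.Agent.Nodes.Coroot
  Cfsg.Agent.ParSys.RootCount Cfsg.Agent.ParSys.RootExc Cfsg.Agent.KFacts.RgdSL
  Cfsg.Agent.Omega.EH3Close.Roots Cfsg.Agent.Omega.EH3Close.Numb Cfsg.Agent.Omega.EH3Close.LocSL
open Cfsg.Agent.LieRecognition.BNCox (cA)

instance decChk {k : ℕ} (A : Fin k → Fin k → ℤ) (x : Fin k → ℤ) :
    (l : List (Fin k × (Fin k → ℤ))) → (y : Fin k → ℤ) → Decidable (chk A x l y)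
  | [], y => inferInstanceAs (Decidable (x = y))
  | (j, v) :: l, y =>
    have := decChk A v l y
    inferInstanceAs (Decidable ((∀ k, v k = x k - (if k = j then pairing A j x else 0)) ∧ chk A v l y))

/-- representatives -/
def PA5 : List (Fin 5 → ℤ) := [![0, 0, 0, 0, 1],
  ![1, 0, 0, 0, 0],
  ![0, 0, 0, 1, 1],
  ![1, 1, 0, 0, 0],
  ![1, 1, 1, 1, 1]]

/-- the chain to `β` -/
def BA5 : List (Fin 5 × (Fin 5 → ℤ)) := [(1, ![0, 1, 1, 0, 0]),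
  (3, ![0, 1, 1, 1, 0])]

/-- the chain to `θ` -/
def TA5 : List (Fin 5 × (Fin 5 → ℤ)) := [(1, ![0, 1, 1, 0, 0]),
  (0, ![1, 1, 1, 0, 0]),
  (3, ![1, 1, 1, 1, 0]),
  (4, ![1, 1, 1, 1, 1])]

theorem dat_A5 : Dat AA5 LA5 PA5 2 {1, 2, 3} ![1, 1, 1, 1, 1] ![0, 1, 1, 1, 0] BA5 TA5 where
  iJ := by decide
  top := by decide +kernel
  topJ := by decide +kernel
  hb := by decide +kernel
  ht := by decide +kernel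
  lb := by decide +kernel
  lt := by decide +kernel
  orth := by decide +kernel
  reps := by decide +kernel

/-- representatives -/
def PD6 : List (Fin 6 → ℤ) := [![0, 1, 0, 0, 0, 0],
  ![1, 0, 0, 0, 0, 0],
  ![0, 1, 1, 0, 0, 0],
  ![1, 1, 0, 0, 0, 0],
  ![0, 1, 1, 1, 0, 0],
  ![1, 1, 1, 0, 0, 0],
  ![0, 1, 1, 1, 0, 1],
  ![0, 1, 1, 1, 1, 0],
  ![1, 1, 1, 1, 0, 0],
  ![1, 2, 2, 2, 1, 1]]

/-- the chain to `β` -/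
def BD6 : List (Fin 6 × (Fin 6 → ℤ)) := [(3, ![0, 0, 0, 1, 1, 0]),
  (2, ![0, 0, 1, 1, 1, 0]),
  (5, ![0, 0, 1, 1, 1, 1]),
  (3, ![0, 0, 1, 2, 1, 1])]

/-- the chain to `θ` -/
def TD6 : List (Fin 6 × (Fin 6 → ℤ)) := [(3, ![0, 0, 0, 1, 1, 0]),
  (2, ![0, 0, 1, 1, 1, 0]),
  (1, ![0, 1, 1, 1, 1, 0]),
  (0, ![1, 1, 1, 1, 1, 0]),
  (5, ![1, 1, 1, 1, 1, 1]),
  (3, ![1, 1, 1, 2, 1, 1]),
  (2, ![1, 1, 2, 2, 1, 1]),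
  (1, ![1, 2, 2, 2, 1, 1])]

theorem dat_D6 : Dat AD6 LD6 PD6 4 {2, 3, 4, 5} ![1, 2, 2, 2, 1, 1] ![0, 0, 1, 2, 1, 1] BD6 TD6 where
  iJ := by decide
  top := by decide +kernel
  topJ := by decide +kernel
  hb := by decide +kernel
  ht := by decide +kernel
  lb := by decide +kernel
  lt := by decide +kernel
  orth := by decide +kernel
  reps := by decide +kernel

/-- representatives -/
def PD6p : List (Fin 6 → ℤ) := [![0, 1, 0, 0, 0, 0],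
  ![1, 0, 0, 0, 0, 0],
  ![0, 1, 1, 0, 0, 0],
  ![1, 1, 0, 0, 0, 0],
  ![0, 1, 1, 1, 0, 0],
  ![1, 1, 1, 0, 0, 0],
  ![0, 1, 1, 1, 0, 1],
  ![0, 1, 1, 1, 1, 0],
  ![1, 1, 1, 1, 0, 0],
  ![1, 2, 2, 2, 1, 1]]

/-- the chain to `β` -/
def BD6p : List (Fin 6 × (Fin 6 → ℤ)) := [(3, ![0, 0, 0, 1, 0, 1]),
  (2, ![0, 0, 1, 1, 0, 1]),
  (4, ![0, 0, 1, 1, 1, 1]),
  (3, ![0, 0, 1, 2, 1, 1])]

/-- the chain to `θ` -/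
def TD6p : List (Fin 6 × (Fin 6 → ℤ)) := [(3, ![0, 0, 0, 1, 0, 1]),
  (2, ![0, 0, 1, 1, 0, 1]),
  (1, ![0, 1, 1, 1, 0, 1]),
  (0, ![1, 1, 1, 1, 0, 1]),
  (4, ![1, 1, 1, 1, 1, 1]),
  (3, ![1, 1, 1, 2, 1, 1]),
  (2, ![1, 1, 2, 2, 1, 1]),
  (1, ![1, 2, 2, 2, 1, 1])]

theorem dat_D6p : Dat AD6 LD6 PD6p 5 {2, 3, 4, 5} ![1, 2, 2, 2, 1, 1] ![0, 0, 1, 2, 1, 1] BD6p TD6p where
  iJ := by decide
  top := by decide +kernel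
  topJ := by decide +kernel
  hb := by decide +kernel
  ht := by decide +kernel
  lb := by decide +kernel
  lt := by decide +kernel
  orth := by decide +kernel
  reps := by decide +kernel

/-- representatives -/
def PE7 : List (Fin 7 → ℤ) := [![1, 0, 0, 0, 0, 0, 0],
  ![1, 0, 1, 0, 0, 0, 0],
  ![1, 0, 1, 1, 0, 0, 0],
  ![1, 0, 1, 1, 1, 0, 0],
  ![1, 1, 1, 1, 0, 0, 0],
  ![1, 0, 1, 1, 1, 1, 0],
  ![1, 1, 1, 1, 1, 0, 0],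
  ![1, 0, 1, 1, 1, 1, 1],
  ![1, 1, 1, 1, 1, 1, 0],
  ![1, 1, 1, 2, 1, 0, 0],
  ![1, 1, 1, 1, 1, 1, 1],
  ![1, 1, 1, 2, 1, 1, 0],
  ![1, 1, 2, 2, 1, 0, 0],
  ![1, 1, 1, 2, 1, 1, 1],
  ![1, 1, 1, 2, 2, 1, 0],
  ![1, 1, 2, 2, 1, 1, 0],
  ![2, 2, 3, 4, 3, 2, 1]]

/-- the chain to `β` -/
def BE7 : List (Fin 7 × (Fin 7 → ℤ)) := [(5, ![0, 0, 0, 0, 0, 1, 1]),
  (4, ![0, 0, 0, 0, 1, 1, 1]),
  (3, ![0, 0, 0, 1, 1, 1, 1]),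
  (1, ![0, 1, 0, 1, 1, 1, 1]),
  (2, ![0, 1, 1, 1, 1, 1, 1]),
  (3, ![0, 1, 1, 2, 1, 1, 1]),
  (4, ![0, 1, 1, 2, 2, 1, 1]),
  (5, ![0, 1, 1, 2, 2, 2, 1])]

/-- the chain to `θ` -/
def TE7 : List (Fin 7 × (Fin 7 → ℤ)) := [(5, ![0, 0, 0, 0, 0, 1, 1]),
  (4, ![0, 0, 0, 0, 1, 1, 1]),
  (3, ![0, 0, 0, 1, 1, 1, 1]),
  (1, ![0, 1, 0, 1, 1, 1, 1]),
  (2, ![0, 1, 1, 1, 1, 1, 1]),
  (0, ![1, 1, 1, 1, 1, 1, 1]),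
  (3, ![1, 1, 1, 2, 1, 1, 1]),
  (2, ![1, 1, 2, 2, 1, 1, 1]),
  (4, ![1, 1, 2, 2, 2, 1, 1]),
  (3, ![1, 1, 2, 3, 2, 1, 1]),
  (1, ![1, 2, 2, 3, 2, 1, 1]),
  (5, ![1, 2, 2, 3, 2, 2, 1]),
  (4, ![1, 2, 2, 3, 3, 2, 1]),
  (3, ![1, 2, 2, 4, 3, 2, 1]),
  (2, ![1, 2, 3, 4, 3, 2, 1]),
  (0, ![2, 2, 3, 4, 3, 2, 1])]

theorem dat_E7 : Dat AE7 LE7 PE7 6 {1, 2, 3, 4, 5, 6} ![2, 2, 3, 4, 3, 2, 1] ![0, 1, 1, 2, 2, 2, 1] BE7 TE7 where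
  iJ := by decide
  top := by decide +kernel
  topJ := by decide +kernel
  hb := by decide +kernel
  ht := by decide +kernel
  lb := by decide +kernel
  lt := by decide +kernel
  orth := by decide +kernel
  reps := by decide +kernel

section

variable {W Y V : Type*} [Group W] [Group Y] [AddCommGroup V] [Module (ZMod 2) V] [Finite W] [Finite Y]
  {ρ : Y →* (V ≃ₗ[ZMod 2] V)} {a : V}

theorem card_A5 {cs : CoxeterSystem (cA 5) W} {A : Fin 5 → Fin 5 → ℤ} {h : IsCartan (cA 5) A} {T : Subgroup Y}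
    {n : Fin 5 → Y} {X : (Fin 5 → ℤ) → Subgroup Y} (D : Star.Mod cs h T n X ρ a 2)
    (h2 : ∀ j, Nat.card (X (sr j)) = 2) {Ab : Subgroup Y} (hA : Ab ≤ RGD.Sup X (RGD.Pos cs h))
    (hc : ∀ x ∈ Ab, ∀ y ∈ Ab, x * y = y * x) (hn : ∀ g ∈ RGD.Sup X (RGD.Pos cs h), ∀ x ∈ Ab, g * x * g⁻¹ ∈ Ab)
    (hqd : ∀ x ∈ Ab, ∀ y ∈ Ab, ∀ v, ρ x (ρ y v + v) = ρ y v + v) : Nat.card Ab ≤ 2 ^ 5 := by
  have e : A = AA5 := cartan_eq h isCartan_A5 ne_A5.1 ne_A5.2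
  subst e
  exact LocSL.card_le D (fun _ _ hx hy => Nodes.SimplyLaced.cpr_symm cs h ne_A5.1 ne_A5.2 hx hy) h2 dat_A5 posRoots_A5 hA hc hn hqd

theorem card_D6 {cs : CoxeterSystem (Nodes.TypeD.M 4) W} {A : Fin 6 → Fin 6 → ℤ} {h : IsCartan (Nodes.TypeD.M 4) A} {T : Subgroup Y}
    {n : Fin 6 → Y} {X : (Fin 6 → ℤ) → Subgroup Y} (D : Star.Mod cs h T n X ρ a 4)
    (h2 : ∀ j, Nat.card (X (sr j)) = 2) {Ab : Subgroup Y} (hA : Ab ≤ RGD.Sup X (RGD.Pos cs h))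
    (hc : ∀ x ∈ Ab, ∀ y ∈ Ab, x * y = y * x) (hn : ∀ g ∈ RGD.Sup X (RGD.Pos cs h), ∀ x ∈ Ab, g * x * g⁻¹ ∈ Ab)
    (hqd : ∀ x ∈ Ab, ∀ y ∈ Ab, ∀ v, ρ x (ρ y v + v) = ρ y v + v) : Nat.card Ab ≤ 2 ^ 10 := by
  have e : A = AD6 := cartan_eq h isCartan_D6 ne_D6.1 ne_D6.2
  subst e
  exact LocSL.card_le D (fun _ _ hx hy => Nodes.SimplyLaced.cpr_symm cs h ne_D6.1 ne_D6.2 hx hy) h2 dat_D6 posRoots_D6 hA hc hn hqd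

theorem card_D6p {cs : CoxeterSystem (Nodes.TypeD.M 4) W} {A : Fin 6 → Fin 6 → ℤ} {h : IsCartan (Nodes.TypeD.M 4) A} {T : Subgroup Y}
    {n : Fin 6 → Y} {X : (Fin 6 → ℤ) → Subgroup Y} (D : Star.Mod cs h T n X ρ a 5)
    (h2 : ∀ j, Nat.card (X (sr j)) = 2) {Ab : Subgroup Y} (hA : Ab ≤ RGD.Sup X (RGD.Pos cs h))
    (hc : ∀ x ∈ Ab, ∀ y ∈ Ab, x * y = y * x) (hn : ∀ g ∈ RGD.Sup X (RGD.Pos cs h), ∀ x ∈ Ab, g * x * g⁻¹ ∈ Ab)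
    (hqd : ∀ x ∈ Ab, ∀ y ∈ Ab, ∀ v, ρ x (ρ y v + v) = ρ y v + v) : Nat.card Ab ≤ 2 ^ 10 := by
  have e : A = AD6 := cartan_eq h isCartan_D6 ne_D6.1 ne_D6.2
  subst e
  exact LocSL.card_le D (fun _ _ hx hy => Nodes.SimplyLaced.cpr_symm cs h ne_D6.1 ne_D6.2 hx hy) h2 dat_D6p posRoots_D6 hA hc hn hqd

theorem card_E7 {cs : CoxeterSystem (CoxeterMatrix.E₇) W} {A : Fin 7 → Fin 7 → ℤ} {h : IsCartan (CoxeterMatrix.E₇) A} {T : Subgroup Y}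
    {n : Fin 7 → Y} {X : (Fin 7 → ℤ) → Subgroup Y} (D : Star.Mod cs h T n X ρ a 6)
    (h2 : ∀ j, Nat.card (X (sr j)) = 2) {Ab : Subgroup Y} (hA : Ab ≤ RGD.Sup X (RGD.Pos cs h))
    (hc : ∀ x ∈ Ab, ∀ y ∈ Ab, x * y = y * x) (hn : ∀ g ∈ RGD.Sup X (RGD.Pos cs h), ∀ x ∈ Ab, g * x * g⁻¹ ∈ Ab)
    (hqd : ∀ x ∈ Ab, ∀ y ∈ Ab, ∀ v, ρ x (ρ y v + v) = ρ y v + v) : Nat.card Ab ≤ 2 ^ 17 := by
  have e : A = AE7 := cartan_eq h isCartan_E7 ne_E7.1 ne_E7.2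
  subst e
  exact LocSL.card_le D (fun _ _ hx hy => Nodes.SimplyLaced.cpr_symm cs h ne_E7.1 ne_E7.2 hx hy) h2 dat_E7 posRoots_E7 hA hc hn hqd

end

end Cfsg.Agent.Omega.EH3Close.LocRow
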