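import Cfsg.Agent.LargeExtra.CC.Dt

/-!
# EH3 ==> G, group part (helper805, after helper990's LEMMA CC and helper635's bound)

`Out Q z V m` : `V` abelian, normalised by `Q` and by `m`, `z ∈ V`, and `Q ∩ Q^m` contains no conjugate of `z`
(`m` moves the component of `z`).  If no element of `C(z)` acts on `Q/z` with `|[Q/z, h]| = 4` then
`|Q/z| ≤ 64 |V : V ∩ Q|²` (`Out.main`).
-/

set_option autoImplicit false

namespace Cfsg.Agent.Omega.EH3Close.Quad

open Cfsg.Agent.Co2Type.Quad Cfsg.Agent.LargeExtra.Base Cfsg.Agent.LargeExtra.Local Cfsg.Agent.LargeExtra.CC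

variable {G : Type*} [Group G]

/-- conjugate of a subgroup -/
def cj (m : G) (Q : Subgroup G) : Subgroup G := Q.map (MulAut.conj m).toMonoidHom

theorem mem_cj {m x : G} {Q : Subgroup G} : x ∈ cj m Q ↔ m⁻¹ * x * m ∈ Q := by
  constructor
  · rintro ⟨y, hy, rfl⟩
    have : m⁻¹ * ((MulAut.conj m).toMonoidHom y) * m = y := by
      show m⁻¹ * (m * y * m⁻¹) * m = y
      group
    rw [this]
    exact hy
  · intro h
    refine ⟨_, h, ?_⟩
    show m * (m⁻¹ * x * m) * m⁻¹ = x
    group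

/-- transport of `Large` -/
theorem large_cj {Q : Subgroup G} {z : G} (h : Large Q z) (m : G) : Large (cj m Q) (m * z * m⁻¹) where
  z_mem := by
    rw [mem_cj]
    have : m⁻¹ * (m * z * m⁻¹) * m = z := by group
    rw [this]
    exact h.z_mem
  z_ne := by
    intro e
    apply h.z_ne
    have : z = m⁻¹ * (m * z * m⁻¹) * m := by group
    rw [this, e]; group
  z_sq := by
    have : m * z * m⁻¹ * (m * z * m⁻¹) = m * (z * z) * m⁻¹ := by group
    rw [this, h.z_sq]; group
  comm_z := by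
    intro x hx
    rw [mem_cj] at hx
    have h1 := h.comm_z _ hx
    calc x * (m * z * m⁻¹) = m * ((m⁻¹ * x * m) * z) * m⁻¹ := by group
      _ = m * (z * (m⁻¹ * x * m)) * m⁻¹ := by rw [h1]
      _ = _ := by group
  conj_mem := by
    intro g hg x hx
    rw [mem_cj] at hx ⊢
    have hg' : (m⁻¹ * g * m) * z = z * (m⁻¹ * g * m) := by
      calc (m⁻¹ * g * m) * z = m⁻¹ * (g * (m * z * m⁻¹)) * m := by group
        _ = m⁻¹ * ((m * z * m⁻¹) * g) * m := by rw [hg]
        _ = _ := by group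
    have h1 := h.conj_mem _ hg' _ hx
    have e : m⁻¹ * g * m * (m⁻¹ * x * m) * (m⁻¹ * g * m)⁻¹ = m⁻¹ * (g * x * g⁻¹) * m := by group
    rwa [e] at h1
  sq := by
    intro x hx
    rw [mem_cj] at hx
    have e : x * x = m * ((m⁻¹ * x * m) * (m⁻¹ * x * m)) * m⁻¹ := by group
    rcases h.sq _ hx with h1 | h1
    · left; rw [e, h1]; group
    · right; rw [e, h1]
  comm := by
    intro x hx y hy
    rw [mem_cj] at hx hy
    have e : x * y = m * ((m⁻¹ * x * m) * (m⁻¹ * y * m)) * m⁻¹ := by group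
    have e' : y * x = m * ((m⁻¹ * y * m) * (m⁻¹ * x * m)) * m⁻¹ := by group
    rcases h.comm _ hx _ hy with h1 | h1
    · left; rw [e, e', h1]
    · right; rw [e, e', h1]; group
  cent := by
    intro x hx hc
    rw [mem_cj] at hx
    have h1 := h.cent _ hx (by
      intro y hy
      have h2 := hc (m * y * m⁻¹) (by
        rw [mem_cj]
        have : m⁻¹ * (m * y * m⁻¹) * m = y := by group
        rw [this]; exact hy)
      calc m⁻¹ * x * m * y = m⁻¹ * (x * (m * y * m⁻¹)) * m := by group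
        _ = m⁻¹ * ((m * y * m⁻¹) * x) * m := by rw [h2]
        _ = _ := by group)
    have e : x = m * (m⁻¹ * x * m) * m⁻¹ := by group
    rcases h1 with h1 | h1
    · left; rw [e, h1]; group
    · right; rw [e, h1]
  self := by
    intro g hg hc
    rw [mem_cj]
    apply h.self
    · calc (m⁻¹ * g * m) * z = m⁻¹ * (g * (m * z * m⁻¹)) * m := by group
        _ = m⁻¹ * ((m * z * m⁻¹) * g) * m := by rw [hg]
        _ = _ := by group
    · intro x hx
      have h2 := hc (m * x * m⁻¹) (by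
        rw [mem_cj]
        have : m⁻¹ * (m * x * m⁻¹) * m = x := by group
        rw [this]; exact hx)
      calc m⁻¹ * g * m * x = m⁻¹ * (g * (m * x * m⁻¹)) * m := by group
        _ = m⁻¹ * ((m * x * m⁻¹) * g) * m := by rw [h2]
        _ = _ := by group

theorem card_inf_mul_relIndex [Finite G] (H K : Subgroup G) :
    Nat.card (K ⊓ H : Subgroup G) * H.relIndex K = Nat.card K := by
  have h1 := Subgroup.card_mul_index (H.subgroupOf K)
  have h2 : Nat.card (K ⊓ H : Subgroup G) = Nat.card (H.subgroupOf K) := by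
    rw [inf_comm, ← Subgroup.subgroupOf_map_subtype]
    exact (Nat.card_congr ((H.subgroupOf K).equivMapOfInjective _ K.subtype_injective).toEquiv).symm
  rw [h2]
  exact h1

section W

variable {Qr Qs : Subgroup G} {r s : G} {P : G → Prop}

/-- `2 |[Q/z, s]| ≤ |V ∩ Q|` if `V` contains `z` and `s` and is normalised by `Q` -/
theorem card_W_mul_two_le [Finite G] (T : Two Qr Qs r s P) {V : Subgroup G} (hr : r ∈ V) (hs : s ∈ V)
    (hn : ∀ q ∈ Qr, ∀ v ∈ V, q * v * q⁻¹ ∈ V) : Nat.card T.W * 2 ≤ Nat.card (V ⊓ Qr : Subgroup G) := by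
  classical
  have key : ∀ w : T.W, ∃ x : Qr, (x : G) ∈ V ∧ T.lr.pr x = w := by
    rintro ⟨w, u, hu⟩
    obtain ⟨x, rfl⟩ := T.lr.pr_surjective u
    refine ⟨⟨x * s * (x : G)⁻¹ * s⁻¹, T.comm_mem x.2⟩, ?_, ?_⟩
    · exact V.mul_mem (hn x x.2 s hs) (V.inv_mem hs)
    · rw [T.pr_comm]
      exact hu
  choose f hf1 hf2 using key
  have hrQ : r ∈ Qr := T.lr.z_mem
  have h1 : Nat.card (T.W × Bool) ≤ Nat.card (V ⊓ Qr : Subgroup G) := by
    refine Nat.card_le_card_of_injective
      (fun p => (⟨(f p.1 : G) * (if p.2 then r else 1), V.mul_mem (hf1 p.1) (by split_ifs; exacts [hr, V.one_mem]),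
        Qr.mul_mem (f p.1).2 (by split_ifs; exacts [hrQ, Qr.one_mem])⟩ : (V ⊓ Qr : Subgroup G))) ?_
    rintro ⟨w, b⟩ ⟨w', b'⟩ e
    have e1 : (f w : G) * (if b then r else 1) = (f w' : G) * (if b' then r else 1) := congrArg Subtype.val e
    have e2 : T.lr.pr (f w) = T.lr.pr (f w') := by
      rw [T.lr.pr_eq_pr]
      cases b <;> cases b'
      · left; simpa using e1
      · right; simpa using e1
      · right
        have : (f w : G) * r = f w' := by simpa using e1
        rw [← this, mul_assoc, T.lr.z_sq, mul_one]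
      · left; simpa using e1
    rw [hf2, hf2] at e2
    have e3 : w = w' := Subtype.ext e2
    subst e3
    have e4 := mul_left_cancel e1
    cases b <;> cases b'
    · rfl
    · exact absurd (by simpa using e4.symm) T.lr.z_ne
    · exact absurd (by simpa using e4) T.lr.z_ne
    · rfl
  rwa [Nat.card_prod, Nat.card_eq_fintype_card (α := Bool), Fintype.card_bool] at h1

end W

/-- the situation -/
structure Out (Q : Subgroup G) (z : G) (V : Subgroup G) (m : G) : Prop where
  lz : Large Q z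
  comm : ∀ x ∈ V, ∀ y ∈ V, x * y = y * x
  zV : z ∈ V
  norm : ∀ q ∈ Q, ∀ v ∈ V, q * v * q⁻¹ ∈ V
  mV : ∀ v ∈ V, m * v * m⁻¹ ∈ V
  none : ∀ x ∈ Q, m⁻¹ * x * m ∈ Q → ¬ IsConj z x

namespace Out

variable {Q : Subgroup G} {z : G} {V : Subgroup G} {m : G}

theorem sV (o : Out Q z V m) : m * z * m⁻¹ ∈ V := o.mV z o.zV

theorem two (o : Out Q z V m) : Two Q (cj m Q) z (m * z * m⁻¹) (IsConj z) where
  lr := o.lz
  ls := large_cj o.lz m
  comm := o.comm _ o.sV _ o.zV
  hr := fun h => o.none z o.lz.z_mem (mem_cj.1 h) (IsConj.refl z)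
  hs := fun h => o.none _ h (by
    have : m⁻¹ * (m * z * m⁻¹) * m = z := by group
    rw [this]; exact o.lz.z_mem) (isConj_iff.2 ⟨m, rfl⟩)
  conj := fun g x hx => hx.trans (isConj_iff.2 ⟨g, rfl⟩)
  Pr := IsConj.refl z
  Ps := isConj_iff.2 ⟨m, rfl⟩
  none := fun x hx hx' => o.none x hx (mem_cj.1 hx')

theorem cj_V [Finite G] (o : Out Q z V m) : cj m V = V := by
  have h1 : cj m V ≤ V := by
    rintro _ ⟨v, hv, rfl⟩
    exact o.mV v hv
  refine Subgroup.eq_of_le_of_card_ge h1 (le_of_eq ?_)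
  exact Nat.card_congr (V.equivMapOfInjective _ (MulAut.conj m).injective).toEquiv

theorem relIndex_cj [Finite G] (o : Out Q z V m) : (cj m Q).relIndex V = Q.relIndex V := by
  conv_lhs => rw [← o.cj_V]
  exact Subgroup.relIndex_map_map_of_injective Q V (MulAut.conj m).injective

theorem card_inf_le [Finite G] (o : Out Q z V m) : Nat.card (V ⊓ Q : Subgroup G) ≤ 4 * Q.relIndex V := by
  have h1 : Nat.card (Q ⊓ cj m Q : Subgroup G) ≤ 4 := Dt.card_le o.two
  have h2 : (cj m Q).relIndex (V ⊓ Q) ≤ (cj m Q).relIndex V :=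
    Subgroup.relIndex_le_of_le_right inf_le_left (Subgroup.index_ne_zero_of_finite)
  have h3 := card_inf_mul_relIndex (cj m Q) (V ⊓ Q)
  have h4 : Nat.card (V ⊓ Q ⊓ cj m Q : Subgroup G) ≤ Nat.card (Q ⊓ cj m Q : Subgroup G) :=
    Nat.card_mono (Set.toFinite _) (inf_le_inf_right _ inf_le_right)
  rw [← h3, ← o.relIndex_cj]
  exact Nat.mul_le_mul (h4.trans h1) h2

/-- `|[Q/z, s]| ≤ 2 |V : V ∩ Q|` -/
theorem card_W_le [Finite G] (o : Out Q z V m) : Nat.card o.two.W ≤ 2 * Q.relIndex V := by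
  have h1 := card_W_mul_two_le o.two o.zV o.sV o.norm
  have h2 := o.card_inf_le
  omega

/-- **The bound.** -/
theorem main [Finite G] (o : Out Q z V m) (h4' : Nat.card o.two.symm.W ≠ 4) :
    Nat.card o.lz.V ≤ 64 * (Q.relIndex V * Q.relIndex V) := by
  have h1 : Nat.card o.two.lr.V ≤ 16 * (Nat.card o.two.W * Nat.card o.two.W) := by
    rcases o.two.symm.main with h | h
    · exact absurd h h4'
    · exact h
  have h2 := o.card_W_le
  have h3 : Nat.card o.two.W * Nat.card o.two.W ≤ (2 * Q.relIndex V) * (2 * Q.relIndex V) :=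
    Nat.mul_le_mul h2 h2
  calc Nat.card o.lz.V ≤ 16 * (Nat.card o.two.W * Nat.card o.two.W) := h1
    _ ≤ 16 * ((2 * Q.relIndex V) * (2 * Q.relIndex V)) := Nat.mul_le_mul_left _ h3
    _ = 64 * (Q.relIndex V * Q.relIndex V) := by ring

end Out

end Cfsg.Agent.Omega.EH3Close.Quad
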