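import Cfsg.Agent.Omega.EH3.CCTop
import Cfsg.Agent.Omega.EH3Close.Quad
import Cfsg.Agent.Omega.MinPar

/-!
# The closing theorem, group part (helper805)

`M' ∈ L(S)` not contained in `Y` gives `m ∈ M'` and `V = ⟨z^M'⟩` in the situation `Quad.Out`.
-/

set_option autoImplicit false

namespace Cfsg.Agent.Omega.EH3Close.OutLoc

open Subgroup Cfsg Cfsg.Agent.Co2Type.Quad Cfsg.Agent.LargeExtra.Base Cfsg.Agent.ZN
open Cfsg.Agent.Omega.MinPar (IsLoc)
open Cfsg.Agent.MinSimple.VModule (le_normalizer_o2)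
open Cfsg.Agent.Omega.EH3.CCTop

variable {G : Type*} [Group G] [Finite G] {Q : Subgroup G} {z : G}

theorem exists_out (hG : IsCharacteristicTwoType G) (lz : Large Q z) {Y : Subgroup G}
    (hadj : ∀ g : G, g * z * g⁻¹ ∈ Q → ∃ y ∈ Y, g * z * g⁻¹ = y * z * y⁻¹) (hC : centralizer ({z} : Set G) ≤ Y)
    (S : Sylow 2 G) (hS : (S : Subgroup G) ≤ centralizer ({z} : Set G)) {M' : Subgroup G}
    (hM : IsLoc (S : Subgroup G) M') (hn : ¬ M' ≤ Y) :
    ∃ m ∈ M', ∃ V : Subgroup G, Quad.Out Q z V m ∧ V ≤ (S : Subgroup G) ∧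
      ∀ s ∈ (S : Subgroup G), ∀ v ∈ V, s * v * s⁻¹ ∈ V := by
  have hQS := Q_le_S lz hadj S hS
  have hzS : z ∈ (S : Subgroup G) := hQS lz.z_mem
  have hzM : z ∈ M' := hM.le hzS
  have hRS := IsLoc.o2_le S hM
  have hRn : ∀ m ∈ M', ∀ r, r ∈ o2 M' → m * r * m⁻¹ ∈ o2 M' := fun m hm r hr =>
    (mem_normalizer_iff.1 (le_normalizer_o2 M' hm) r).1 hr
  have hzc : ∀ r ∈ o2 M', z * r = r * z := fun r hr => (mem_centralizer_singleton_iff.1 (hS (hRS hr))).symm
  have hzR : z ∈ o2 M' := IsLoc.char2 S hG hM ⟨hzM, mem_centralizer_iff.2 fun r hr => (hzc r hr).symm⟩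
  set V : Subgroup G := closure {x | ∃ m ∈ M', m * z * m⁻¹ = x} with hV
  have hgen : ∀ m ∈ M', m * z * m⁻¹ ∈ V := fun m hm => subset_closure ⟨m, hm, rfl⟩
  have hVR : V ≤ o2 M' := by
    rw [hV, closure_le]
    rintro _ ⟨m, hm, rfl⟩
    exact hRn m hm z hzR
  have hVc : ∀ v ∈ V, ∀ r ∈ o2 M', v * r = r * v := by
    intro v hv
    rw [hV] at hv
    induction hv using Subgroup.closure_induction with
    | mem x hx =>
      obtain ⟨m, hm, rfl⟩ := hx
      intro r hr
      have h1 := hRn _ (inv_mem hm) r hr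
      rw [inv_inv] at h1
      have h2 := hzc _ h1
      calc m * z * m⁻¹ * r = m * (z * (m⁻¹ * r * m)) * m⁻¹ := by group
        _ = m * ((m⁻¹ * r * m) * z) * m⁻¹ := by rw [h2]
        _ = r * (m * z * m⁻¹) := by group
    | one => intro r _; rw [one_mul, mul_one]
    | mul x y _ _ hx hy => intro r hr; rw [mul_assoc, hy r hr, ← mul_assoc, hx r hr, mul_assoc]
    | inv x _ hx =>
      intro r hr
      have h1 : Commute x r := hx r hr
      exact h1.inv_left.eq
  have hVn : ∀ m ∈ M', ∀ v ∈ V, m * v * m⁻¹ ∈ V := by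
    intro m hm v hv
    rw [hV] at hv
    induction hv using Subgroup.closure_induction with
    | mem x hx =>
      obtain ⟨k, hk, rfl⟩ := hx
      have e : m * (k * z * k⁻¹) * m⁻¹ = (m * k) * z * (m * k)⁻¹ := by group
      rw [e]; exact hgen _ (mul_mem hm hk)
    | one => rw [mul_one, mul_inv_cancel]; exact one_mem _
    | mul x y _ _ hx hy =>
      have e : m * (x * y) * m⁻¹ = (m * x * m⁻¹) * (m * y * m⁻¹) := by group
      rw [e]; exact mul_mem hx hy
    | inv x _ hx =>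
      have e : m * x⁻¹ * m⁻¹ = (m * x * m⁻¹)⁻¹ := by group
      rw [e]; exact inv_mem hx
  obtain ⟨m, hm, hmY⟩ := Set.not_subset.1 hn
  have hVS : V ≤ (S : Subgroup G) := hVR.trans hRS
  refine ⟨m, hm, V, ?_, hVS, fun s hs v hv => hVn s (hM.le hs) v hv⟩
  have hzV : z ∈ V := by
    have := hgen 1 (one_mem _)
    rwa [one_mul, inv_one, mul_one] at this
  have hfar : Far Q z m := by
    have h1 : (m * z * m⁻¹) * z = z * (m * z * m⁻¹) := hVc _ (hgen m hm) z hzR
    rcases mem_class_or_far lz hadj h1 with ⟨y, hy, e⟩ | h2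
    · exfalso
      apply hmY
      have h2 : y⁻¹ * m ∈ centralizer ({z} : Set G) := by
        rw [mem_centralizer_singleton_iff]
        calc y⁻¹ * m * z = y⁻¹ * (m * z * m⁻¹) * m := by group
          _ = y⁻¹ * (y * z * y⁻¹) * m := by rw [e]
          _ = z * (y⁻¹ * m) := by group
      have h3 := Y.mul_mem hy (hC h2)
      rwa [mul_inv_cancel_left] at h3
    · exact h2
  exact
    { lz := lz
      comm := fun x hx y hy => hVc x hx y (hVR hy)
      zV := hzV
      norm := fun q hq v hv => hVn q (hM.le (hQS hq)) v hv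
      mV := fun v hv => hVn m hm v hv
      none := by
        intro x hx hx' hcon
        obtain ⟨k, rfl⟩ := isConj_iff.1 hcon
        exact hfar.noCommon k hx (mem_map_conj.2 hx') }

end Cfsg.Agent.Omega.EH3Close.OutLoc
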