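import Cfsg.Agent.Omega.EH3Close.BN
import Cfsg.Agent.Omega.EH3.Cons

/-!
# EH3 END, LEMMA (Q): the conjugates of `z` in `Q`

`hadj` : in the situation `At`, if the configuration `Cfg` is available for every `Pair Q z A'' a''`, every conjugate of
`z` in `Q` is `y z y⁻¹` with `y` in the normaliser of `G0 = ⟨A, MM p L⟩`.
-/

set_option autoImplicit false

namespace Cfsg.Agent.Omega.EH3Close.QQ

open CoxeterSystem Cfsg.Agent.ChevalleyStructure.CoxeterGeom Cfsg.Agent.Tits.Roots Cfsg.Agent.Tits.Core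
  Cfsg.Agent.Nodes.BNOf Cfsg.Agent.Omega.ThmID Cfsg.Agent.Omega.EH3
  Cfsg.Agent.Co2Type.Quad Cfsg.Agent.LargeExtra.Base Cfsg.Agent.Omega.EH3Close.Glue Cfsg.Agent.Omega.EH3Close.Fin4

variable {G : Type*} [Group G] {Q A : Subgroup G} {z a : G}

/-- `z` and `a` are conjugate in `⟨A, Q⟩` -/
theorem exists_conj (p : Pair Q z A a) : ∃ y ∈ A ⊔ Q, y * z * y⁻¹ = a := by
  obtain ⟨x, hx, e⟩ := exists_not_comm p.la p.z_mem p.lz.z_ne p.ne.symm
  obtain ⟨y, hy, e'⟩ := exists_not_comm p.lz p.a_mem p.la.z_ne p.ne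
  have h1 := p.la.comm_z x hx
  have h2 := p.lz.comm_z y hy
  have h3 := p.lz.comm_z a p.a_mem
  refine ⟨y * x, mul_mem (Subgroup.mem_sup_right hy) (Subgroup.mem_sup_left hx), ?_⟩
  calc y * x * z * (y * x)⁻¹ = y * (x * z) * x⁻¹ * y⁻¹ := by group
    _ = y * (z * (x * a)) * x⁻¹ * y⁻¹ := by rw [e, mul_assoc z x a]
    _ = y * (z * (a * x)) * x⁻¹ * y⁻¹ := by rw [h1]
    _ = (y * z) * a * y⁻¹ := by group
    _ = z * (y * a) * y⁻¹ := by rw [h2]; group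
    _ = z * (a * (y * z)) * y⁻¹ := by rw [e', mul_assoc a y z]
    _ = z * (a * (z * y)) * y⁻¹ := by rw [h2]
    _ = z * (a * z) := by group
    _ = (z * z) * a := by rw [h3]; group
    _ = a := by rw [p.lz.z_sq, one_mul]

/-- `a z` and `a` are conjugate in `Q` -/
theorem exists_conj_mul (p : Pair Q z A a) : ∃ y ∈ Q, y * (a * z) * y⁻¹ = a := by
  obtain ⟨y, hy, e'⟩ := exists_not_comm p.lz p.a_mem p.la.z_ne p.ne
  have h2 := p.lz.comm_z y hy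
  refine ⟨y, hy, ?_⟩
  calc y * (a * z) * y⁻¹ = (y * a) * z * y⁻¹ := by group
    _ = a * (y * z) * z * y⁻¹ := by rw [e', mul_assoc a y z]
    _ = a * (z * y) * z * y⁻¹ := by rw [h2]
    _ = a * z * (y * z) * y⁻¹ := by group
    _ = a * z * (z * y) * y⁻¹ := by rw [h2]
    _ = a * (z * z) := by group
    _ = a := by rw [p.lz.z_sq, mul_one]

variable [Finite G] {p : Pair Q z A a} {l : ℕ} {M : CoxeterMatrix (Fin l)} {q : Fin l → ℕ} {i : Fin l}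
  {A' : Fin l → Fin l → ℤ} {h : IsCartan M A'} {L : Subgroup p.H} {T : Subgroup L} {n : Fin l → L}
  {X : (Fin l → ℤ) → Subgroup L} {w : ℕ}

/-- a vector `v ≠ 0` whose stabiliser in `p.H` contains a Sylow 2-subgroup is conjugate to `ã` -/
theorem exists_of_syl (D : At p q i h L T n X) (S : Sylow 2 p.H) {v : p.lz.V} (hv : v ≠ 0)
    (hS : ∀ s ∈ (S : Subgroup p.H), (s : p.lz.V ≃ₗ[ZMod 2] p.lz.V) v = v) :
    ∃ g : p.H, (g : p.lz.V ≃ₗ[ZMod 2] p.lz.V) v = p.va := by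
  have hfin : Finite p.H := Finite.of_surjective _ (aH_surj p)
  have := D.fin
  obtain ⟨-, -, -, u, -, hu, -⟩ := num D.good D.rgd D.card
  have hU : IsPGroup 2 ((RGD.Sup X (RGD.Pos M.toCoxeterSystem h)).map L.subtype) := by
    apply IsPGroup.of_card (n := u)
    rw [Subgroup.card_map_of_injective (Subgroup.subtype_injective _), hu]
  obtain ⟨P, hP⟩ := hU.exists_le_sylow
  obtain ⟨g, hg⟩ := MulAction.exists_smul_eq (p.H) S P
  refine ⟨g, ?_⟩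
  rcases D.cent ((g : p.lz.V ≃ₗ[ZMod 2] p.lz.V) v) (fun x hx => by
    have h1 : ((x : L) : p.H) ∈ (P : Subgroup p.H) := hP ⟨x, hx, rfl⟩
    rw [← hg, Sylow.coe_subgroup_smul] at h1
    obtain ⟨s, hs, e⟩ := h1
    have e1 : ((x : L) : p.H) = g * s * g⁻¹ := e.symm
    have h2 := hS s hs
    show (p.H.subtype ((x : L) : p.H) : p.lz.V ≃ₗ[ZMod 2] p.lz.V) ((g : p.lz.V ≃ₗ[ZMod 2] p.lz.V) v) = _
    rw [e1]
    have e3 : (p.H.subtype (g * s * g⁻¹) : p.lz.V ≃ₗ[ZMod 2] p.lz.V) ((g : p.lz.V ≃ₗ[ZMod 2] p.lz.V) v) =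
        (p.H.subtype (g * s * g⁻¹ * g) : p.lz.V ≃ₗ[ZMod 2] p.lz.V) v := by
      rw [map_mul _ (g * s * g⁻¹) g]; rfl
    rw [e3, inv_mul_cancel_right, map_mul]
    show (g : p.lz.V ≃ₗ[ZMod 2] p.lz.V) ((s : p.lz.V ≃ₗ[ZMod 2] p.lz.V) v) = _
    rw [h2]) with h3 | h3
  · exfalso
    apply hv
    have : (g : p.lz.V ≃ₗ[ZMod 2] p.lz.V) v = (g : p.lz.V ≃ₗ[ZMod 2] p.lz.V) 0 := by rw [h3, map_zero]
    exact (g : p.lz.V ≃ₗ[ZMod 2] p.lz.V).injective this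
  · exact h3

/-- `C_G(z) ≤ N_G(G0)` -/
theorem centralizer_le (D : At p q i h L T n X) {g : G} (hg : g * z = z * g) :
    g ∈ Subgroup.normalizer ((A ⊔ MM p L : Subgroup G) : Set G) :=
  mem_normalizer_of fun _ hx => D.conj hg hx

theorem centralizer_le' (D : At p q i h L T n X) :
    Subgroup.centralizer ({z} : Set G) ≤ Subgroup.normalizer ((A ⊔ MM p L : Subgroup G) : Set G) :=
  fun _ hg => centralizer_le D (Subgroup.mem_centralizer_singleton_iff.1 hg)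

/-- **LEMMA (Q)**: every conjugate of `z` in `Q` is `y z y⁻¹` with `y ∈ N_G(G0)`. -/
theorem hadj (D : At p q i h L T n X)
    (hall : ∀ (A'' : Subgroup G) (a'' : G) (p' : Pair Q z A'' a''), ∃ w' : ℕ,
      Cfg (p'.H.subtype : p'.H →* (p'.lz.V ≃ₗ[ZMod 2] p'.lz.V)) p'.lz.b p'.lz.q p'.va p'.D (p'.X.subgroupOf p'.H) w')
    (g : G) (hg : g * z * g⁻¹ ∈ Q) :
    ∃ y ∈ Subgroup.normalizer ((A ⊔ MM p L : Subgroup G) : Set G), g * z * g⁻¹ = y * z * y⁻¹ := by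
  by_cases hne : g * z * g⁻¹ = z
  · exact ⟨1, one_mem _, by rw [hne]; group⟩
  have p' := pair_of_conj p.lz hg hne
  obtain ⟨w', C'⟩ := hall _ _ p'
  obtain ⟨S, -, hS⟩ := C'.exists_syl
  set b := g * z * g⁻¹ with hb
  -- a conjugate of `b` under `C_G(z)` is `a` modulo `z`
  obtain ⟨k, hk⟩ := exists_of_syl D S (v := p'.va) p'.va_ne fun s hs => hS hs
  obtain ⟨c, hc⟩ := aH_surj p k
  have h1 : p.lz.pr (p.lz.conjQ c ⟨b, hg⟩) = p.lz.pr ⟨a, p.a_mem⟩ := by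
    rw [← p.lz.act_pr]
    have h2 : ((aH p c : p.H) : p.lz.V ≃ₗ[ZMod 2] p.lz.V) p'.va = p.va := by rw [hc]; exact hk
    exact h2
  rw [p.lz.pr_eq_pr, p.lz.conjQ_coe] at h1
  have hcz := Subgroup.mem_centralizer_singleton_iff.1 c.2
  -- `y₁ b y₁⁻¹ = a` with `y₁ ∈ C_G(z)`
  obtain ⟨y₁, hy₁, e₁⟩ : ∃ y₁ : G, y₁ * z = z * y₁ ∧ y₁ * b * y₁⁻¹ = a := by
    rcases h1 with h1 | h1
    · exact ⟨c, hcz, h1⟩
    · obtain ⟨y, hy, e⟩ := exists_conj_mul p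
      refine ⟨y * c, ?_, ?_⟩
      · rw [mul_assoc, hcz, ← mul_assoc, p.lz.comm_z y hy, mul_assoc]
      · calc y * c * b * (y * c)⁻¹ = y * (c * b * (c : G)⁻¹) * y⁻¹ := by group
          _ = y * (a * z) * y⁻¹ := by rw [h1]
          _ = a := e
  obtain ⟨y₂, hy₂, e₂⟩ := exists_conj p
  refine ⟨y₁⁻¹ * y₂, mul_mem (inv_mem (centralizer_le D hy₁)) ?_, ?_⟩
  · exact Subgroup.le_normalizer (sup_le_sup_left Q_le_MM A hy₂)
  · calc b = y₁⁻¹ * (y₁ * b * y₁⁻¹) * y₁ := by group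
      _ = y₁⁻¹ * (y₂ * z * y₂⁻¹) * y₁ := by rw [e₁, e₂]
      _ = _ := by group

end Cfsg.Agent.Omega.EH3Close.QQ
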