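import Cfsg.Agent.Omega.EH3Close.Fin
import Cfsg.Agent.Omega.EH3Close.LocRow
import Cfsg.Agent.Omega.EH3Close.Quad
import Cfsg.Agent.Omega.EH3.Kf.Idx

/-!
# The closing theorem, the local bound in `H` (helper805)

`D : At p q i h L T n X`:
* `mod` : the module structure `Star.Mod` of `L`;
* `le_conj`, `card_le`, `card_le_mul` : 2-subgroups of `L` and of `p.H`;
* `quad_gen` : a bound for the abelian normal quadratic subgroups of `U` bounds those of a Sylow 2-subgroup of `p.H`.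
-/

set_option autoImplicit false
set_option linter.unusedSectionVars false

namespace Cfsg.Agent.Omega.EH3Close.AtLoc

open CoxeterSystem Cfsg.Agent.ChevalleyStructure.CoxeterGeom Cfsg.Agent.Tits.Roots Cfsg.Agent.Tits.Core
  Cfsg.Agent.Tits.RootComb Cfsg.Agent.Nodes.Comb Cfsg.Agent.Nodes.Reps Cfsg.Agent.Nodes.BNOf
  Cfsg.Agent.Nodes.StabComb Cfsg.Agent.Nodes.Bruhat Cfsg.Agent.Nodes.LeviDec Cfsg.Agent.Nodes.NormalForm
  Cfsg.Agent.Omega.EH3 Cfsg.Agent.Co2Type.Quad Cfsg.Agent.LargeExtra.Base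
  Cfsg.Agent.Omega.EH3Close.Glue Cfsg.Agent.Omega.EH3Close.Fin4
open Cfsg.Agent.Omega.EH3.Kf.Goal (Good)

theorem exists_ne {l : ℕ} {M : CoxeterMatrix (Fin l)} {q : Fin l → ℕ} {i : Fin l} (hg : Good M q i) : ∃ j, j ≠ i := by
  cases hg
  · exact ⟨0, by decide⟩
  · exact ⟨0, by decide⟩
  · exact ⟨0, by decide⟩
  · exact ⟨0, by decide⟩
  · exact ⟨0, by decide⟩

variable {G : Type*} [Group G] {Q A : Subgroup G} {z a : G} [Finite G] {p : Pair Q z A a} {l : ℕ}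
  {M : CoxeterMatrix (Fin l)} {q : Fin l → ℕ} {i : Fin l} {A' : Fin l → Fin l → ℤ} {h : IsCartan M A'}
  {L : Subgroup p.H} {T : Subgroup L} {n : Fin l → L} {X : (Fin l → ℤ) → Subgroup L} {w : ℕ}

theorem finite_H : Finite p.H := Finite.of_surjective _ (aH_surj p)

/-- the module of `L` -/
noncomputable def rho (p : Pair Q z A a) (L : Subgroup p.H) : L →* (p.lz.V ≃ₗ[ZMod 2] p.lz.V) :=
  (p.H.subtype).comp L.subtype

theorem rho_apply (g : L) (v : p.lz.V) : rho p L g v = ((g : p.H) : p.lz.V ≃ₗ[ZMod 2] p.lz.V) v := rfl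

theorem mod (C : Cfg (p.H.subtype : p.H →* (p.lz.V ≃ₗ[ZMod 2] p.lz.V)) p.lz.b p.lz.q p.va p.D (p.X.subgroupOf p.H) w)
    (D : At p q i h L T n X) : Star.Mod M.toCoxeterSystem h T n X (rho p L) p.va i := by
  have := finite_H (p := p)
  have := D.fin
  obtain ⟨j, hj⟩ := exists_ne D.good
  have hq2 : q i = 2 := (num D.good D.rgd D.card).1
  have hB : ∀ g ∈ RGD.B M.toCoxeterSystem h T X, rho p L g p.va = p.va := fun g hg =>
    D.fix j hj g (B_le_PJ hg)
  refine ⟨D.rgd, C.a_ne, hB, fun k hk => D.fix k hk _ (OfRGD.n_mem D.rgd k), by rw [D.card, hq2], ?_, D.cent⟩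
  intro hfix
  obtain ⟨g, hg, hga⟩ := Two.exists_move C D.normal D.odd
  apply hga
  let St : Subgroup L := {
    carrier := {g | rho p L g p.va = p.va}
    one_mem' := Star.rone _ _
    mul_mem' := fun {x y} hx hy => by
      show rho p L (x * y) p.va = p.va
      rw [Star.rmul, show rho p L y p.va = p.va from hy]
      exact hx
    inv_mem' := fun {x} hx => Star.rinv _ hx }
  have h1 : ∀ k, PJ M.toCoxeterSystem h T X {k} ≤ St := by
    intro k g hg
    by_cases hk : k = i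
    · subst hk
      by_cases hgB : g ∈ RGD.B M.toCoxeterSystem h T X
      · exact hB g hgB
      · obtain ⟨u, hu, b, hb, rfl⟩ := OfRGD.exists_form D.rgd hg hgB
        have hu' : u ∈ RGD.B M.toCoxeterSystem h T X := RGD.X_le_B (isRoot_sr _ h k) (sr_nonneg k) hu
        exact mul_mem (mul_mem (show u ∈ St from hB u hu') (show n k ∈ St from hfix)) (show b ∈ St from hB b hb)
    · exact D.fix k hk g hg
  have h2 : (⊤ : Subgroup L) ≤ St := by
    rw [← OfRGD.gen_top D.rgd D.gen]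
    exact sup_le (fun g hg => hB g hg) (iSup_le h1)
  exact h2 (Subgroup.mem_top (⟨g, hg⟩ : L))

/-- 2-subgroups of `L` -/
theorem le_conj (D : At p q i h L T n X) {K : Subgroup L} (hK : IsPGroup 2 K) :
    ∃ g : L, ∀ k ∈ K, g * k * g⁻¹ ∈ RGD.Sup X (RGD.Pos M.toCoxeterSystem h) := by
  have := finite_H (p := p)
  have := D.fin
  obtain ⟨P, hP⟩ := hK.exists_le_sylow
  obtain ⟨S, hS⟩ := (D.rgd.isPGroup_Upos (cs := M.toCoxeterSystem) (h := h)).exists_le_sylow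
  have hSU : (S : Subgroup L) = RGD.Sup X (RGD.Pos M.toCoxeterSystem h) :=
    eq_U_of_isPGroup D.rgd S.isPGroup' hS (by rw [D.gen]; exact le_top)
  obtain ⟨g, hg⟩ := MulAction.exists_smul_eq L P S
  refine ⟨g, fun k hk => ?_⟩
  rw [← hSU]
  rw [← hg, Sylow.coe_subgroup_smul]
  exact ⟨k, hP hk, rfl⟩

theorem card_le (D : At p q i h L T n X) {K : Subgroup L} (hK : IsPGroup 2 K) :
    Nat.card K ≤ Nat.card (RGD.Sup X (RGD.Pos M.toCoxeterSystem h)) := by
  have := finite_H (p := p)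
  obtain ⟨g, hg⟩ := le_conj D hK
  exact Nat.card_le_card_of_injective
    (fun k : K => (⟨g * k * g⁻¹, hg k k.2⟩ : RGD.Sup X (RGD.Pos M.toCoxeterSystem h))) fun x y e => by
      have h1 : g * x * g⁻¹ = g * y * g⁻¹ := congrArg Subtype.val e
      exact Subtype.ext (mul_left_cancel (mul_right_cancel h1))

/-- the index -/
theorem index_le (C : Cfg (p.H.subtype : p.H →* (p.lz.V ≃ₗ[ZMod 2] p.lz.V)) p.lz.b p.lz.q p.va p.D (p.X.subgroupOf p.H) w)
    (D : At p q i h L T n X) : L.index ≤ 2 := by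
  have := finite_H (p := p)
  have := D.fin
  have := D.normal
  exact Kf.Idx.index_le_two C.inj C.irr C.a_ne D.good D.odd D.rgd D.gen D.fix D.card D.cent

/-- `|K| ≤ |H : L| |K ∩ L|` -/
theorem card_le_index (K : Subgroup p.H) : Nat.card K ≤ L.index * Nat.card (K ⊓ L : Subgroup p.H) := by
  have := finite_H (p := p)
  have h1 := Quad.card_inf_mul_relIndex L K
  rw [← h1, mul_comm]
  refine Nat.mul_le_mul_right _ ?_
  rw [← Subgroup.relIndex_top_right]
  exact Subgroup.relIndex_le_of_le_right le_top (Subgroup.index_ne_zero_of_finite)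

theorem card_inf_eq (K : Subgroup p.H) : Nat.card (K ⊓ L : Subgroup p.H) = Nat.card (K.subgroupOf L) := by
  rw [← Subgroup.subgroupOf_map_subtype, Subgroup.card_map_of_injective L.subtype_injective]

theorem card_le_mul (C : Cfg (p.H.subtype : p.H →* (p.lz.V ≃ₗ[ZMod 2] p.lz.V)) p.lz.b p.lz.q p.va p.D (p.X.subgroupOf p.H) w)
    (D : At p q i h L T n X) {K : Subgroup p.H} (hK : IsPGroup 2 K) :
    Nat.card K ≤ 2 * Nat.card (RGD.Sup X (RGD.Pos M.toCoxeterSystem h)) := by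
  refine (card_le_index (L := L) K).trans (Nat.mul_le_mul (index_le C D) ?_)
  rw [card_inf_eq]
  exact card_le D (hK.comap_subtype)

/-- **Transport of the local bound.** -/
theorem quad_gen (D : At p q i h L T n X) {b : ℕ}
    (hb : ∀ Ab : Subgroup L, Ab ≤ RGD.Sup X (RGD.Pos M.toCoxeterSystem h) → (∀ x ∈ Ab, ∀ y ∈ Ab, x * y = y * x) →
      (∀ g ∈ RGD.Sup X (RGD.Pos M.toCoxeterSystem h), ∀ x ∈ Ab, g * x * g⁻¹ ∈ Ab) →
      (∀ x ∈ Ab, ∀ y ∈ Ab, ∀ v, rho p L x (rho p L y v + v) = rho p L y v + v) → Nat.card Ab ≤ b)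
    (P : Sylow 2 p.H) {A1 : Subgroup p.H} (h1 : A1 ≤ (P : Subgroup p.H)) (hc : ∀ x ∈ A1, ∀ y ∈ A1, x * y = y * x)
    (hn : ∀ g ∈ (P : Subgroup p.H), ∀ x ∈ A1, g * x * g⁻¹ ∈ A1)
    (hq : ∀ x ∈ A1, ∀ y ∈ A1, ∀ v, (x : p.lz.V ≃ₗ[ZMod 2] p.lz.V) ((y : p.lz.V ≃ₗ[ZMod 2] p.lz.V) v + v) =
      (y : p.lz.V ≃ₗ[ZMod 2] p.lz.V) v + v) : Nat.card A1 ≤ L.index * b := by
  have := finite_H (p := p)
  have := D.fin
  refine (card_le_index (L := L) A1).trans (Nat.mul_le_mul_left _ ?_)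
  -- `U` lies in a Sylow 2-subgroup `P'` conjugate to `P`
  have hU : IsPGroup 2 ((RGD.Sup X (RGD.Pos M.toCoxeterSystem h)).map L.subtype) :=
    (D.rgd.isPGroup_Upos (cs := M.toCoxeterSystem) (h := h)).map _
  obtain ⟨P', hP'⟩ := hU.exists_le_sylow
  obtain ⟨g, hg⟩ := MulAction.exists_smul_eq p.H P' P
  have hgP : ∀ x ∈ (P' : Subgroup p.H), g * x * g⁻¹ ∈ (P : Subgroup p.H) := by
    intro x hx
    rw [← hg, Sylow.coe_subgroup_smul]
    exact ⟨x, hx, rfl⟩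
  have hgP' : ∀ x ∈ (P : Subgroup p.H), g⁻¹ * x * g ∈ (P' : Subgroup p.H) := by
    intro x hx
    rw [← hg, Sylow.coe_subgroup_smul] at hx
    obtain ⟨y, hy, e⟩ := hx
    have e1 : x = g * y * g⁻¹ := e.symm
    have e2 : g⁻¹ * x * g = y := by rw [e1]; group
    rw [e2]
    exact hy
  have hLn := D.normal
  -- the subgroup
  let Ab : Subgroup L := {
    carrier := {x | g * (x : p.H) * g⁻¹ ∈ A1}
    one_mem' := by
      show g * ((1 : L) : p.H) * g⁻¹ ∈ A1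
      rw [Subgroup.coe_one, mul_one, mul_inv_cancel]; exact one_mem _
    mul_mem' := fun {x y} hx hy => by
      show g * ((x * y : L) : p.H) * g⁻¹ ∈ A1
      have e : g * ((x * y : L) : p.H) * g⁻¹ = (g * (x : p.H) * g⁻¹) * (g * (y : p.H) * g⁻¹) := by
        rw [Subgroup.coe_mul]; group
      rw [e]; exact mul_mem hx hy
    inv_mem' := fun {x} hx => by
      show g * ((x⁻¹ : L) : p.H) * g⁻¹ ∈ A1
      have e : g * ((x⁻¹ : L) : p.H) * g⁻¹ = (g * (x : p.H) * g⁻¹)⁻¹ := by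
        rw [Subgroup.coe_inv]; group
      rw [e]; exact inv_mem hx }
  have hmem : ∀ x : L, x ∈ Ab ↔ g * (x : p.H) * g⁻¹ ∈ A1 := fun x => Iff.rfl
  -- its order
  have hcard : Nat.card (A1 ⊓ L : Subgroup p.H) = Nat.card Ab := by
    refine Nat.card_congr
      { toFun := fun x => ⟨⟨g⁻¹ * (x : p.H) * g, by
            have := hLn.conj_mem _ x.2.2 g⁻¹
            rwa [inv_inv] at this⟩, by
            rw [hmem]
            have e : g * (g⁻¹ * (x : p.H) * g) * g⁻¹ = x := by group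
            show g * (g⁻¹ * (x : p.H) * g) * g⁻¹ ∈ A1
            rw [e]; exact x.2.1⟩
        invFun := fun x => ⟨g * ((x : L) : p.H) * g⁻¹, x.2, hLn.conj_mem _ (x : L).2 g⟩
        left_inv := fun x => Subtype.ext (by
          show g * (g⁻¹ * (x : p.H) * g) * g⁻¹ = x
          group)
        right_inv := fun x => Subtype.ext (Subtype.ext (by
          show g⁻¹ * (g * ((x : L) : p.H) * g⁻¹) * g = ((x : L) : p.H)
          group)) }
  rw [hcard]
  have key : ∀ (x y : p.H) (v : p.lz.V), (x : p.lz.V ≃ₗ[ZMod 2] p.lz.V) ((y : p.lz.V ≃ₗ[ZMod 2] p.lz.V) v) =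
      ((x * y : p.H) : p.lz.V ≃ₗ[ZMod 2] p.lz.V) v := fun _ _ _ => rfl
  refine hb Ab ?_ ?_ ?_ ?_
  · -- `Ab ≤ U`
    have h2 : ((P' : Subgroup p.H).subgroupOf L) = RGD.Sup X (RGD.Pos M.toCoxeterSystem h) := by
      refine eq_U_of_isPGroup D.rgd (P'.isPGroup'.comap_subtype) ?_ (by rw [D.gen]; exact le_top)
      intro x hx
      exact Subgroup.mem_subgroupOf.2 (hP' ⟨x, hx, rfl⟩)
    intro x hx
    rw [← h2, Subgroup.mem_subgroupOf]
    have h3 := hgP' _ (h1 ((hmem x).1 hx))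
    have e : g⁻¹ * (g * (x : p.H) * g⁻¹) * g = x := by group
    rwa [e] at h3
  · intro x hx y hy
    have h2 := hc _ ((hmem x).1 hx) _ ((hmem y).1 hy)
    apply Subtype.ext
    have e1 : g * (x : p.H) * g⁻¹ * (g * (y : p.H) * g⁻¹) = g * ((x : p.H) * y) * g⁻¹ := by group
    have e2 : g * (y : p.H) * g⁻¹ * (g * (x : p.H) * g⁻¹) = g * ((y : p.H) * x) * g⁻¹ := by group
    rw [e1, e2] at h2
    exact mul_left_cancel (mul_right_cancel h2)
  · intro u hu x hx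
    rw [hmem] at hx ⊢
    have h2 := hn _ (hgP _ (hP' ⟨u, hu, rfl⟩)) _ hx
    have e : g * (L.subtype u) * g⁻¹ * (g * (x : p.H) * g⁻¹) * (g * (L.subtype u) * g⁻¹)⁻¹ =
        g * ((u * x * u⁻¹ : L) : p.H) * g⁻¹ := by
      rw [Subgroup.coe_mul, Subgroup.coe_mul, Subgroup.coe_inv]
      show g * (u : p.H) * g⁻¹ * (g * (x : p.H) * g⁻¹) * (g * (u : p.H) * g⁻¹)⁻¹ = _
      group
    rwa [e] at h2
  · intro x hx y hy v
    rw [hmem] at hx hy
    have h2 := hq _ hx _ hy ((g : p.lz.V ≃ₗ[ZMod 2] p.lz.V) v)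
    have h3 : ((g * (y : p.H) * g⁻¹ : p.H) : p.lz.V ≃ₗ[ZMod 2] p.lz.V) ((g : p.lz.V ≃ₗ[ZMod 2] p.lz.V) v) =
        (g : p.lz.V ≃ₗ[ZMod 2] p.lz.V) (((y : p.H) : p.lz.V ≃ₗ[ZMod 2] p.lz.V) v) := by
      rw [key, key]
      congr 2
      group
    rw [h3, ← map_add] at h2
    have h4 : ∀ u : p.lz.V, ((g * (x : p.H) * g⁻¹ : p.H) : p.lz.V ≃ₗ[ZMod 2] p.lz.V) ((g : p.lz.V ≃ₗ[ZMod 2] p.lz.V) u) =
        (g : p.lz.V ≃ₗ[ZMod 2] p.lz.V) (((x : p.H) : p.lz.V ≃ₗ[ZMod 2] p.lz.V) u) := by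
      intro u
      rw [key, key]
      congr 2
      group
    rw [h4] at h2
    exact (g : p.lz.V ≃ₗ[ZMod 2] p.lz.V).injective h2

end Cfsg.Agent.Omega.EH3Close.AtLoc
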