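import Cfsg.Agent.Omega.EH3Close.Fin

/-!
# EH3 END, glue 3: the (B,N)-pair of `⟨A, MM p L⟩`

`At.exists_bnPair` : in the situation `At` (the output `Four` of KF) the group `G0 = ⟨A, MM p L⟩` has an irreducible
(B,N)-pair of rank at least 3 with Borel subgroup the preimage of `B`.
-/

set_option autoImplicit false

namespace Cfsg.Agent.Omega.EH3Close.Fin4.At

open CoxeterSystem Cfsg.Agent.ChevalleyStructure.CoxeterGeom Cfsg.Agent.Tits.Roots Cfsg.Agent.Tits.Core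
  Cfsg.Agent.Tits.RootComb Cfsg.Agent.Nodes.Comb Cfsg.Agent.Nodes.Reps Cfsg.Agent.Nodes.BNOf
  Cfsg.Agent.Nodes.StabComb Cfsg.Agent.Nodes.Bruhat Cfsg.Agent.Nodes.LeviDec Cfsg.Agent.Nodes.NormalForm
  Cfsg.Agent.ParSys Cfsg.Agent.ParSys.FreeCount Cfsg.Agent.Omega.ThmID Cfsg.Agent.Omega.EH3
  Cfsg.Agent.Co2Type.Quad Cfsg.Agent.LargeExtra.Base Cfsg.Agent.Omega.EH3Close.Glue
open Cfsg.Agent.Omega.EH3.Kf.Goal (Good Four)

variable {G : Type*} [Group G] {Q A : Subgroup G} {z a : G}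
  {p : Pair Q z A a} {l : ℕ} {M : CoxeterMatrix (Fin l)} {q : Fin l → ℕ} {i : Fin l}
  {A' : Fin l → Fin l → ℤ} {h : IsCartan M A'} {L : Subgroup p.H} {T : Subgroup L} {n : Fin l → L}
  {X : (Fin l → ℤ) → Subgroup L} [Finite G] {w : ℕ}

/-- `|X0| = |V_J|`, `|U|`, `|Q|`: the numbers -/
theorem nums (D : At p q i h L T n X)
    (C : Cfg (p.H.subtype : p.H →* (p.lz.V ≃ₗ[ZMod 2] p.lz.V)) p.lz.b p.lz.q p.va p.D (p.X.subgroupOf p.H) w) :
    q i = 2 ∧ (∀ j, 2 ≤ q j) ∧ 3 ≤ Nat.card (Option (Fin l)) ∧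
      HasQ (extM M {i}) (qq q) (Nat.card (up (phi p L) (RGD.Sup X (RGD.Pos M.toCoxeterSystem h)))) ∧
      ∀ J : Set (Option (Fin l)), J.Nonempty → Jᶜ.Nonempty → ∃ k ∈ J, ∃ j ∈ Jᶜ, extM M {i} k j ≠ 2 := by
  have := D.fin
  obtain ⟨h1, h2, h3, u, v, hu, hv, hQ, hc⟩ := num D.good D.rgd D.card
  refine ⟨h1, h2, h3, ?_, hc⟩
  have e1 : Nat.card (p.X.subgroupOf p.H) = 2 ^ v := by
    rw [D.X0, Subgroup.card_map_of_injective (Subgroup.subtype_injective _), hv]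
  have e2 : w - 1 = v := by
    have := C.card_X
    rw [e1] at this
    exact (Nat.pow_right_injective (le_refl 2) this).symm
  have e3 := C.five
  have e4 : w = v + 1 := by omega
  have e5 : Nat.card Q = 2 ^ (2 * v + 3) := by
    rw [p.lz.card_eq, C.card_V, e4, ← pow_succ']
    congr 1
  rw [card_up, e5, hu, ← pow_add]
  exact hQ

/-- **The (B,N)-pair of `G0 = ⟨A, MM p L⟩`.** -/
theorem exists_bnPair (D : At p q i h L T n X)
    (C : Cfg (p.H.subtype : p.H →* (p.lz.V ≃ₗ[ZMod 2] p.lz.V)) p.lz.b p.lz.q p.va p.D (p.X.subgroupOf p.H) w) :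
    ∃ P : Cfsg.BNPair ↥(A ⊔ MM p L), P.B = (up (phi p L) (RGD.B M.toCoxeterSystem h T X)).subgroupOf (A ⊔ MM p L) ∧
      3 ≤ P.rank ∧ P.Irreducible := by
  have := D.fin
  obtain ⟨h1, h2, h3, hQ, hc⟩ := D.nums C
  have hs := sys C D.normal D.odd D.X0_le D.rgd D.gen D.fix D.card h1 h2 D.cent
  have hle : up (phi p L) (RGD.Sup X (RGD.Pos M.toCoxeterSystem h)) ≤ A ⊔ MM p L := by
    refine le_trans ?_ le_sup_right
    intro g hg
    exact (mem_up.1 hg).1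
  have hcard : Nat.card ((up (phi p L) (RGD.Sup X (RGD.Pos M.toCoxeterSystem h))).subgroupOf (A ⊔ MM p L)) =
      Nat.card (up (phi p L) (RGD.Sup X (RGD.Pos M.toCoxeterSystem h))) :=
    Nat.card_congr (Subgroup.subgroupOfEquivOfLe hle).toEquiv
  obtain ⟨P, hB, hr, -, hirr⟩ := hQ.exists_bnPair hs hcard
  exact ⟨P, hB, hr ▸ h3, hirr hc⟩

end Cfsg.Agent.Omega.EH3Close.Fin4.At
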