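import Cfsg.Agent.LargeExtra.Base

/-!
# NODE ALL, `q = 2`, `Q = F*(C(z))` extraspecial: the block bound (bb OMEGA, helper635)

`z, r = m z m⁻¹` in an abelian group `V` normalised by `Q`, `m ∉ Y` where `C_G(z) ≤ Y` and
`z^g ∈ Q → g ∈ Y`.  Then `|Q : C_Q(r)| ≤ 2 |V : V ∩ Q_r|` (`Blk.bound`), and `Q ∩ Q_r` contains no conjugate of `z`
(`Blk.free`).
-/

set_option autoImplicit false

namespace Cfsg.Agent.Omega.EH3Close

open Cfsg.Agent.Co2Type.Quad Cfsg.Agent.LargeExtra.Base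

variable {G : Type*} [Group G]

/-- The setting. -/
structure Blk (Q : Subgroup G) (z : G) (Y V : Subgroup G) (m : G) : Prop where
  lz : Large Q z
  fus : ∀ g, g * z * g⁻¹ ∈ Q → g ∈ Y
  comm : ∀ v ∈ V, ∀ w ∈ V, v * w = w * v
  norm : ∀ x ∈ Q, ∀ v ∈ V, x * v * x⁻¹ ∈ V
  zV : z ∈ V
  rV : m * z * m⁻¹ ∈ V
  notMem : m ∉ Y

namespace Blk

variable {Q : Subgroup G} {z : G} {Y V : Subgroup G} {m : G} (B : Blk Q z Y V m)

/-- `Q_r` -/
def R (Q : Subgroup G) (m : G) : Subgroup G := Q.map (MulAut.conj m).toMonoidHom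

theorem mem_R {x : G} : x ∈ R Q m ↔ m⁻¹ * x * m ∈ Q := by
  constructor
  · rintro ⟨y, hy, rfl⟩
    have e : m⁻¹ * (MulAut.conj m).toMonoidHom y * m = y := by
      show m⁻¹ * (m * y * m⁻¹) * m = y
      group
    rwa [e]
  · intro h
    exact ⟨_, h, by show m * (m⁻¹ * x * m) * m⁻¹ = x; group⟩

include B

/-- no conjugate of `z` lies in `Q ∩ Q_r` -/
theorem free {g : G} (h1 : g * z * g⁻¹ ∈ Q) (h2 : g * z * g⁻¹ ∈ R Q m) : False := by
  rw [mem_R] at h2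
  have e : m⁻¹ * (g * z * g⁻¹) * m = (m⁻¹ * g) * z * (m⁻¹ * g)⁻¹ := by group
  rw [e] at h2
  have h3 := B.fus _ h1
  have h4 := B.fus _ h2
  apply B.notMem
  have h5 := Y.mul_mem h3 (Y.inv_mem h4)
  have e2 : g * (m⁻¹ * g)⁻¹ = m := by group
  rwa [e2] at h5

theorem z_notMem_R : z ∉ R Q m := by
  intro h
  refine B.free (g := 1) ?_ ?_
  · simpa using B.lz.z_mem
  · simpa using h

theorem lr : Large (R Q m) (m * z * m⁻¹) := B.lz.conj m

theorem r_mem_R : m * z * m⁻¹ ∈ R Q m := B.lr.z_mem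

theorem r_ne : m * z * m⁻¹ ≠ 1 := B.lr.z_ne

theorem r_sq : m * z * m⁻¹ * (m * z * m⁻¹) = 1 := B.lr.z_sq

theorem r_comm_z : m * z * m⁻¹ * z = z * (m * z * m⁻¹) := B.comm _ B.rV _ B.zV

/-- `σ(x) = r r^x` -/
def sg (z m x : G) : G := m * z * m⁻¹ * (x * (m * z * m⁻¹) * x⁻¹)

theorem sg_V {x : G} (hx : x ∈ Q) : sg z m x ∈ V := V.mul_mem B.rV (B.norm x hx _ B.rV)

theorem sg_Q {x : G} (hx : x ∈ Q) : sg z m x ∈ Q := by
  have h1 := B.lz.conj_mem _ B.r_comm_z x hx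
  have h2 := Q.mul_mem h1 (Q.inv_mem hx)
  have e : m * z * m⁻¹ * x * (m * z * m⁻¹)⁻¹ * x⁻¹ = sg z m x := by
    rw [inv_eq_of_mul_eq_one_left B.r_sq, sg]
    group
  rwa [e] at h2

theorem conj_eq {x : G} : x * (m * z * m⁻¹) * x⁻¹ = m * z * m⁻¹ * sg z m x := by
  have e : m * z * m⁻¹ * sg z m x = (m * z * m⁻¹ * (m * z * m⁻¹)) * (x * (m * z * m⁻¹) * x⁻¹) := by
    rw [sg]; group
  rw [e, B.r_sq, one_mul]

theorem sg_eq_one_iff {x : G} : sg z m x = 1 ↔ x * (m * z * m⁻¹) = m * z * m⁻¹ * x := by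
  constructor
  · intro h
    have h1 := B.conj_eq (x := x)
    rw [h, mul_one, mul_inv_eq_iff_eq_mul] at h1
    exact h1
  · intro h
    rw [sg, h]
    have e : m * z * m⁻¹ * (m * z * m⁻¹ * x * x⁻¹) = m * z * m⁻¹ * (m * z * m⁻¹) := by group
    rw [e, B.r_sq]

/-- CLAIM (1) -/
theorem sg_eq_one {x : G} (hx : x ∈ Q) (h : sg z m x ∈ R Q m) : sg z m x = 1 := by
  by_contra hne
  have h1 : x * (m * z * m⁻¹) * x⁻¹ ∈ R Q m := by
    rw [B.conj_eq]; exact (R Q m).mul_mem B.r_mem_R h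
  have h2 : x * (m * z * m⁻¹) * x⁻¹ ≠ 1 := by
    intro h'
    apply B.r_ne
    rw [mul_inv_eq_one] at h'
    have : x * (m * z * m⁻¹) = x * 1 := by rw [h', mul_one]
    exact mul_left_cancel this
  have h3 : x * (m * z * m⁻¹) * x⁻¹ ≠ m * z * m⁻¹ := by
    intro h'
    apply hne
    rw [B.conj_eq] at h'
    exact mul_eq_left.1 h'
  obtain ⟨y, hy, hyx⟩ := exists_not_comm B.lr h1 h2 h3
  -- `y u y⁻¹ = u r = σ(x)`
  have h4 : (y * x * m) * z * (y * x * m)⁻¹ = sg z m x := by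
    have e1 : (y * x * m) * z * (y * x * m)⁻¹ = y * (x * (m * z * m⁻¹) * x⁻¹) * y⁻¹ := by group
    have h5 := B.lr.comm_z y hy
    have h6 : y * (x * (m * z * m⁻¹) * x⁻¹) * y⁻¹ = x * (m * z * m⁻¹) * x⁻¹ * (m * z * m⁻¹) := by
      rw [hyx, mul_assoc (x * (m * z * m⁻¹) * x⁻¹) y, h5]
      group
    rw [e1, h6, sg]
    exact B.lr.comm_z _ h1
  refine B.free (g := y * x * m) ?_ ?_
  · rw [h4]; exact B.sg_Q hx
  · rw [h4]; exact h

/-- the cocycle: `σ(xy) = x σ(y) x⁻¹ σ(x)` -/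
theorem sg_mul (x y : G) : sg z m (x * y) = sg z m x * (x * sg z m y * x⁻¹) := by
  have h1 := B.conj_eq (x := x)
  calc sg z m (x * y) = m * z * m⁻¹ * (x * (y * (m * z * m⁻¹) * y⁻¹) * x⁻¹) := by rw [sg]; group
    _ = m * z * m⁻¹ * (x * (m * z * m⁻¹ * sg z m y) * x⁻¹) := by rw [B.conj_eq (x := y)]
    _ = m * z * m⁻¹ * ((x * (m * z * m⁻¹) * x⁻¹) * (x * sg z m y * x⁻¹)) := by group
    _ = m * z * m⁻¹ * (m * z * m⁻¹ * sg z m x * (x * sg z m y * x⁻¹)) := by rw [h1]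
    _ = (m * z * m⁻¹ * (m * z * m⁻¹)) * (sg z m x * (x * sg z m y * x⁻¹)) := by group
    _ = _ := by rw [B.r_sq, one_mul]

/-- conjugation by `x ∈ Q` on `V ∩ Q` changes elements by `1` or `z` -/
theorem conj_cases {x s : G} (hx : x ∈ Q) (hs : s ∈ Q) :
    (x * s = s * x ∧ x * s * x⁻¹ = s) ∨ (x * s ≠ s * x ∧ x * s * x⁻¹ = s * z) := by
  by_cases h : x * s = s * x
  · left; exact ⟨h, by rw [h]; group⟩
  · right
    refine ⟨h, ?_⟩
    rcases B.lz.comm x hx s hs with h1 | h1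
    · exact absurd h1 h
    · rw [h1, mul_assoc (s * x), ← (B.lz.commz hx).inv_left.eq]; group

/-- `K = {x ∈ Q : σ(x) ∈ Q_r ∪ z Q_r}` -/
def K (Q : Subgroup G) (z m : G) : Set G := {x | x ∈ Q ∧ (sg z m x ∈ R Q m ∨ sg z m x * z ∈ R Q m)}

/-- `W' = {v ∈ V : v ∈ Q_r ∪ z Q_r}` -/
def W' : Subgroup G where
  carrier := {v | v ∈ V ∧ (v ∈ R Q m ∨ v * z ∈ R Q m)}
  one_mem' := ⟨V.one_mem, Or.inl (R Q m).one_mem⟩
  mul_mem' := by
    rintro a b ⟨ha, ha'⟩ ⟨hb, hb'⟩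
    refine ⟨V.mul_mem ha hb, ?_⟩
    rcases ha' with ha' | ha' <;> rcases hb' with hb' | hb'
    · left; exact mul_mem ha' hb'
    · right; have := mul_mem ha' hb'; rwa [← mul_assoc] at this
    · right
      have h1 := mul_mem ha' hb'
      have e : a * z * b = a * b * z := by rw [mul_assoc, B.comm z B.zV b hb, ← mul_assoc]
      rwa [e] at h1
    · left
      have h1 := mul_mem ha' hb'
      have e : a * z * (b * z) = a * b * (z * z) := by
        rw [mul_assoc a z, ← mul_assoc z b, B.comm z B.zV b hb]; group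
      rwa [e, B.lz.z_sq, mul_one] at h1
  inv_mem' := by
    rintro a ⟨ha, ha'⟩
    refine ⟨V.inv_mem ha, ?_⟩
    rcases ha' with ha' | ha'
    · left; exact inv_mem ha'
    · right
      have h1 := inv_mem ha'
      have e : (a * z)⁻¹ = a⁻¹ * z := by
        rw [mul_inv_rev, B.lz.z_inv, B.comm z B.zV a⁻¹ (V.inv_mem ha)]
      rwa [e] at h1

theorem mem_W' {v : G} : v ∈ B.W' ↔ v ∈ V ∧ (v ∈ R Q m ∨ v * z ∈ R Q m) := Iff.rfl

theorem z_mem_W' : z ∈ B.W' := ⟨B.zV, Or.inr (by rw [B.lz.z_sq]; exact one_mem _)⟩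

/-- for `x, y ∈ Q`: `σ(x)⁻¹ σ(y) ∈ W'` iff `σ(x⁻¹y) ∈ W'` -/
theorem sg_inv_mul_mem {x y : G} (hx : x ∈ Q) (hy : y ∈ Q) :
    (sg z m x)⁻¹ * sg z m y ∈ B.W' ↔ sg z m (x⁻¹ * y) ∈ B.W' := by
  have h1 := B.sg_mul x (x⁻¹ * y)
  rw [mul_inv_cancel_left] at h1
  have hQ : sg z m (x⁻¹ * y) ∈ Q := B.sg_Q (mul_mem (inv_mem hx) hy)
  rw [h1, inv_mul_cancel_left]
  rcases B.conj_cases hx hQ with ⟨-, h2⟩ | ⟨-, h2⟩
  · rw [h2]
  · rw [h2]
    constructor
    · intro h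
      have := mul_mem h (inv_mem B.z_mem_W')
      rwa [mul_inv_cancel_right] at this
    · intro h; exact mul_mem h B.z_mem_W'

/-- the subgroup `K` -/
def KS : Subgroup G where
  carrier := {x | x ∈ Q ∧ sg z m x ∈ B.W'}
  one_mem' := ⟨Q.one_mem, by
    have : sg z m 1 = 1 := by rw [B.sg_eq_one_iff]; group
    rw [this]; exact one_mem _⟩
  mul_mem' := by
    rintro a b ⟨ha, ha'⟩ ⟨hb, hb'⟩
    refine ⟨mul_mem ha hb, ?_⟩
    rw [B.sg_mul]
    refine mul_mem ha' ?_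
    rcases B.conj_cases ha (B.sg_Q hb) with ⟨-, h⟩ | ⟨-, h⟩
    · rwa [h]
    · rw [h]; exact mul_mem hb' B.z_mem_W'
  inv_mem' := by
    rintro a ⟨ha, ha'⟩
    refine ⟨inv_mem ha, ?_⟩
    have h1 := (B.sg_inv_mul_mem ha (one_mem Q)).1 (by
      have : sg z m 1 = 1 := by rw [B.sg_eq_one_iff]; group
      rw [this, mul_one]; exact inv_mem ha')
    rwa [mul_one] at h1

theorem mem_KS {x : G} : x ∈ B.KS ↔ x ∈ Q ∧ sg z m x ∈ B.W' := Iff.rfl

/-- `C_Q(r)` -/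
def CQ (Q : Subgroup G) (z m : G) : Subgroup G := Q ⊓ Subgroup.centralizer {m * z * m⁻¹}

omit B in
theorem mem_CQ {x : G} : x ∈ CQ Q z m ↔ x ∈ Q ∧ x * (m * z * m⁻¹) = m * z * m⁻¹ * x := by
  rw [CQ, Subgroup.mem_inf, Subgroup.mem_centralizer_singleton_iff]

theorem CQ_le_KS : CQ Q z m ≤ B.KS := by
  intro x hx
  rw [mem_CQ] at hx
  refine ⟨hx.1, ?_⟩
  rw [B.sg_eq_one_iff.2 hx.2]
  exact one_mem _

/-- for `x ∈ K \ C_Q(r)`: `σ(x) z ∈ Q_r` -/
theorem sg_z {x : G} (hx : x ∈ B.KS) (hn : x ∉ CQ Q z m) : sg z m x * z ∈ R Q m := by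
  rcases hx.2.2 with h | h
  · exfalso
    apply hn
    rw [mem_CQ]
    exact ⟨hx.1, B.sg_eq_one_iff.1 (B.sg_eq_one hx.1 h)⟩
  · exact h

/-- `x` commutes with `σ(x)` -/
theorem comm_self {x : G} (hx : x ∈ Q) : x * sg z m x = sg z m x * x := by
  -- `x²` centralises `r`
  have h1 : sg z m (x * x) = 1 := by
    rw [B.sg_eq_one_iff]
    rcases B.lz.sq x hx with h | h
    · rw [h]; group
    · rw [h]; exact B.r_comm_z.symm
  rw [B.sg_mul] at h1
  rcases B.conj_cases hx (B.sg_Q hx) with ⟨h, -⟩ | ⟨h, h2⟩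
  · exact h
  · exfalso
    rw [h2, ← mul_assoc] at h1
    -- `σ² = 1`
    have h3 : sg z m x * sg z m x = 1 := by
      have hr := B.r_sq
      have h4 : x * (m * z * m⁻¹) * x⁻¹ * (x * (m * z * m⁻¹) * x⁻¹) = 1 := by
        calc _ = x * (m * z * m⁻¹ * (m * z * m⁻¹)) * x⁻¹ := by group
          _ = 1 := by rw [hr]; group
      have hc := B.comm _ B.rV _ (B.norm x hx _ B.rV)
      rw [sg]
      calc m * z * m⁻¹ * (x * (m * z * m⁻¹) * x⁻¹) * (m * z * m⁻¹ * (x * (m * z * m⁻¹) * x⁻¹))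
          = m * z * m⁻¹ * ((x * (m * z * m⁻¹) * x⁻¹) * (m * z * m⁻¹)) * (x * (m * z * m⁻¹) * x⁻¹) := by group
        _ = m * z * m⁻¹ * ((m * z * m⁻¹) * (x * (m * z * m⁻¹) * x⁻¹)) * (x * (m * z * m⁻¹) * x⁻¹) := by rw [hc]
        _ = (m * z * m⁻¹ * (m * z * m⁻¹)) * (x * (m * z * m⁻¹) * x⁻¹ * (x * (m * z * m⁻¹) * x⁻¹)) := by group
        _ = 1 := by rw [hr, h4, one_mul]
    rw [h3, one_mul] at h1
    exact B.lz.z_ne h1

/-- the key step: `x, y, x⁻¹ y ∈ K \ C_Q(r)` ⟹ `x` does not commute with `σ(y)` -/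
theorem not_comm {x y : G} (hx : x ∈ B.KS) (hy : y ∈ B.KS) (hxn : x ∉ CQ Q z m) (hyn : y ∉ CQ Q z m)
    (hxy : x⁻¹ * y ∉ CQ Q z m) : x * sg z m y ≠ sg z m y * x := by
  intro hc
  have h1 := B.sg_mul x (x⁻¹ * y)
  rw [mul_inv_cancel_left] at h1
  have hK : x⁻¹ * y ∈ B.KS := mul_mem (inv_mem hx) hy
  have h2 := B.sg_z hx hxn
  have h3 := B.sg_z hy hyn
  have h4 := B.sg_z hK hxy
  -- `x` commutes with `x σ(x⁻¹y) x⁻¹ = σ(x)⁻¹σ(y)`
  have h5 : x * sg z m (x⁻¹ * y) * x⁻¹ = sg z m (x⁻¹ * y) := by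
    have h6 : x * sg z m (x⁻¹ * y) * x⁻¹ = (sg z m x)⁻¹ * sg z m y := by rw [h1, inv_mul_cancel_left]
    have h7 : Commute x ((sg z m x)⁻¹ * sg z m y) :=
      (Commute.inv_right (B.comm_self hx.1 : Commute x (sg z m x))).mul_right hc
    have h8 : Commute x (x * sg z m (x⁻¹ * y) * x⁻¹) := by rw [h6]; exact h7
    have h9 : x * (x * sg z m (x⁻¹ * y) * x⁻¹) = x * sg z m (x⁻¹ * y) * x⁻¹ * x := h8
    rw [inv_mul_cancel_right] at h9
    exact mul_left_cancel h9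
  rw [h5] at h1
  -- `σ(y) z = σ(x) z · σ(x⁻¹y) z · z`
  have hVx := B.sg_V hx.1
  have hVk := B.sg_V hK.1
  have h10 : (sg z m x * z)⁻¹ * (sg z m y * z) * (sg z m (x⁻¹ * y) * z)⁻¹ ∈ R Q m :=
    mul_mem (mul_mem (inv_mem h2) h3) (inv_mem h4)
  have e : (sg z m x * z)⁻¹ * (sg z m y * z) * (sg z m (x⁻¹ * y) * z)⁻¹ = z := by
    rw [h1]
    have hz1 : z * sg z m (x⁻¹ * y) = sg z m (x⁻¹ * y) * z := B.comm _ B.zV _ hVk
    calc (sg z m x * z)⁻¹ * (sg z m x * sg z m (x⁻¹ * y) * z) * (sg z m (x⁻¹ * y) * z)⁻¹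
        = z⁻¹ * sg z m (x⁻¹ * y) * z * (sg z m (x⁻¹ * y) * z)⁻¹ := by group
      _ = z⁻¹ := by group
      _ = z := B.lz.z_inv
  rw [e] at h10
  exact B.z_notMem_R h10

/-- `|K : C_Q(r)| ≤ 4` -/
theorem relIndex_le_four [Finite G] : (CQ Q z m).relIndex B.KS ≤ 4 := by
  classical
  by_cases hK : B.KS ≤ CQ Q z m
  · rw [Subgroup.relIndex_eq_one.2 hK]; norm_num
  obtain ⟨y, hyK, hyn⟩ : ∃ y ∈ B.KS, y ∉ CQ Q z m := by
    by_contra hcon
    push Not at hcon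
    exact hK hcon
  set K1 : Subgroup G := B.KS ⊓ Subgroup.centralizer {sg z m y} with hK1
  have h1 : CQ Q z m ≤ K1 := by
    intro x hx
    refine Subgroup.mem_inf.2 ⟨B.CQ_le_KS hx, ?_⟩
    rw [Subgroup.mem_centralizer_singleton_iff]
    -- `x ∈ C_Q(r)`: `[σ(y), x] = 1` since `σ(x y) = σ(y)^x` and `σ(yx) = σ(y)`; `xy = yx` or `yxz`
    rw [mem_CQ] at hx
    have hx1 := B.sg_eq_one_iff.2 hx.2
    have h2 := B.sg_mul x y
    rw [hx1, one_mul] at h2
    have h3 := B.sg_mul y x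
    rw [hx1, mul_one, mul_inv_cancel, mul_one] at h3
    have h4 : sg z m (x * y) = sg z m (y * x) := by
      rcases B.lz.comm x hx.1 y hyK.1 with h | h
      · rw [h]
      · rw [h, B.sg_mul (y * x) z, B.sg_eq_one_iff.2 B.r_comm_z.symm, mul_one, mul_inv_cancel, mul_one]
    rw [h2, h3, mul_inv_eq_iff_eq_mul] at h4
    exact h4
  have h2 : K1 ≤ B.KS := inf_le_left
  have h3 : (CQ Q z m).relIndex K1 ≤ 2 := by
    have key : ∀ w ∈ K1, w ∈ CQ Q z m ∨ w⁻¹ * y ∈ CQ Q z m := by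
      intro w hw
      by_contra hcon
      push Not at hcon
      have hw2 := Subgroup.mem_centralizer_singleton_iff.1 hw.2
      exact B.not_comm hw.1 hyK hcon.1 hyn hcon.2 hw2
    rw [Subgroup.relIndex, Subgroup.index]
    have hinj : ∀ c : K1 ⧸ (CQ Q z m).subgroupOf K1, c = ((1 : K1) : K1 ⧸ (CQ Q z m).subgroupOf K1) ∨
        ∀ d : K1 ⧸ (CQ Q z m).subgroupOf K1, d ≠ ((1 : K1) : K1 ⧸ (CQ Q z m).subgroupOf K1) → d = c := by
      intro c
      induction c using QuotientGroup.induction_on with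
      | _ w =>
      rcases key w w.2 with h | h
      · left
        refine (QuotientGroup.eq.2 ?_).symm
        rw [Subgroup.mem_subgroupOf]
        simpa using h
      · right
        intro d hd
        induction d using QuotientGroup.induction_on with
        | _ v =>
        rcases key v v.2 with h' | h'
        · exfalso
          apply hd
          refine (QuotientGroup.eq.2 ?_).symm
          rw [Subgroup.mem_subgroupOf]
          simpa using h'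
        · refine QuotientGroup.eq.2 ?_
          rw [Subgroup.mem_subgroupOf]
          have h5 := mul_mem h' (inv_mem h)
          have e : ((v : G))⁻¹ * y * ((w : G)⁻¹ * y)⁻¹ = ((v⁻¹ * w : K1) : G) := by
            simp only [Subgroup.coe_mul, Subgroup.coe_inv]; group
          rwa [e] at h5
    by_contra hcon
    push Not at hcon
    have hfin : Finite (K1 ⧸ (CQ Q z m).subgroupOf K1) := inferInstance
    have : Fintype (K1 ⧸ (CQ Q z m).subgroupOf K1) := Fintype.ofFinite _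
    rw [Nat.card_eq_fintype_card] at hcon
    obtain ⟨u, v, w, huv, huw, hvw⟩ := Fintype.two_lt_card_iff.1 hcon
    set o : K1 ⧸ (CQ Q z m).subgroupOf K1 := ((1 : K1) : K1 ⧸ (CQ Q z m).subgroupOf K1) with ho
    have hne : ∀ c d, c ≠ o → d ≠ o → c = d := by
      intro c d hc hd
      rcases hinj d with h | h
      · exact absurd h hd
      · exact h c hc
    by_cases hu : u = o
    · have hv : v ≠ o := fun h => huv (hu.trans h.symm)
      have hw : w ≠ o := fun h => huw (hu.trans h.symm)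
      exact hvw (hne _ _ hv hw)
    · by_cases hv : v = o
      · have hw : w ≠ o := fun h => hvw (hv.trans h.symm)
        exact huw (hne _ _ hu hw)
      · exact huv (hne _ _ hu hv)
  have h4 : K1.relIndex B.KS ≤ 2 := by
    rw [hK1, Subgroup.inf_relIndex_left, Subgroup.relIndex, Subgroup.index]
    set s := sg z m y with hs
    have hsQ : s ∈ Q := B.sg_Q hyK.1
    have key : ∀ u v : B.KS, (u : G) * s ≠ s * u → (v : G) * s ≠ s * v →
        ((u⁻¹ * v : B.KS) : G) * s = s * ((u⁻¹ * v : B.KS) : G) := by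
      intro u v hu hv
      have h5 : (u : G) * s * (u : G)⁻¹ = s * z := by
        rcases B.conj_cases u.2.1 hsQ with h | h
        · exact absurd h.1 hu
        · exact h.2
      have h6 : (v : G) * s * (v : G)⁻¹ = s * z := by
        rcases B.conj_cases v.2.1 hsQ with h | h
        · exact absurd h.1 hv
        · exact h.2
      simp only [Subgroup.coe_mul, Subgroup.coe_inv]
      have h7 : (u : G)⁻¹ * (s * z) * u = s := by rw [← h5]; group
      calc (u : G)⁻¹ * v * s = (u : G)⁻¹ * (v * s * (v : G)⁻¹) * v := by group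
        _ = (u : G)⁻¹ * (s * z) * u * ((u : G)⁻¹ * v) := by rw [h6]; group
        _ = s * ((u : G)⁻¹ * v) := by rw [h7]
    by_contra hcon
    push Not at hcon
    have : Fintype (B.KS ⧸ (Subgroup.centralizer {s}).subgroupOf B.KS) := Fintype.ofFinite _
    rw [Nat.card_eq_fintype_card] at hcon
    obtain ⟨u, v, w, huv, huw, hvw⟩ := Fintype.two_lt_card_iff.1 hcon
    induction u using QuotientGroup.induction_on with
    | _ u =>
    induction v using QuotientGroup.induction_on with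
    | _ v =>
    induction w using QuotientGroup.induction_on with
    | _ w =>
    have hne : ∀ a b : B.KS, (a : B.KS ⧸ (Subgroup.centralizer {s}).subgroupOf B.KS) ≠ b →
        ¬ (((a⁻¹ * b : B.KS) : G) * s = s * ((a⁻¹ * b : B.KS) : G)) := by
      intro a b hab h
      apply hab
      refine QuotientGroup.eq.2 ?_
      rw [Subgroup.mem_subgroupOf, Subgroup.mem_centralizer_singleton_iff]
      exact h
    have h12 := hne _ _ huv
    have h13 := hne _ _ huw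
    have h23 := hne _ _ hvw
    -- `v⁻¹w = (u⁻¹v)⁻¹(u⁻¹w)`
    have h8 := key (u⁻¹ * v) (u⁻¹ * w) h12 h13
    apply h23
    have e : ((u⁻¹ * v)⁻¹ * (u⁻¹ * w) : B.KS) = v⁻¹ * w := by group
    rwa [e] at h8
  calc (CQ Q z m).relIndex B.KS = (CQ Q z m).relIndex K1 * K1.relIndex B.KS :=
        (Subgroup.relIndex_mul_relIndex _ _ _ h1 h2).symm
    _ ≤ 2 * 2 := Nat.mul_le_mul h3 h4
    _ = 4 := rfl

/-- `|Q : K| ≤ |V : W'|` -/
theorem relIndex_KS_le [Finite G] : B.KS.relIndex Q ≤ B.W'.relIndex V := by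
  classical
  rw [Subgroup.relIndex, Subgroup.relIndex, Subgroup.index, Subgroup.index]
  let f : Q ⧸ B.KS.subgroupOf Q → V ⧸ B.W'.subgroupOf V := fun c =>
    ((⟨sg z m (c.out : Q), B.sg_V c.out.2⟩ : V) : V ⧸ B.W'.subgroupOf V)
  refine Nat.card_le_card_of_injective f ?_
  intro c d h
  have h1 := QuotientGroup.eq.1 h
  rw [Subgroup.mem_subgroupOf] at h1
  have h2 : (sg z m (c.out : Q))⁻¹ * sg z m (d.out : Q) ∈ B.W' := h1
  rw [B.sg_inv_mul_mem c.out.2 d.out.2] at h2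
  rw [← QuotientGroup.out_eq' c, ← QuotientGroup.out_eq' d, QuotientGroup.eq, Subgroup.mem_subgroupOf]
  exact ⟨(c.out⁻¹ * d.out : Q).2, h2⟩

/-- **The block bound**: `|Q : C_Q(r)| ≤ 2 |V : V ∩ Q_r|`. -/
theorem bound [Finite G] : (CQ Q z m).relIndex Q ≤ 2 * (R Q m).relIndex V := by
  have h1 : (CQ Q z m).relIndex Q = (CQ Q z m).relIndex B.KS * B.KS.relIndex Q :=
    (Subgroup.relIndex_mul_relIndex _ _ _ B.CQ_le_KS (fun x hx => hx.1)).symm
  have h2 : (R Q m ⊓ V) ≤ B.W' := fun x hx => ⟨hx.2, Or.inl hx.1⟩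
  have h3 : B.W' ≤ V := fun x hx => hx.1
  have h4 : (R Q m).relIndex V = (R Q m ⊓ V).relIndex B.W' * B.W'.relIndex V := by
    rw [← Subgroup.inf_relIndex_right, Subgroup.relIndex_mul_relIndex _ _ _ h2 h3]
  have h5 : 2 ≤ (R Q m ⊓ V).relIndex B.W' := by
    have h6 : (R Q m ⊓ V).relIndex B.W' ≠ 0 := by
      rw [Subgroup.relIndex, Subgroup.index]; exact Nat.card_pos.ne'
    have h7 : (R Q m ⊓ V).relIndex B.W' ≠ 1 := by
      intro h
      rw [Subgroup.relIndex_eq_one] at h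
      exact B.z_notMem_R (h B.z_mem_W').1
    omega
  rw [h1, h4]
  calc (CQ Q z m).relIndex B.KS * B.KS.relIndex Q ≤ 4 * B.W'.relIndex V :=
        Nat.mul_le_mul B.relIndex_le_four B.relIndex_KS_le
    _ = 2 * (2 * B.W'.relIndex V) := by ring
    _ ≤ 2 * ((R Q m ⊓ V).relIndex B.W' * B.W'.relIndex V) :=
        Nat.mul_le_mul_left _ (Nat.mul_le_mul_right _ h5)

end Blk

end Cfsg.Agent.Omega.EH3Close
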