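import Cfsg.Agent.Omega.EH3.RowLie
import Cfsg.Agent.Omega.EH3.Other
import Cfsg.Agent.Omega.EH3Close.Closing

/-!
# The closing theorem in the form consumed by `RowLie.rowLie` (helper805)
-/

set_option autoImplicit false

namespace Cfsg.Agent.Omega.EH3Close

universe u

theorem closeLoc : Cfsg.Agent.Omega.EH3.RowLie.CloseLoc.{u} := by
  intro G _ _ Q A z a w S l M q i A' h L T n X D P hP M' hM
  exact Closing.loc_le S.ctx.char2 S.cfg S.hall D P hP hM

end Cfsg.Agent.Omega.EH3Close
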