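import Cfsg.Agent.LargeExtra.CC.Dt

/-!
# The order of `C_{Qs}(r)` when `|[Vs, r]| = 4` (helper616)
-/

set_option autoImplicit false

namespace Cfsg.Agent.Omega.EH3Close.CountB

open Cfsg.Agent.Co2Type.Quad Cfsg.Agent.LargeExtra.Base Cfsg.Agent.LargeExtra.Local
open Cfsg.Agent.LargeExtra.CC

variable {G : Type*} [Group G] {Qr Qs : Subgroup G} {r s : G} {P : G → Prop}

/-- `2 |C_{Qr}(s) / ⟨r⟩| ≤ |C_{Qr}(s)|` -/
theorem card_Xt [Finite G] (T : Two Qr Qs r s P) :
    2 * Nat.card T.Xt ≤ Nat.card (Qr ⊓ Subgroup.centralizer ({s} : Set G) : Subgroup G) := by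
  classical
  have hr : ∀ x : G, x ∈ Qr → x * s = s * x → x * r ∈ Qr ∧ (x * r) * s = s * (x * r) := by
    intro x hx hc
    refine ⟨Qr.mul_mem hx T.lr.z_mem, ?_⟩
    calc x * r * s = x * (r * s) := by group
      _ = x * (s * r) := by rw [T.comm]
      _ = (x * s) * r := by group
      _ = s * (x * r) := by rw [hc]; group
  -- a section of `pr`
  have hsec : ∀ v : T.Xt, ∃ x : Qr, T.lr.pr x = v ∧ (x : G) * s = s * x := by
    rintro ⟨v, hv⟩
    obtain ⟨x, rfl⟩ := T.lr.pr_surjective v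
    exact ⟨x, rfl, (T.pr_mem_Xt x).1 hv⟩
  choose f hf hc using hsec
  let g : T.Xt × Bool → (Qr ⊓ Subgroup.centralizer ({s} : Set G) : Subgroup G) := fun p =>
    if p.2 then ⟨(f p.1 : G) * r, (hr _ (f p.1).2 (hc p.1)).1,
        Subgroup.mem_centralizer_singleton_iff.2 (hr _ (f p.1).2 (hc p.1)).2⟩
      else ⟨f p.1, (f p.1).2, Subgroup.mem_centralizer_singleton_iff.2 (hc p.1)⟩
  have hg : ∀ p, ((g p : G) = f p.1 ∧ p.2 = false) ∨ ((g p : G) = f p.1 * r ∧ p.2 = true) := by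
    rintro ⟨v, b⟩
    cases b
    · left; exact ⟨rfl, rfl⟩
    · right; exact ⟨rfl, rfl⟩
  have hpr : ∀ v w : T.Xt, ((f v : G) = f w ∨ (f v : G) = f w * r) → v = w := by
    intro v w h
    have h1 := T.lr.pr_eq_pr.2 h
    rw [hf, hf] at h1
    exact Subtype.ext h1
  have hr1 : r ≠ 1 := T.lr.z_ne
  have hinj : Function.Injective g := by
    intro p p' he
    have he' : (g p : G) = g p' := congrArg Subtype.val he
    rcases hg p with ⟨h1, h2⟩ | ⟨h1, h2⟩ <;> rcases hg p' with ⟨h3, h4⟩ | ⟨h3, h4⟩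
    · rw [h1, h3] at he'
      exact Prod.ext (hpr _ _ (Or.inl he')) (h2.trans h4.symm)
    · exfalso
      rw [h1, h3] at he'
      have h5 := hpr _ _ (Or.inr he')
      rw [h5] at he'
      exact hr1 (left_eq_mul.1 he')
    · exfalso
      rw [h1, h3] at he'
      have h5 := hpr _ _ (Or.inr he'.symm)
      rw [h5] at he'
      exact hr1 (mul_eq_left.1 he')
    · rw [h1, h3] at he'
      exact Prod.ext (hpr _ _ (Or.inl (mul_right_cancel he'))) (h2.trans h4.symm)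
  have h1 := Nat.card_le_card_of_injective g hinj
  rwa [Nat.card_prod, Nat.card_eq_fintype_card (α := Bool), Fintype.card_bool, mul_comm] at h1

theorem card_A [Finite G] (T : Two Qr Qs r s P) (h4 : Nat.card T.W = 4) {k : ℕ} (hc : Nat.card Qr = 2 ^ (k + 5)) :
    2 ^ (k + 2) ≤ Nat.card (Qr ⊓ Subgroup.centralizer ({s} : Set G) : Subgroup G) := by
  have h1 := T.lr.card_eq
  have h2 := T.card_W_F
  have h3 : Nat.card T.F ≤ 2 * Nat.card T.Xt := card_le_two (fun v hv w hw => T.add_mem_Xt hv hw)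
  have h5 := card_Xt T
  rw [h4] at h2
  rw [hc, ← h2, pow_add] at h1
  rw [pow_add]
  omega

theorem card_B [Finite G] (T : Two Qr Qs r s P) (h4 : Nat.card T.symm.W = 4) {k : ℕ}
    (hc : Nat.card Qs = 2 ^ (k + 5)) :
    2 ^ (k + 2) ≤ Nat.card (Qs ⊓ Subgroup.centralizer ({r} : Set G) : Subgroup G) :=
  card_A T.symm h4 hc

end Cfsg.Agent.Omega.EH3Close.CountB
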