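import Cfsg.Agent.Nodes.NormalForm
import Cfsg.Agent.ParSys.Fam.Rgd
import Cfsg.Agent.ParSys.RootCount

/-!
# The orders of `U` and `V_J` for a root group datum

`card_word` : `|Sup X (Inv w)| = ∏ |X_i|` along a reduced word of `w`; `card_inv` : `= ∏ v ∈ invs, wt v`;
`card_U` : `|U| = ∏ v ∈ Rt, wt v`; `card_VJ` : `|V_J| = ∏ v ∈ Rt, v k > 0 for some k ∉ J, wt v`, for a finite set `Rt` of
positive roots (`PosRoots A Rt`) and an invariant weight `wt` with `wt α_i = |X_i|`.
-/

set_option autoImplicit false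
set_option linter.unusedSectionVars false

namespace Cfsg.Agent.Omega.EH3Close.CountU

open CoxeterSystem Cfsg.Agent.ChevalleyStructure.CoxeterGeom Cfsg.Agent.Tits.Roots Cfsg.Agent.Tits.Core
  Cfsg.Agent.Tits.RootComb Cfsg.Agent.Nodes.Comb Cfsg.Agent.Nodes.Reps Cfsg.Agent.Nodes.BNOf
  Cfsg.Agent.Nodes.StabComb Cfsg.Agent.Nodes.Bruhat Cfsg.Agent.Nodes.LeviDec Cfsg.Agent.Nodes.NormalForm
  Cfsg.Agent.ParSys Cfsg.Agent.ParSys.RootCount Cfsg.Agent.Tits.Exchange

/-- `|K N| = |K| |N|` -/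
theorem card_sup_mul {Y : Type*} [Group Y] {K N : Subgroup Y} (hn : K ≤ Subgroup.normalizer (N : Set Y))
    (hd : ∀ x ∈ K, x ∈ N → x = 1) : Nat.card ↥(K ⊔ N) = Nat.card K * Nat.card N := by
  rw [← Nat.card_prod]
  symm
  let f : K × N → ↥(K ⊔ N) := fun x => ⟨x.1 * x.2, mul_mem ((le_sup_left : K ≤ K ⊔ N) x.1.2) ((le_sup_right : N ≤ K ⊔ N) x.2.2)⟩
  refine Nat.card_congr (Equiv.ofBijective f ⟨?_, ?_⟩)
  · rintro ⟨⟨k, hk⟩, ⟨m, hm⟩⟩ ⟨⟨k', hk'⟩, ⟨m', hm'⟩⟩ e
    have e1 : k * m = k' * m' := congrArg Subtype.val e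
    have e2 : k'⁻¹ * k = m' * m⁻¹ := by
      rw [inv_mul_eq_iff_eq_mul, ← mul_assoc, ← e1, mul_inv_cancel_right]
    have h1 := hd _ (mul_mem (inv_mem hk') hk) (by rw [e2]; exact mul_mem hm' (inv_mem hm))
    have h2 : k' = k := inv_mul_eq_one.1 h1
    have h3 : m' = m := by
      rw [h1] at e2
      exact mul_inv_eq_one.1 e2.symm
    subst h2
    subst h3
    rfl
  · rintro ⟨y, hy⟩
    have h1 : y ∈ ((K ⊔ N : Subgroup Y) : Set Y) := hy
    rw [Subgroup.coe_mul_of_left_le_normalizer_right _ _ hn, Set.mem_mul] at h1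
    obtain ⟨k, hk, m, hm, e⟩ := h1
    exact ⟨(⟨k, hk⟩, ⟨m, hm⟩), Subtype.ext e⟩

variable {I W Y : Type*} [Fintype I] [DecidableEq I] [Group W] [Group Y] {M : CoxeterMatrix I}
  {cs : CoxeterSystem M W} {A : I → I → ℤ} {h : IsCartan M A} {p : ℕ} {T : Subgroup Y} {n : I → Y}
  {X : (I → ℤ) → Subgroup Y}

section

variable (R : RGD cs h p T n X) [Finite W]

include R

/-- one more simple root -/
theorem card_step {i : I} {w : W} (hl : cs.length w < cs.length (cs.simple i * w)) :
    Nat.card (RGD.Sup X (RGD.Inv cs h (cs.simple i * w))) = Nat.card (X (sr i)) * Nat.card (RGD.Sup X (RGD.Inv cs h w)) := by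
  have hneg : rep cs h (cs.simple i * w)⁻¹ (sr i) ≤ 0 := by
    refine nonpos_of_lt cs h (cs.simple i * w)⁻¹ i ?_
    rw [cs.length_inv, ← cs.length_inv ((cs.simple i * w)⁻¹ * cs.simple i), mul_inv_rev, inv_inv, cs.inv_simple,
      cs.simple_mul_simple_cancel_left]
    exact hl
  have hmem : sr i ∈ RGD.Inv cs h (cs.simple i * w) := (RGD.mem_inv_iff hneg).2 (Or.inl rfl)
  have hsw : cs.simple i * (cs.simple i * w) = w := cs.simple_mul_simple_cancel_left i
  have hsup : RGD.Sup X (RGD.Inv cs h (cs.simple i * w)) =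
      X (sr i) ⊔ RGD.Sup X (RGD.Inv cs h (cs.simple i * w) \ {sr i}) := by
    apply le_antisymm
    · refine RGD.Sup_le fun z hz => ?_
      by_cases hz0 : z = sr i
      · subst hz0; exact le_sup_left
      · exact le_trans (RGD.le_Sup (S := RGD.Inv cs h (cs.simple i * w) \ {sr i}) ⟨hz, hz0⟩) le_sup_right
    · exact sup_le (RGD.le_Sup hmem) (RGD.Sup_mono Set.sdiff_subset)
  have heq : RGD.Sup X (RGD.Inv cs h (cs.simple i * w) \ {sr i}) = cj (n i) (RGD.Sup X (RGD.Inv cs h w)) := by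
    apply le_antisymm
    · refine RGD.Sup_le ?_
      rintro z ⟨hz, hz0⟩
      have h2 := ((RGD.mem_inv_iff hneg).1 hz).resolve_left hz0
      rw [hsw] at h2
      have h3 := cj_mono (n i) (RGD.le_Sup (X := X) h2)
      rw [R.conj i _ h2.1, ← rep_mul_apply, cs.simple_mul_simple_self, map_one, Module.End.one_apply] at h3
      exact h3
    · rw [RGD.cj_Sup]
      refine iSup_le ?_
      rintro ⟨y, hy⟩
      rw [R.conj i y hy.1]
      refine RGD.le_Sup ⟨(RGD.mem_inv_iff hneg).2 (Or.inr ?_), ?_⟩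
      · rw [hsw, ← rep_mul_apply, cs.simple_mul_simple_self, map_one, Module.End.one_apply]
        exact hy
      · intro he
        have he' : rep cs h (cs.simple i) y = sr i := he
        have h1 := congrArg (rep cs h (cs.simple i)) he'
        rw [← rep_mul_apply, cs.simple_mul_simple_self, map_one, Module.End.one_apply, rep_simple_sr] at h1
        have h2 := hy.2.1
        rw [h1] at h2
        exact (isRoot_sr cs h i).neg.not_pos_neg h2 (neg_nonpos.2 (sr_nonneg i))
  have hnorm : X (sr i) ≤ Subgroup.normalizer (RGD.Sup X (RGD.Inv cs h (cs.simple i * w) \ {sr i}) : Set Y) := by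
    refine R.X_le_normalizer_diff (fun x hx => ⟨hx.1, hx.2.1⟩) (isRoot_sr cs h i) (sr_nonneg i) ?_
    intro y hy hyi z hz
    refine ⟨⟨hz.1, RGD.nonneg_of_btwn (sr_nonneg i) hy.2.1 hz,
      RGD.nonpos_of_btwn hneg hy.2.2 (hz.act (cs.simple i * w)⁻¹)⟩, ?_⟩
    exact RGD.ne_sr_of_btwn (sr_nonneg i) hy.1 hy.2.1 hyi hz
  rw [hsup, card_sup_mul hnorm, heq]
  · congr 1
    exact Subgroup.card_map_of_injective (MulAut.conj (n i)).injective
  · intro x hx hx2
    refine ParSys.Fam.X_inf_V R i x hx (RGD.Sup_mono (S := RGD.Inv cs h (cs.simple i * w) \ {sr i})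
      (S' := RGD.PosNe cs h i) ?_ hx2)
    rintro z ⟨hz, hz0⟩
    exact ⟨hz.1, hz.2.1, hz0⟩

/-- **the order along a reduced word** -/
theorem card_word {F : List I} (hF : cs.IsReduced F) :
    Nat.card (RGD.Sup X (RGD.Inv cs h (cs.wordProd F))) = (F.map fun i => Nat.card (X (sr i))).prod := by
  induction F with
  | nil =>
    rw [cs.wordProd_nil, RGD.inv_one_eq, List.map_nil, List.prod_nil]
    have : RGD.Sup X (∅ : Set (I → ℤ)) = ⊥ := by
      rw [eq_bot_iff]
      exact RGD.Sup_le (fun z hz => absurd hz (by simp))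
    rw [this, Subgroup.card_bot]
  | cons i F ih =>
    have hF' : cs.IsReduced F := by
      have := hF.drop 1
      simpa using this
    have hl : cs.length (cs.wordProd F) < cs.length (cs.simple i * cs.wordProd F) := by
      rw [← cs.wordProd_cons, hF.eq, hF'.eq]; simp
    rw [cs.wordProd_cons, card_step R hl, ih hF', List.map_cons, List.prod_cons]

variable {Rt : Finset (I → ℤ)} (hR : PosRoots A Rt) {wt : (I → ℤ) → ℕ}
  (hwt : ∀ i, ∀ v ∈ Rt, v ≠ Pi.single i 1 → wt (refl A i v) = wt v)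
  (hq : ∀ i, Nat.card (X (sr i)) = wt (Pi.single i 1))

include hR hwt hq

theorem card_inv (w : W) : Nat.card (RGD.Sup X (RGD.Inv cs h w)) = ∏ v ∈ PosRoots.invs h cs Rt w⁻¹, wt v := by
  obtain ⟨F, hF, rfl⟩ := cs.exists_isReduced w
  have hF' : cs.IsReduced F.reverse := (cs.isReduced_reverse_iff F).2 hF
  have h1 := hR.prod_word h cs wt hwt F.reverse hF'
  rw [cs.wordProd_reverse] at h1
  rw [card_word R hF, ← h1, List.map_reverse, List.prod_reverse]
  congr 1
  exact List.map_congr_left fun i _ => hq i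

/-- **`|U|`** -/
theorem card_U : Nat.card (RGD.Sup X (RGD.Pos cs h)) = ∏ v ∈ Rt, wt v := by
  have h1 : RGD.Inv cs h (w0 cs)⁻¹ = RGD.Pos cs h := by
    ext x
    constructor
    · intro hx; exact ⟨hx.1, hx.2.1⟩
    · intro hx
      refine ⟨hx.1, hx.2, ?_⟩
      rw [inv_inv]
      exact rep_w0_nonpos hx.1 hx.2
  rw [← h1, card_inv R hR hwt hq, inv_inv, hR.invs_of_max h cs]
  intro i
  have := Tits.Exchange.length_w0_mul cs (cs.simple i)
  rw [cs.length_simple] at this
  omega

/-- **`|V_J|`** -/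
theorem card_VJ (J : Set I) [DecidablePred fun v : I → ℤ => ∃ k, k ∉ J ∧ 0 < v k] : Nat.card (VJ cs h X J) = ∏ v ∈ Rt.filter (fun v => ∃ k, k ∉ J ∧ 0 < v k), wt v := by
  have hL : IsLongest cs J (wJ cs J) := isLongest_wJ cs J
  have hmax : PosRoots.invs h cs Rt (w0 cs) = Rt := by
    refine hR.invs_of_max h cs fun i => ?_
    have := Tits.Exchange.length_w0_mul cs (cs.simple i)
    rw [cs.length_simple] at this
    omega
  have h0 : ∀ v ∈ Rt, rep cs h (w0 cs) v ∉ Rt := fun v hv => by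
    have h1 : v ∈ PosRoots.invs h cs Rt (w0 cs) := by rw [hmax]; exact hv
    exact ((PosRoots.mem_invs h cs).1 h1).2
  have h1 : RGD.Inv cs h (w0 cs * wJ cs J)⁻¹ = NotJ cs h J := by
    ext x
    constructor
    · rintro ⟨hx, hx0, h1⟩
      rw [inv_inv, rep_mul_apply] at h1
      rcases mem_PosJ_or_NotJ J hx hx0 with h2 | h2
      · exfalso
        have h3 := rep_longest_nonpos hL h2
        have h4 := rep_w0_nonneg (hx.act _) h3
        exact ((hx.act _).act _).not_pos_neg h4 h1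
      · exact h2
    · intro hx
      refine ⟨hx.1, hx.2.1, ?_⟩
      rw [inv_inv, rep_mul_apply]
      have h2 := NotJ.act hL.1 hx
      exact rep_w0_nonpos h2.1 h2.2.1
  have h2 : PosRoots.invs h cs Rt (w0 cs * wJ cs J) = Rt.filter (fun v => ∃ k, k ∉ J ∧ 0 < v k) := by
    ext v
    rw [PosRoots.mem_invs, Finset.mem_filter]
    constructor
    · rintro ⟨hv, h3⟩
      refine ⟨hv, ?_⟩
      by_contra hcon
      push Not at hcon
      apply h3
      have hz : ∀ k, k ∉ J → v k = 0 := fun k hk => le_antisymm (hcon k hk) (hR.pos v hv k)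
      have h4 : rep cs h (wJ cs J) v ≤ 0 := by
        have h5 : ∀ j ∈ J, rep cs h (wJ cs J) (sr j) ≤ 0 := by
          intro j hj
          refine nonpos_of_lt cs h (wJ cs J) j ?_
          have h2 := (hL.2 _ (simple_mem_WJ cs hj)).1
          rw [cs.length_simple] at h2
          omega
        have h6 : v = ∑ k, v k • sr k := by
          funext k
          rw [Finset.sum_apply, Finset.sum_eq_single k (fun b _ hb => by
            rw [Pi.smul_apply, sr_ne hb.symm, smul_zero]) (by simp), Pi.smul_apply, sr_self, smul_eq_mul, mul_one]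
        rw [h6, map_sum]
        refine Finset.sum_nonpos fun k _ => ?_
        rw [map_smul]
        by_cases hk : k ∈ J
        · exact smul_nonpos_of_nonneg_of_nonpos (hR.pos v hv k) (h5 k hk)
        · rw [hz k hk, zero_smul]
      have h5 : -(rep cs h (wJ cs J) v) ∈ Rt := by
        rcases hR.rep_mem h cs (wJ cs J) v hv with h6 | h6
        · exfalso
          have h7 : rep cs h (wJ cs J) v = 0 := le_antisymm h4 (hR.pos _ h6)
          exact hR.ne (h7 ▸ h6)
        · exact h6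
      have h6 := (hR.rep_mem h cs (w0 cs) _ h5).resolve_left (h0 _ h5)
      rw [map_neg, neg_neg, ← rep_mul_apply] at h6
      exact h6
    · rintro ⟨hv, k, hk, hk0⟩
      refine ⟨hv, ?_⟩
      rw [rep_mul_apply]
      apply h0
      have h3 : rep cs h (wJ cs J) v k = v k := rep_apply_of_mem cs h hL.1 v hk
      rcases hR.rep_mem h cs (wJ cs J) v hv with h6 | h6
      · exact h6
      · exfalso
        have h7 : (0 : ℤ) ≤ -(rep cs h (wJ cs J) v k) := hR.pos _ h6 k
        rw [h3] at h7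
        omega
  unfold VJ
  rw [← h1, card_inv R hR hwt hq, inv_inv, h2]

/-- **`|V_J|`, `J = I ∖ {i}`** -/
theorem card_VJ_single (i : I) : Nat.card (VJ cs h X {i}ᶜ) = ∏ v ∈ Rt.filter (fun v => 0 < v i), wt v := by
  have e : ∀ v : I → ℤ, (∃ k, k ∉ ({i}ᶜ : Set I) ∧ 0 < v k) ↔ 0 < v i := by
    intro v
    constructor
    · rintro ⟨k, hk, h0⟩
      rw [Set.mem_compl_iff, not_not, Set.mem_singleton_iff] at hk
      rw [← hk]; exact h0
    · intro h0
      exact ⟨i, by simp, h0⟩
  letI : DecidablePred (fun v : I → ℤ => ∃ k, k ∉ ({i}ᶜ : Set I) ∧ 0 < v k) := fun v => decidable_of_iff _ (e v).symm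
  rw [card_VJ R hR hwt hq ({i}ᶜ : Set I)]
  refine Finset.prod_congr (Finset.filter_congr fun v _ => e v) fun _ _ => rfl

end

end Cfsg.Agent.Omega.EH3Close.CountU
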