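import Cfsg.Agent.Nodes.LeviDec

/-!
# Root group data over the transposed Cartan matrix (piece D1 of helper805's #17442)

`A' i j = A j i`, `D i > 0`, `D i * A i j = D j * A j i`. The diagonal map `Dl x = (D i x_i)` intertwines the two
geometric representations, `Dl (w α_i) = D i • (w α_i)'`. So `x = w α_i ↔ y = (w α_i)'` (`Dual x y`) is a bijection of
the roots, compatible with signs, supports and the rational cones `Btwn`.

* `dX X y` : the root groups re-indexed; `dX_rep : dX X (w α_i)' = X (w α_i)`, `dX_sr`, `dX_neg_sr`;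
* `rgd` : `RGD cs h p T n X → RGD cs h' p T n (dX X)`;
* `Sup_pos`, `Sup_posNe`, `B_eq`, `UJ_eq`, `VJ_eq`, `GG_eq`, `LJ_eq`, `PJ_eq` : the standard subgroups do not change.
-/

set_option autoImplicit false
set_option linter.unusedSectionVars false

namespace Cfsg.Agent.Omega.EH3Close.DualRgd

open CoxeterSystem Cfsg.Agent.ChevalleyStructure.CoxeterGeom Cfsg.Agent.Tits.Roots Cfsg.Agent.Tits.Core
  Cfsg.Agent.Tits.RootComb Cfsg.Agent.Nodes.Comb Cfsg.Agent.Nodes.Reps Cfsg.Agent.Nodes.BNOf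
  Cfsg.Agent.Nodes.StabComb Cfsg.Agent.Nodes.Bruhat Cfsg.Agent.Nodes.LeviDec
open scoped commutatorElement

variable {I W Y : Type*} [Fintype I] [DecidableEq I] [Group W] [Group Y] {M : CoxeterMatrix I}
  (cs : CoxeterSystem M W) {A A' : I → I → ℤ} (h : IsCartan M A) (h' : IsCartan M A')

/-- the scaling data -/
structure Sc (A A' : I → I → ℤ) (D : I → ℤ) : Prop where
  pos : ∀ i, 0 < D i
  sym : ∀ i j, D i * A i j = D j * A j i
  tr : ∀ i j, A' i j = A j i

omit [Fintype I] [DecidableEq I] in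
/-- the transposed Cartan matrix is a Cartan matrix of the same type -/
theorem Sc.isCartan {D : I → ℤ} (S : Sc A A' D) (h : IsCartan M A) : IsCartan M A' where
  diag i := by rw [S.tr]; exact h.diag i
  rel i j hij := by
    have h1 := h.rel j i hij.symm
    rw [M.symmetric j i] at h1
    rw [S.tr, S.tr]
    exact h1

/-- the diagonal map -/
def Dl (D : I → ℤ) (x : I → ℤ) : I → ℤ := fun i => D i * x i

section lin

variable {D : I → ℤ}

omit [Fintype I] [DecidableEq I] in
theorem Dl_smul (c : ℤ) (x : I → ℤ) : Dl D (c • x) = c • Dl D x := by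
  funext i
  simp only [Dl, Pi.smul_apply, smul_eq_mul]
  ring

omit [Fintype I] [DecidableEq I] in
theorem Dl_add (x y : I → ℤ) : Dl D (x + y) = Dl D x + Dl D y := by
  funext i
  simp only [Dl, Pi.add_apply]
  ring

omit [Fintype I] in
theorem Dl_sr (i : I) : Dl D (sr i) = D i • sr i := by
  funext k
  simp only [Dl, Pi.smul_apply, smul_eq_mul]
  by_cases hk : k = i
  · subst hk; rfl
  · rw [sr_ne hk]; ring

omit [Fintype I] [DecidableEq I] in
theorem Dl_inj (hD : ∀ i, 0 < D i) {x y : I → ℤ} (e : Dl D x = Dl D y) : x = y := by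
  funext i
  have h1 := congrFun e i
  exact mul_left_cancel₀ (hD i).ne' h1

end lin

variable {D : I → ℤ} (S : Sc A A' D)

include S

theorem Dl_refl (i : I) (x : I → ℤ) :
    Dl D (rep cs h (cs.simple i) x) = rep cs h' (cs.simple i) (Dl D x) := by
  rw [rep_simple_eq, rep_simple_eq]
  have h1 : D i * pairing A i x = pairing A' i (Dl D x) := by
    unfold pairing Dl
    rw [Finset.mul_sum]
    refine Finset.sum_congr rfl fun k _ => ?_
    rw [S.tr, ← mul_assoc, S.sym i k]
    ring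
  funext k
  simp only [Dl, Pi.sub_apply, Pi.smul_apply, smul_eq_mul] at h1 ⊢
  rw [← h1]
  by_cases hk : k = i
  · subst hk; rw [sr_self]; ring
  · rw [sr_ne hk]; ring

theorem Dl_rep (w : W) (x : I → ℤ) : Dl D (rep cs h w x) = rep cs h' w (Dl D x) := by
  obtain ⟨ω, rfl⟩ := cs.wordProd_surjective w
  induction ω generalizing x with
  | nil => rw [wordProd_nil, map_one, map_one, Module.End.one_apply, Module.End.one_apply]
  | cons i ω ih => rw [wordProd_cons, rep_mul_apply, Dl_refl cs h h' S, ih, ← rep_mul_apply]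

theorem Dl_rep_sr (w : W) (i : I) : Dl D (rep cs h w (sr i)) = D i • rep cs h' w (sr i) := by
  rw [Dl_rep cs h h' S, Dl_sr, map_smul]

omit S in
/-- proportional roots are equal -/
theorem eq_of_prop {x y : I → ℤ} (hx : IsRoot cs h x) (hy : IsRoot cs h y) {a b : ℤ} (ha : 0 < a) (hb : 0 < b)
    (e : a • x = b • y) : x = y := by
  obtain ⟨w, i, rfl⟩ := hx
  have h1 := congrArg (rep cs h w⁻¹) e
  rw [map_smul, map_smul, rep_inv_apply] at h1
  have hz := hy.act w⁻¹
  set z := rep cs h w⁻¹ y with hzd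
  have h2 : ∀ k, k ≠ i → z k = 0 := by
    intro k hk
    have h3 := congrFun h1 k
    rw [Pi.smul_apply, Pi.smul_apply, smul_eq_mul, smul_eq_mul, sr_ne hk, mul_zero] at h3
    rcases mul_eq_zero.1 h3.symm with h4 | h4
    · exact absurd h4 hb.ne'
    · exact h4
  have h3 : 0 ≤ z := by
    intro k
    by_cases hk : k = i
    · subst hk
      have h4 := congrFun h1 k
      rw [Pi.smul_apply, Pi.smul_apply, smul_eq_mul, smul_eq_mul, sr_self, mul_one] at h4
      rw [h4] at ha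
      exact (pos_of_mul_pos_right ha hb.le).le
    · rw [h2 k hk]; exact le_refl _
  have h4 := hz.eq_sr h3 i h2
  rw [← h4, hzd, rep_apply_inv]

/-- corresponding roots -/
def Dual (x y : I → ℤ) : Prop := ∃ w i, x = rep cs h w (sr i) ∧ y = rep cs h' w (sr i)

omit S

theorem Dual.mk (w : W) (i : I) : Dual cs h h' (rep cs h w (sr i)) (rep cs h' w (sr i)) := ⟨w, i, rfl, rfl⟩

variable {cs h h'}

theorem Dual.left {x y : I → ℤ} (d : Dual cs h h' x y) : IsRoot cs h x := by
  obtain ⟨w, i, rfl, -⟩ := d; exact ⟨w, i, rfl⟩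

theorem Dual.right {x y : I → ℤ} (d : Dual cs h h' x y) : IsRoot cs h' y := by
  obtain ⟨w, i, -, rfl⟩ := d; exact ⟨w, i, rfl⟩

theorem Dual.act {x y : I → ℤ} (d : Dual cs h h' x y) (w : W) : Dual cs h h' (rep cs h w x) (rep cs h' w y) := by
  obtain ⟨v, i, rfl, rfl⟩ := d
  exact ⟨w * v, i, by rw [rep_mul_apply], by rw [rep_mul_apply]⟩

theorem Dual.neg {x y : I → ℤ} (d : Dual cs h h' x y) : Dual cs h h' (-x) (-y) := by
  obtain ⟨v, i, rfl, rfl⟩ := d
  exact ⟨v * cs.simple i, i, by rw [rep_mul_apply, rep_simple_sr, map_neg],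
    by rw [rep_mul_apply, rep_simple_sr, map_neg]⟩

theorem dual_sr (i : I) : Dual cs h h' (sr i) (sr i) :=
  ⟨1, i, by rw [map_one, Module.End.one_apply], by rw [map_one, Module.End.one_apply]⟩

theorem exists_dual_left {x : I → ℤ} (hx : IsRoot cs h x) : ∃ y, Dual cs h h' x y := by
  obtain ⟨w, i, rfl⟩ := hx
  exact ⟨_, w, i, rfl, rfl⟩

theorem exists_dual_right {y : I → ℤ} (hy : IsRoot cs h' y) : ∃ x, Dual cs h h' x y := by
  obtain ⟨w, i, rfl⟩ := hy
  exact ⟨_, w, i, rfl, rfl⟩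

include S in
theorem Dual.scale {x y : I → ℤ} (d : Dual cs h h' x y) : ∃ c : ℤ, 0 < c ∧ Dl D x = c • y := by
  obtain ⟨w, i, rfl, rfl⟩ := d
  exact ⟨D i, S.pos i, Dl_rep_sr cs h h' S w i⟩

include S in
theorem Dual.unique_right {x y z : I → ℤ} (d : Dual cs h h' x y) (e : Dual cs h h' x z) : y = z := by
  obtain ⟨a, ha, h1⟩ := d.scale S
  obtain ⟨b, hb, h2⟩ := e.scale S
  exact eq_of_prop cs h' d.right e.right ha hb (h1.symm.trans h2)

include S in
theorem Dual.unique_left {x y z : I → ℤ} (d : Dual cs h h' x y) (e : Dual cs h h' z y) : x = z := by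
  obtain ⟨a, ha, h1⟩ := d.scale S
  obtain ⟨b, hb, h2⟩ := e.scale S
  refine eq_of_prop cs h d.left e.left hb ha (Dl_inj S.pos ?_)
  rw [Dl_smul, Dl_smul, h1, h2, smul_smul, smul_smul, mul_comm]

include S in
theorem Dual.apply_pos {x y : I → ℤ} (d : Dual cs h h' x y) (k : I) : 0 < x k ↔ 0 < y k := by
  obtain ⟨c, hc, h1⟩ := d.scale S
  have h2 : D k * x k = c * y k := congrFun h1 k
  have hD := S.pos k
  constructor
  · intro h3
    have h4 : 0 < c * y k := h2 ▸ mul_pos hD h3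
    exact pos_of_mul_pos_right h4 hc.le
  · intro h3
    have h4 : 0 < D k * x k := h2 ▸ mul_pos hc h3
    exact pos_of_mul_pos_right h4 hD.le

include S in
theorem Dual.apply_neg {x y : I → ℤ} (d : Dual cs h h' x y) (k : I) : x k < 0 ↔ y k < 0 := by
  have := d.neg.apply_pos S k
  rw [Pi.neg_apply, Pi.neg_apply, neg_pos, neg_pos] at this
  exact this

include S in
theorem Dual.nonneg {x y : I → ℤ} (d : Dual cs h h' x y) : 0 ≤ x ↔ 0 ≤ y := by
  constructor
  · intro h0 k
    exact not_lt.1 fun h1 => absurd (h0 k) (not_le.2 ((d.apply_neg S k).2 h1))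
  · intro h0 k
    exact not_lt.1 fun h1 => absurd (h0 k) (not_le.2 ((d.apply_neg S k).1 h1))

include S in
theorem Dual.apply_zero {x y : I → ℤ} (d : Dual cs h h' x y) (k : I) : x k = 0 ↔ y k = 0 := by
  have h1 := d.apply_pos S k
  have h2 := d.apply_neg S k
  constructor
  · intro h0
    rcases lt_trichotomy (y k) 0 with h3 | h3 | h3
    · exact absurd (h2.2 h3) (by rw [h0]; exact lt_irrefl _)
    · exact h3
    · exact absurd (h1.2 h3) (by rw [h0]; exact lt_irrefl _)
  · intro h0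
    rcases lt_trichotomy (x k) 0 with h3 | h3 | h3
    · exact absurd (h2.1 h3) (by rw [h0]; exact lt_irrefl _)
    · exact h3
    · exact absurd (h1.1 h3) (by rw [h0]; exact lt_irrefl _)

include S in
theorem Dual.eq_sr {x y : I → ℤ} (d : Dual cs h h' x y) (i : I) : x = sr i ↔ y = sr i := by
  constructor
  · rintro rfl; exact d.unique_right S (dual_sr i)
  · rintro rfl; exact d.unique_left S (dual_sr i)

include S in
theorem Dual.btwn {x y z x' y' z' : I → ℤ} (hx : Dual cs h h' x x') (hy : Dual cs h h' y y')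
    (hz : Dual cs h h' z z') (b : Btwn cs h x y z) : Btwn cs h' x' y' z' := by
  obtain ⟨-, m, a, b, hm, ha, hb, e⟩ := b
  obtain ⟨cx, hcx, ex⟩ := hx.scale S
  obtain ⟨cy, hcy, ey⟩ := hy.scale S
  obtain ⟨cz, hcz, ez⟩ := hz.scale S
  refine ⟨hz.right, m * cz, a * cx, b * cy, mul_pos hm hcz, mul_pos ha hcx, mul_pos hb hcy, ?_⟩
  have := congrArg (Dl D) e
  rw [Dl_smul, Dl_add, Dl_smul, Dl_smul, ex, ey, ez, smul_smul, smul_smul, smul_smul] at this
  exact this

/-! ### the data -/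

variable (cs h h')

/-- the root groups, indexed by the roots of the transposed Cartan matrix -/
def dX (X : (I → ℤ) → Subgroup Y) (y : I → ℤ) : Subgroup Y := ⨆ x : {x : I → ℤ // Dual cs h h' x y}, X x.1

variable {cs h h'} {X : (I → ℤ) → Subgroup Y}

include S in
theorem dX_eq {x y : I → ℤ} (d : Dual cs h h' x y) : dX cs h h' X y = X x := by
  unfold dX
  apply le_antisymm
  · refine iSup_le ?_
    rintro ⟨z, hz⟩
    have e : z = x := hz.unique_left S d
    subst e
    exact le_refl _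
  · exact le_iSup (fun x : {x : I → ℤ // Dual cs h h' x y} => X x.1) ⟨x, d⟩

include S in
theorem dX_rep (w : W) (i : I) : dX cs h h' X (rep cs h' w (sr i)) = X (rep cs h w (sr i)) :=
  dX_eq S (Dual.mk cs h h' w i)

include S in
theorem dX_sr (i : I) : dX cs h h' X (sr i) = X (sr i) := dX_eq S (dual_sr i)

include S in
theorem dX_neg_sr (i : I) : dX cs h h' X (-sr i) = X (-sr i) := dX_eq S (dual_sr i).neg

include S in
theorem btw_le {x y x' y' : I → ℤ} (hx : Dual cs h h' x x') (hy : Dual cs h h' y y') :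
    btw cs h X x y ≤ btw cs h' (dX cs h h' X) x' y' := by
  unfold Cfsg.Agent.Nodes.Reps.btw
  refine iSup_le ?_
  rintro ⟨z, hz⟩
  obtain ⟨z', hz'⟩ := exists_dual_left (h' := h') hz.1
  have h1 := Dual.btwn S hx hy hz' hz
  have h2 : X z = dX cs h h' X z' := (dX_eq S hz').symm
  change X z ≤ _
  rw [h2]
  exact le_btw_of h1

variable {p : ℕ} {T : Subgroup Y} {n : I → Y}

include S in
/-- **The root group data over the transposed Cartan matrix.** -/
theorem rgd (R : RGD cs h p T n X) : RGD cs h' p T n (dX cs h h' X) where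
  nsys := R.nsys
  conj i y hy := by
    obtain ⟨x, d⟩ := exists_dual_right (h := h) hy
    rw [dX_eq S d, R.conj i x d.left, dX_eq S (d.act (cs.simple i))]
  tor y hy t ht := by
    obtain ⟨x, d⟩ := exists_dual_right (h := h) hy
    rw [dX_eq S d, R.tor x d.left t ht]
  comm y₁ y₂ hy₁ hy₂ hne hne' a ha b hb := by
    obtain ⟨x₁, d₁⟩ := exists_dual_right (h := h) hy₁
    obtain ⟨x₂, d₂⟩ := exists_dual_right (h := h) hy₂
    rw [dX_eq S d₁] at ha
    rw [dX_eq S d₂] at hb
    refine btw_le S d₁ d₂ (R.comm x₁ x₂ d₁.left d₂.left ?_ ?_ a ha b hb)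
    · rintro rfl; exact hne (d₁.unique_right S d₂)
    · rintro rfl; exact hne' (d₁.unique_right S d₂.neg)
  rk1 i u hu hu1 := by
    rw [dX_neg_sr S] at hu
    rw [dX_sr S]
    exact R.rk1 i u hu hu1
  pgrp i := by rw [dX_sr S]; exact R.pgrp i
  notp i := by rw [dX_sr S, dX_neg_sr S]; exact R.notp i
  tcop := R.tcop

/-! ### the standard subgroups -/

include S in
theorem Sup_eq {P P' : Set (I → ℤ)} (h1 : ∀ x ∈ P, IsRoot cs h x) (h2 : ∀ y ∈ P', IsRoot cs h' y)
    (h3 : ∀ x y, Dual cs h h' x y → (x ∈ P ↔ y ∈ P')) : RGD.Sup (dX cs h h' X) P' = RGD.Sup X P := by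
  apply le_antisymm
  · refine RGD.Sup_le fun y hy => ?_
    obtain ⟨x, d⟩ := exists_dual_right (h := h) (h2 y hy)
    rw [dX_eq S d]
    exact RGD.le_Sup ((h3 x y d).2 hy)
  · refine RGD.Sup_le fun x hx => ?_
    obtain ⟨y, d⟩ := exists_dual_left (h' := h') (h1 x hx)
    rw [← dX_eq (X := X) S d]
    exact RGD.le_Sup ((h3 x y d).1 hx)

include S in
theorem Sup_pos : RGD.Sup (dX cs h h' X) (RGD.Pos cs h') = RGD.Sup X (RGD.Pos cs h) :=
  Sup_eq S (fun _ hx => hx.1) (fun _ hy => hy.1) fun _ _ d =>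
    ⟨fun hx => ⟨d.right, (d.nonneg S).1 hx.2⟩, fun hy => ⟨d.left, (d.nonneg S).2 hy.2⟩⟩

include S in
theorem Sup_posNe (i : I) :
    RGD.Sup (dX cs h h' X) (RGD.PosNe cs h' i) = RGD.Sup X (RGD.PosNe cs h i) :=
  Sup_eq S (fun _ hx => hx.1) (fun _ hy => hy.1) fun _ _ d =>
    ⟨fun hx => ⟨d.right, (d.nonneg S).1 hx.2.1, fun e => hx.2.2 ((d.eq_sr S i).2 e)⟩,
      fun hy => ⟨d.left, (d.nonneg S).2 hy.2.1, fun e => hy.2.2 ((d.eq_sr S i).1 e)⟩⟩

include S in
theorem B_eq : RGD.B cs h' T (dX cs h h' X) = RGD.B cs h T X := by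
  unfold RGD.B; rw [Sup_pos S]

include S in
theorem GG_eq : GG cs h' T (dX cs h h' X) = GG cs h T X := by
  unfold GG
  rw [Sup_eq S (P := {x | IsRoot cs h x}) (P' := {y | IsRoot cs h' y}) (fun _ hx => hx) (fun _ hy => hy)
    fun _ _ d => ⟨fun _ => d.right, fun _ => d.left⟩]

include S in
theorem UJ_eq (J : Set I) : UJ cs h' (dX cs h h' X) J = UJ cs h X J :=
  Sup_eq S (fun _ hx => hx.1) (fun _ hy => hy.1) fun _ _ d =>
    ⟨fun hx => ⟨d.right, (d.nonneg S).1 hx.2.1, fun k hk => (d.apply_zero S k).1 (hx.2.2 k hk)⟩,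
      fun hy => ⟨d.left, (d.nonneg S).2 hy.2.1, fun k hk => (d.apply_zero S k).2 (hy.2.2 k hk)⟩⟩

include S in
theorem BJ_eq (J : Set I) : BJ cs h' T (dX cs h h' X) J = BJ cs h T X J := by
  unfold BJ; rw [UJ_eq S]

include S in
theorem VJ_eq (J : Set I) : VJ cs h' (dX cs h h' X) J = VJ cs h X J :=
  Sup_eq S (fun _ hx => hx.1) (fun _ hy => hy.1) fun _ _ d =>
    ⟨fun hx => ⟨d.right, (d.nonneg S).1 hx.2.1, hx.2.2.imp fun k hk => ⟨hk.1, (d.apply_pos S k).1 hk.2⟩⟩,
      fun hy => ⟨d.left, (d.nonneg S).2 hy.2.1, hy.2.2.imp fun k hk => ⟨hk.1, (d.apply_pos S k).2 hk.2⟩⟩⟩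

include S in
theorem LJ_eq (J : Set I) : LJ cs h' T (dX cs h h' X) J = LJ cs h T X J := by
  unfold LJ
  rw [Sup_eq S (P := RootsJ cs h J) (P' := RootsJ cs h' J) (fun _ hx => hx.1) (fun _ hy => hy.1) fun _ _ d =>
    ⟨fun hx => ⟨d.right, fun k hk => (d.apply_zero S k).1 (hx.2 k hk)⟩,
      fun hy => ⟨d.left, fun k hk => (d.apply_zero S k).2 (hy.2 k hk)⟩⟩]

include S in
theorem PJ_eq (J : Set I) : PJ cs h' T (dX cs h h' X) J = PJ cs h T X J := by
  unfold PJ; rw [LJ_eq S, VJ_eq S]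

end Cfsg.Agent.Omega.EH3Close.DualRgd
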