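import Cfsg.Agent.Omega.EH3.Kf.Idx
import Cfsg.Agent.Omega.EH3.Kf.Goal

/-!
# EH3 END: `U` has two different commutators `≠ 1` (helper134, for helper805's closing theorem)

`exists_comm` : in the five cases of `Good`, for every `t` there are `x, y ∈ U` with `⁅x, y⁆ ≠ 1`, `⁅x, y⁆ ≠ t`.
-/

set_option autoImplicit false

namespace Cfsg.Agent.Omega.EH3Close.UComm

open CoxeterSystem Cfsg.Agent.ChevalleyStructure.CoxeterGeom Cfsg.Agent.Tits.Roots Cfsg.Agent.Tits.Core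
  Cfsg.Agent.Tits.RootComb Cfsg.Agent.Nodes.Comb Cfsg.Agent.Nodes.Reps Cfsg.Agent.Nodes.BNOf
  Cfsg.Agent.Nodes.StabComb Cfsg.Agent.Nodes.Bruhat Cfsg.Agent.Nodes.OppDec Cfsg.Agent.Nodes.LeviDec
  Cfsg.Agent.KFacts.RgdSL Cfsg.Agent.Omega.EH3.Kf
open Cfsg.Agent.Omega.EH3.Kf.Goal (Good)
open scoped commutatorElement

variable {I W Y : Type*} [Fintype I] [DecidableEq I] [Group W] [Group Y] {M : CoxeterMatrix I}
  {cs : CoxeterSystem M W} {A : I → I → ℤ} {h : IsCartan M A} {p : ℕ} {T : Subgroup Y} {n : I → Y}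
  {X : (I → ℤ) → Subgroup Y}

theorem mem_Pos_of_sr {i : I} {x : Y} (hx : x ∈ X (sr i)) : x ∈ RGD.Sup X (RGD.Pos cs h) :=
  RGD.le_Sup (S := RGD.Pos cs h) ⟨isRoot_sr cs h i, sr_nonneg i⟩ hx

/-- three nodes -/
theorem of_three (R : RGD cs h p T n X) [Finite W] {i j k : I} (hik : i ≠ k) (h1 : A2 cs h (sr i) (sr j))
    (h2 : A2 cs h (sr j) (sr k)) (t : Y) :
    ∃ x ∈ RGD.Sup X (RGD.Pos cs h), ∃ y ∈ RGD.Sup X (RGD.Pos cs h), ⁅x, y⁆ ≠ 1 ∧ ⁅x, y⁆ ≠ t := by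
  obtain ⟨a, ha, ha1⟩ := exists_ne_one R i
  obtain ⟨b, hb, hb1⟩ := exists_ne_one R j
  obtain ⟨c, hc, hc1⟩ := exists_ne_one R k
  have e1 := A2.comm_ne_one R h1 ha ha1 hb hb1
  have e2 := A2.comm_ne_one R h2 hb hb1 hc hc1
  by_cases ht : ⁅a, b⁆ = t
  · refine ⟨b, mem_Pos_of_sr hb, c, mem_Pos_of_sr hc, e2, fun ht' => e2 ?_⟩
    have m1 := A2.comm_mem R h1 ha hb
    have m2 := A2.comm_mem R h2 hb hc
    rw [ht, ← ht'] at m1
    have hne : sr i + sr j ≠ sr j + sr k := by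
      intro h3
      have h4 := congrFun h3 i
      rw [Pi.add_apply, Pi.add_apply, sr_self, sr_ne hik] at h4
      omega
    have h3 := X_inf_X R h1.rxy h2.rxy hne
    rw [Subgroup.eq_bot_iff_forall] at h3
    exact h3 _ ⟨m1, m2⟩
  · exact ⟨a, mem_Pos_of_sr ha, b, mem_Pos_of_sr hb, e1, ht⟩

/-- two nodes, `|X_j| > 2` -/
theorem of_two (R : RGD cs h p T n X) [Finite W] {i j : I} (h1 : A2 cs h (sr i) (sr j))
    (hj : 2 < Nat.card (X (sr j))) (t : Y) :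
    ∃ x ∈ RGD.Sup X (RGD.Pos cs h), ∃ y ∈ RGD.Sup X (RGD.Pos cs h), ⁅x, y⁆ ≠ 1 ∧ ⁅x, y⁆ ≠ t := by
  obtain ⟨a, ha, ha1⟩ := exists_ne_one R i
  obtain ⟨b, hb, hb1⟩ := exists_ne_one R j
  have : Finite (X (sr j)) := Nat.finite_of_card_ne_zero (by omega)
  obtain ⟨c, hc1, hcb⟩ : ∃ c : X (sr j), c ≠ 1 ∧ c ≠ ⟨b, hb⟩ := by
    by_contra hcon
    push Not at hcon
    have h2 : (Set.univ : Set (X (sr j))) ⊆ {1, ⟨b, hb⟩} := by
      intro c _
      by_cases hc : c = 1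
      · exact Or.inl hc
      · exact Or.inr (hcon c hc)
    have h3 := Set.ncard_le_ncard h2 (Set.toFinite _)
    rw [Set.ncard_univ] at h3
    have h4 : ({1, ⟨b, hb⟩} : Set (X (sr j))).ncard = 2 := Set.ncard_pair fun h5 => hb1 (congrArg Subtype.val h5).symm
    omega
  have hc1' : (c : Y) ≠ 1 := fun h2 => hc1 (Subtype.ext h2)
  have e1 := A2.comm_ne_one R h1 ha ha1 hb hb1
  have e2 := A2.comm_ne_one R h1 ha ha1 c.2 hc1'
  by_cases ht : ⁅a, b⁆ = t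
  · refine ⟨a, mem_Pos_of_sr ha, c, mem_Pos_of_sr c.2, e2, fun ht' => hcb ?_⟩
    apply Subtype.ext
    exact A2.comm_inj R h1 ha ha1 c.2 hb (by rw [ht, ht'])
  · exact ⟨a, mem_Pos_of_sr ha, b, mem_Pos_of_sr hb, e1, ht⟩

/-- **Two different commutators.** -/
theorem exists_comm {Y : Type*} [Group Y] {l : ℕ} {M : CoxeterMatrix (Fin l)} {q : Fin l → ℕ} {i : Fin l}
    (hg : Good M q i) [Finite M.Group] {A' : Fin l → Fin l → ℤ} {h : IsCartan M A'} {T : Subgroup Y}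
    {n : Fin l → Y} {X : (Fin l → ℤ) → Subgroup Y} (R : RGD M.toCoxeterSystem h 2 T n X)
    (hq : ∀ j, Nat.card (X (sr j)) = q j) (t : Y) :
    ∃ x ∈ RGD.Sup X (RGD.Pos M.toCoxeterSystem h), ∃ y ∈ RGD.Sup X (RGD.Pos M.toCoxeterSystem h),
      ⁅x, y⁆ ≠ 1 ∧ ⁅x, y⁆ ≠ t := by
  cases hg with
  | A5 =>
    exact of_three R (i := 0) (j := 1) (k := 2) (by decide) (Idx.a2_of_three (by rw [Sym.tA_eq]; decide))
      (Idx.a2_of_three (by rw [Sym.tA_eq]; decide)) t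
  | D6 =>
    exact of_three R (i := 0) (j := 1) (k := 2) (by decide) (Idx.a2_of_three (by rw [Sym.tD_eq]; decide))
      (Idx.a2_of_three (by rw [Sym.tD_eq]; decide)) t
  | D6' =>
    exact of_three R (i := 0) (j := 1) (k := 2) (by decide) (Idx.a2_of_three (by rw [Sym.tD_eq]; decide))
      (Idx.a2_of_three (by rw [Sym.tD_eq]; decide)) t
  | E7 =>
    exact of_three R (i := 0) (j := 2) (k := 3) (by decide) (Idx.a2_of_three (by rw [Sym.tE_eq]; decide))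
      (Idx.a2_of_three (by rw [Sym.tE_eq]; decide)) t
  | C3 =>
    exact of_two R (i := 0) (j := 1) (Idx.a2_of_three (by rw [Sym.tB_eq]; decide)) (by rw [hq]; decide) t

end Cfsg.Agent.Omega.EH3Close.UComm
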