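import Cfsg.Agent.Omega.EH3Close.AtLoc
import Cfsg.Agent.Omega.EH3Close.CountB
import Cfsg.Agent.Omega.EH3Close.UComm

/-!
# The closing theorem, the case `|[V, s]| = 4` for `w = 10` (helper805)

`C_{Qs}(z)` has order at least `2^18`, its image in `p.H` has order at least `2^16 = |p.H|₂` and at most one nontrivial
commutator, but `U` has two.
-/

set_option autoImplicit false
set_option linter.unusedSectionVars false

namespace Cfsg.Agent.Omega.EH3Close.FourTen

open CoxeterSystem Cfsg.Agent.ChevalleyStructure.CoxeterGeom Cfsg.Agent.Tits.Roots Cfsg.Agent.Tits.Core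
  Cfsg.Agent.Tits.RootComb Cfsg.Agent.Nodes.Comb Cfsg.Agent.Nodes.Reps Cfsg.Agent.Nodes.BNOf
  Cfsg.Agent.Nodes.StabComb Cfsg.Agent.Nodes.Bruhat Cfsg.Agent.Nodes.LeviDec Cfsg.Agent.Nodes.NormalForm
  Cfsg.Agent.Omega.EH3 Cfsg.Agent.Co2Type.Quad Cfsg.Agent.LargeExtra.Base
  Cfsg.Agent.Omega.EH3Close.Glue Cfsg.Agent.Omega.EH3Close.Fin4 Cfsg.Agent.Omega.EH3Close.AtLoc
open Cfsg.Agent.Omega.EH3.Kf.Goal (Good)
open scoped commutatorElement

variable {G : Type*} [Group G] {Q A : Subgroup G} {z a : G} [Finite G] {p : Pair Q z A a}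

/-- the image of a subgroup of `C_G(z)` in `p.H` -/
noncomputable def img (p : Pair Q z A a) (K : Subgroup G) : Subgroup p.H :=
  (K.subgroupOf (Subgroup.centralizer ({z} : Set G))).map (aH p)

theorem mem_img {K : Subgroup G} {x : p.H} : x ∈ img p K ↔
    ∃ g, ∃ hg : g ∈ Subgroup.centralizer ({z} : Set G), g ∈ K ∧ aH p ⟨g, hg⟩ = x := by
  constructor
  · rintro ⟨⟨g, hg⟩, h1, rfl⟩
    exact ⟨g, hg, h1, rfl⟩
  · rintro ⟨g, hg, h1, rfl⟩
    exact ⟨⟨g, hg⟩, h1, rfl⟩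

theorem ker_eq : (aH p).ker = Q.subgroupOf (Subgroup.centralizer ({z} : Set G)) := by
  ext c
  rw [MonoidHom.mem_ker, Subgroup.mem_subgroupOf]
  constructor
  · intro h
    exact p.lz.mem_of_act c (congrArg Subtype.val h)
  · intro h
    exact Subtype.ext (p.lz.act_mem c h)

theorem card_img {K : Subgroup G} (hK : K ≤ Subgroup.centralizer ({z} : Set G)) :
    Nat.card (img p K) = Q.relIndex K := by
  rw [img, ← Subgroup.relIndex_ker, ker_eq, Subgroup.relIndex_subgroupOf hK]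

variable {l : ℕ} {M : CoxeterMatrix (Fin l)} {q : Fin l → ℕ} {i : Fin l} {A' : Fin l → Fin l → ℤ}
  {h : IsCartan M A'} {L : Subgroup p.H} {T : Subgroup L} {n : Fin l → L} {X : (Fin l → ℤ) → Subgroup L} {w : ℕ}

theorem four_ten
    (C : Cfg (p.H.subtype : p.H →* (p.lz.V ≃ₗ[ZMod 2] p.lz.V)) p.lz.b p.lz.q p.va p.D (p.X.subgroupOf p.H) w)
    (D : At p q i h L T n X) (hw : w = 10) (hU : Nat.card (RGD.Sup X (RGD.Pos M.toCoxeterSystem h)) = 2 ^ 15)
    {V : Subgroup G} {m : G} (o : Quad.Out Q z V m) (h4 : Nat.card o.two.symm.W = 4) : False := by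
  have := finite_H (p := p)
  have := D.fin
  subst hw
  set Qs := Quad.cj m Q with hQs
  set s := m * z * m⁻¹ with hs
  have hls : Large Qs s := Quad.large_cj o.lz m
  have hcQ : Nat.card Q = 2 ^ 21 := by
    have h1 := p.lz.card_eq
    rw [C.card_V] at h1
    rw [h1]
    norm_num
  have hcQs : Nat.card Qs = 2 ^ (16 + 5) := by
    rw [← hcQ]
    exact (Nat.card_congr (Q.equivMapOfInjective _ (MulAut.conj m).injective).toEquiv).symm
  have h1 := CountB.card_B o.two h4 hcQs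
  set B := (Qs ⊓ Subgroup.centralizer ({z} : Set G) : Subgroup G) with hB
  have hBz : B ≤ Subgroup.centralizer ({z} : Set G) := inf_le_right
  have h2 := card_img (p := p) hBz
  have h3 := Quad.card_inf_mul_relIndex Q B
  have h5 : Nat.card (B ⊓ Q : Subgroup G) ≤ 4 := by
    refine le_trans (Nat.card_mono (Set.toFinite _) ?_) (LargeExtra.CC.Dt.card_le o.two)
    exact fun x hx => ⟨hx.2, hx.1.1⟩
  rw [← h2] at h3
  have h6 : 2 ^ 16 ≤ Nat.card (img p B) := by
    by_contra hcon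
    push Not at hcon
    have h7 : Nat.card (B ⊓ Q : Subgroup G) * Nat.card (img p B) ≤ 4 * Nat.card (img p B) := Nat.mul_le_mul_right _ h5
    omega
  have hB2 : IsPGroup 2 (img p B) := by
    have h7 : IsPGroup 2 B := by
      have : IsPGroup 2 Qs := IsPGroup.of_card hcQs
      exact this.to_le inf_le_left
    exact (h7.comap_subtype).map _
  have h7 : Nat.card (img p B) ≤ 2 ^ 16 := by
    have := card_le_mul C D hB2
    rw [hU] at this
    omega
  -- the commutators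
  have hcomm : ∀ x ∈ img p B, ∀ y ∈ img p B, ⁅x, y⁆ = 1 ∨
      ⁅x, y⁆ = aH p ⟨s, Subgroup.mem_centralizer_singleton_iff.2 o.two.comm⟩ := by
    intro x hx y hy
    obtain ⟨g, hg, hgB, rfl⟩ := mem_img.1 hx
    obtain ⟨k, hk, hkB, rfl⟩ := mem_img.1 hy
    rw [← map_commutatorElement]
    rcases hls.comm g hgB.1 k hkB.1 with h8 | h8
    · left
      rw [commutatorElement_eq_one_iff_mul_comm.2 (show (⟨g, hg⟩ : Subgroup.centralizer ({z} : Set G)) * ⟨k, hk⟩ =
        ⟨k, hk⟩ * ⟨g, hg⟩ from Subtype.ext h8), map_one]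
    · right
      congr 1
      apply Subtype.ext
      show g * k * g⁻¹ * k⁻¹ = s
      have h9 : ∀ x ∈ Qs, x * s = s * x := hls.comm_z
      have h10 := h9 k hkB.1
      have h11 := h9 g hgB.1
      rw [h8]
      have e1 : k * g * (m * z * m⁻¹) * g⁻¹ * k⁻¹ = k * (g * s) * g⁻¹ * k⁻¹ := by rw [hs]; group
      rw [e1, h11]
      have e2 : k * (s * g) * g⁻¹ * k⁻¹ = (k * s) * k⁻¹ := by group
      rw [e2, h10]
      group
  -- Sylow subgroups
  obtain ⟨P1, hP1⟩ := hB2.exists_le_sylow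
  have hP1' : Nat.card (P1 : Subgroup p.H) ≤ 2 ^ 16 := by
    have := card_le_mul C D P1.isPGroup'
    rw [hU] at this
    omega
  have hP1e : img p B = (P1 : Subgroup p.H) := Subgroup.eq_of_le_of_card_ge hP1 (hP1'.trans h6)
  have hU2 : IsPGroup 2 ((RGD.Sup X (RGD.Pos M.toCoxeterSystem h)).map L.subtype) :=
    (D.rgd.isPGroup_Upos (cs := M.toCoxeterSystem) (h := h)).map _
  obtain ⟨P2, hP2⟩ := hU2.exists_le_sylow
  obtain ⟨g, hg⟩ := MulAction.exists_smul_eq p.H P1 P2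
  have hgU : ∀ x : L, x ∈ RGD.Sup X (RGD.Pos M.toCoxeterSystem h) → ∃ y ∈ img p B, g * y * g⁻¹ = x := by
    intro x hx
    have h8 : (x : p.H) ∈ (P2 : Subgroup p.H) := hP2 ⟨x, hx, rfl⟩
    rw [← hg, Sylow.coe_subgroup_smul] at h8
    obtain ⟨y, hy, e⟩ := h8
    exact ⟨y, hP1e ▸ hy, e⟩
  set t : p.H := g * aH p ⟨s, Subgroup.mem_centralizer_singleton_iff.2 o.two.comm⟩ * g⁻¹ with ht
  have hUc : ∀ x ∈ RGD.Sup X (RGD.Pos M.toCoxeterSystem h), ∀ y ∈ RGD.Sup X (RGD.Pos M.toCoxeterSystem h),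
      ((⁅x, y⁆ : L) : p.H) = 1 ∨ ((⁅x, y⁆ : L) : p.H) = t := by
    intro x hx y hy
    obtain ⟨x', hx', ex⟩ := hgU x hx
    obtain ⟨y', hy', ey⟩ := hgU y hy
    have e : ((⁅x, y⁆ : L) : p.H) = g * ⁅x', y'⁆ * g⁻¹ := by
      have e1 : ((⁅x, y⁆ : L) : p.H) = ⁅(x : p.H), (y : p.H)⁆ := map_commutatorElement L.subtype x y
      rw [e1, ← ex, ← ey, commutatorElement_def, commutatorElement_def]
      group
    rcases hcomm x' hx' y' hy' with h8 | h8
    · left; rw [e, h8]; group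
    · right; rw [e, h8]
  by_cases htL : t ∈ L
  · obtain ⟨x, hx, y, hy, h8, h9⟩ := UComm.exists_comm D.good D.rgd D.card ⟨t, htL⟩
    rcases hUc x hx y hy with h10 | h10
    · exact h8 (Subtype.ext h10)
    · exact h9 (Subtype.ext h10)
  · obtain ⟨x, hx, y, hy, h8, h9⟩ := UComm.exists_comm D.good D.rgd D.card 1
    rcases hUc x hx y hy with h10 | h10
    · exact h8 (Subtype.ext h10)
    · apply htL
      rw [← h10]
      exact (⁅x, y⁆ : L).2

end Cfsg.Agent.Omega.EH3Close.FourTen
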