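import Cfsg.Agent.Omega.EH3Close.LeadU
import Cfsg.Agent.KFacts.RgdSL
import Cfsg.Agent.Nodes.Unique
import Mathlib.LinearAlgebra.Dimension.StrongRankCondition

set_option autoImplicit false
set_option linter.unusedSectionVars false

namespace Cfsg.Agent.Omega.EH3Close.Gram

open CoxeterSystem Cfsg.Agent.ChevalleyStructure.CoxeterGeom Cfsg.Agent.Tits.Roots Cfsg.Agent.Tits.Core
  Cfsg.Agent.Nodes.Reps Cfsg.Agent.Nodes.BNOf Cfsg.Agent.Nodes.PosPair Cfsg.Agent.Nodes.Coroot
  Cfsg.Agent.KFacts.RgdSL

variable {I W : Type*} [Fintype I] [DecidableEq I] [Group W] {M : CoxeterMatrix I}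
  {cs : CoxeterSystem M W} {A : I → I → ℤ} {h : IsCartan M A}

theorem form_sum_left [Fintype W] {ι : Type*} (s : Finset ι) (f : ι → I → ℤ) (y : I → ℤ) :
    form cs h (∑ i ∈ s, f i) y = ∑ i ∈ s, form cs h (f i) y := by
  classical
  induction s using Finset.induction_on with
  | empty => rw [Finset.sum_empty, Finset.sum_empty, form_comm, form_zero_right]
  | insert a s ha ih => rw [Finset.sum_insert ha, Finset.sum_insert ha, form_add_left, ih]

/-- **Roots with all inner products `1`** (Gram matrix `I + J`) whose `o`-coordinate vanishes: at most `|I| - 1`. -/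
theorem card_le_of_one [Finite W] {Ψ : Finset (I → ℤ)} (hr : ∀ x ∈ Ψ, IsRoot cs h x) {o : I} (ho : ∀ x ∈ Ψ, x o = 0)
    (hp : ∀ x ∈ Ψ, ∀ y ∈ Ψ, x ≠ y → cpr cs h x y = 1) : Ψ.card + 1 ≤ Fintype.card I := by
  classical
  have : Fintype W := Fintype.ofFinite W
  let v : Option Ψ → (I → ℤ) := fun j => match j with
    | none => sr o
    | some x => x.1
  have hlin : LinearIndependent ℤ v := by
    rw [Fintype.linearIndependent_iff]
    intro c hc
    rw [Fintype.sum_option] at hc
    have h0 : c none = 0 := by
      have h1 := congrFun hc o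
      simp only [v, Pi.add_apply, Pi.smul_apply, Finset.sum_apply, Pi.zero_apply, smul_eq_mul, sr_self, mul_one] at h1
      rw [Finset.sum_eq_zero (fun x _ => by rw [ho x.1 x.2, mul_zero]), add_zero] at h1
      exact h1
    rw [h0, zero_smul, zero_add] at hc
    have key : ∀ y : Ψ, c (some y) = -∑ x : Ψ, c (some x) := by
      intro y
      have h1 : form cs h (∑ x : Ψ, c (some x) • v (some x)) y.1 = 0 := by
        rw [hc, form_comm, form_zero_right]
      rw [form_sum_left] at h1
      have h2 : ∀ x : Ψ, 2 * form cs h (c (some x) • v (some x)) y.1 =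
          c (some x) * form cs h y.1 y.1 + if x = y then c (some x) * form cs h y.1 y.1 else 0 := by
        intro x
        rw [form_smul_left]
        by_cases hxy : x = y
        · subst hxy
          rw [if_pos rfl]
          show 2 * (c (some x) * form cs h x.1 x.1) = _
          ring
        · rw [if_neg hxy, add_zero]
          have h3 := two_form_cpr cs h x.1 (hr y.1 y.2)
          rw [hp x.1 x.2 y.1 y.2 (fun e => hxy (Subtype.ext e)), one_mul] at h3
          show 2 * (c (some x) * form cs h x.1 y.1) = _
          rw [← h3]; ring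
      have h4 : ∑ x : Ψ, (2 * form cs h (c (some x) • v (some x)) y.1) = 0 := by
        rw [← Finset.mul_sum, h1, mul_zero]
      rw [Finset.sum_congr rfl (fun x _ => h2 x), Finset.sum_add_distrib, ← Finset.sum_mul,
        Finset.sum_ite_eq' Finset.univ y, if_pos (Finset.mem_univ y), ← add_mul] at h4
      have h5 := form_pos cs h (hr y.1 y.2).ne_zero
      have h6 := (mul_eq_zero.1 h4).resolve_right h5.ne'
      linarith
    have hs : ∑ x : Ψ, c (some x) = 0 := by
      have h1 : ∑ x : Ψ, c (some x) = ∑ _x : Ψ, (-∑ x : Ψ, c (some x)) := Finset.sum_congr rfl fun x _ => key x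
      rw [Finset.sum_const, nsmul_eq_mul] at h1
      generalize ∑ x : Ψ, c (some x) = s at h1 ⊢
      have h2 : s * (1 + (Finset.univ : Finset Ψ).card) = 0 := by linarith
      rcases mul_eq_zero.1 h2 with h3 | h3
      · exact h3
      · exfalso
        have h4 : (0 : ℤ) ≤ ((Finset.univ : Finset Ψ).card : ℤ) := Int.natCast_nonneg _
        linarith
    intro j
    cases j with
    | none => exact h0
    | some y => rw [key y, hs, neg_zero]
  have h1 := hlin.fintype_card_le_finrank
  rw [Fintype.card_option, Fintype.card_coe, Module.finrank_fintype_fun_eq_card] at h1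
  exact h1

end Cfsg.Agent.Omega.EH3Close.Gram
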