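import Mathlib.GroupTheory.Index
import Mathlib.Algebra.Group.Subgroup.Pointwise
import Mathlib.GroupTheory.Commutator.Basic
import Mathlib.Tactic

/-!
# Leading roots (helper805)

`Grad F X g` : subgroups `X x`, `x ∈ F` (a finite set), `g : Λ → ℕ` positive and injective on `F`,
`⁅X x, X y⁆ ≤ U (g x + g y)`, `X x ∩ U (g x + 1) = 1`, where `U k = ⟨X x : k ≤ g x⟩`.
`lead V x` : `x` is a leading root of the subgroup `V ≤ U 0`.
-/

set_option autoImplicit false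

namespace Cfsg.Agent.Omega.EH3Close.LeadU

open Subgroup
open scoped commutatorElement

variable {Y Λ : Type*} [Group Y]

theorem mem_sup_of_norm {A N : Subgroup Y} (h : A ≤ normalizer (N : Set Y)) {u : Y} (hu : u ∈ A ⊔ N) :
    ∃ a ∈ A, ∃ w ∈ N, u = a * w := by
  have h' : ∀ a ∈ A, ∀ w ∈ N, a⁻¹ * w * a ∈ N := by
    intro a ha w hw
    have := (mem_normalizer_iff.1 (h (inv_mem ha)) w).1 hw
    rwa [inv_inv] at this
  let S : Subgroup Y :=
    { carrier := {u | ∃ a ∈ A, ∃ w ∈ N, u = a * w}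
      one_mem' := ⟨1, one_mem _, 1, one_mem _, by simp⟩
      mul_mem' := by
        rintro _ _ ⟨a, ha, w, hw, rfl⟩ ⟨b, hb, v, hv, rfl⟩
        exact ⟨a * b, mul_mem ha hb, b⁻¹ * w * b * v, mul_mem (h' b hb w hw) hv, by group⟩
      inv_mem' := by
        rintro _ ⟨a, ha, w, hw, rfl⟩
        refine ⟨a⁻¹, inv_mem ha, a⁻¹⁻¹ * w⁻¹ * a⁻¹, h' _ (inv_mem ha) _ (inv_mem hw), by group⟩ }
  have : A ⊔ N ≤ S :=
    sup_le (fun a ha => ⟨a, ha, 1, one_mem _, by simp⟩) (fun b hb => ⟨1, one_mem _, b, hb, by simp⟩)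
  exact this hu

/-- `U k = ⟨X x : x ∈ F, k ≤ g x⟩` -/
def U (F : Finset Λ) (X : Λ → Subgroup Y) (g : Λ → ℕ) (k : ℕ) : Subgroup Y :=
  ⨆ x : {x : Λ // x ∈ F ∧ k ≤ g x}, X x.1

variable {F : Finset Λ} {X : Λ → Subgroup Y} {g : Λ → ℕ}

theorem le_U {x : Λ} (hx : x ∈ F) {k : ℕ} (hk : k ≤ g x) : X x ≤ U F X g k :=
  le_iSup (fun x : {x : Λ // x ∈ F ∧ k ≤ g x} => X x.1) ⟨x, hx, hk⟩

theorem U_le {k : ℕ} {K : Subgroup Y} (h : ∀ x ∈ F, k ≤ g x → X x ≤ K) : U F X g k ≤ K :=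
  iSup_le fun x => h x.1 x.2.1 x.2.2

theorem U_anti {k l : ℕ} (h : k ≤ l) : U F X g l ≤ U F X g k := U_le fun _ hx hl => le_U hx (h.trans hl)

/-- `U k = 1` for large `k` -/
theorem exists_U_eq_bot (F : Finset Λ) (X : Λ → Subgroup Y) (g : Λ → ℕ) : ∃ k, U F X g k = ⊥ := by
  refine ⟨F.sup g + 1, ?_⟩
  rw [eq_bot_iff]
  refine U_le fun x hx hk => ?_
  have := Finset.le_sup (f := g) hx
  omega

/-- `U k` is the join of `X x` and `U (k+1)` -/
theorem U_eq_sup {x : Λ} (hinj : ∀ y ∈ F, g y = g x → y = x) (hx : x ∈ F) :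
    U F X g (g x) = X x ⊔ U F X g (g x + 1) := by
  apply le_antisymm
  · refine U_le fun y hy hk => ?_
    rcases hk.eq_or_lt with h | h
    · rw [hinj y hy h.symm]; exact le_sup_left
    · exact (le_U hy h).trans le_sup_right
  · exact sup_le (le_U hx le_rfl) (U_anti (Nat.le_succ _))

theorem U_succ_eq {k : ℕ} (h : ∀ y ∈ F, g y ≠ k) : U F X g k = U F X g (k + 1) := by
  apply le_antisymm
  · refine U_le fun y hy hk => ?_
    exact le_U hy (Nat.lt_of_le_of_ne hk (Ne.symm (h y hy)))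
  · exact U_anti (Nat.le_succ _)

/-- commutator relations and the positivity -/
structure Com (F : Finset Λ) (X : Λ → Subgroup Y) (g : Λ → ℕ) : Prop where
  pos : ∀ x ∈ F, 0 < g x
  inj : ∀ x ∈ F, ∀ y ∈ F, g x = g y → x = y
  comm : ∀ x ∈ F, ∀ y ∈ F, ∀ a ∈ X x, ∀ b ∈ X y, ⁅a, b⁆ ∈ U F X g (g x + g y)

namespace Com

theorem U_zero (C : Com F X g) : U F X g 0 = U F X g 1 :=
  le_antisymm (U_le fun x hx _ => le_U hx (C.pos x hx)) (U_anti (Nat.zero_le _))

/-- `X x` normalises `U m` -/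
theorem X_norm (C : Com F X g) {x : Λ} (hx : x ∈ F) (m : ℕ) : X x ≤ normalizer (U F X g m : Set Y) := by
  have key : ∀ a ∈ X x, ∀ b ∈ U F X g m, a * b * a⁻¹ ∈ U F X g m := by
    intro a ha b hb
    unfold U at hb
    refine iSup_induction _ (C := fun b => a * b * a⁻¹ ∈ U F X g m) hb ?_ ?_ ?_
    · rintro ⟨y, hy, hm⟩ b hb
      have h1 : a * b * a⁻¹ = ⁅a, b⁆ * b := by rw [commutatorElement_def]; group
      rw [h1]
      exact mul_mem (U_anti (by omega) (C.comm x hx y hy a ha b hb)) (le_U hy hm hb)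
    · rw [mul_one, mul_inv_cancel]; exact one_mem _
    · intro b c hb hc
      have h1 : a * (b * c) * a⁻¹ = a * b * a⁻¹ * (a * c * a⁻¹) := by group
      rw [h1]
      exact mul_mem hb hc
  intro a ha
  rw [mem_normalizer_iff]
  intro b
  refine ⟨key a ha b, fun hb => ?_⟩
  have h1 := key a⁻¹ (inv_mem ha) _ hb
  have h2 : a⁻¹ * (a * b * a⁻¹) * a⁻¹⁻¹ = b := by group
  rwa [h2] at h1

theorem U_norm (C : Com F X g) (k m : ℕ) : U F X g k ≤ normalizer (U F X g m : Set Y) :=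
  U_le fun _ hx _ => C.X_norm hx m

theorem conj_mem (C : Com F X g) {a b : Y} {k m : ℕ} (ha : a ∈ U F X g k) (hb : b ∈ U F X g m) :
    a * b * a⁻¹ ∈ U F X g m := (mem_normalizer_iff.1 (C.U_norm k m ha) b).1 hb

theorem conj_mem' (C : Com F X g) {a b : Y} {k m : ℕ} (ha : a ∈ U F X g k) (hb : b ∈ U F X g m) :
    a⁻¹ * b * a ∈ U F X g m := by
  have := C.conj_mem (inv_mem ha) hb
  rwa [inv_inv] at this

/-- `⁅U k, U l⁆ ≤ U (k + l)` -/
theorem comm_mem (C : Com F X g) {k l : ℕ} {a b : Y} (ha : a ∈ U F X g k) (hb : b ∈ U F X g l) :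
    ⁅a, b⁆ ∈ U F X g (k + l) := by
  -- first for `b ∈ X y`
  have h1 : ∀ y ∈ F, l ≤ g y → ∀ b ∈ X y, ∀ a ∈ U F X g k, ⁅a, b⁆ ∈ U F X g (k + l) := by
    intro y hy hl b hb a ha
    have ha' := ha
    unfold U at ha
    refine (iSup_induction _ (C := fun a => a ∈ U F X g k ∧ ⁅a, b⁆ ∈ U F X g (k + l)) ha ?_ ?_ ?_).2
    · rintro ⟨x, hx, hk⟩ a ha
      exact ⟨le_U hx hk ha, U_anti (by omega) (C.comm x hx y hy a ha b hb)⟩
    · exact ⟨one_mem _, by rw [commutatorElement_one_left]; exact one_mem _⟩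
    · rintro a c ⟨ha, hab⟩ ⟨hc, hcb⟩
      refine ⟨mul_mem ha hc, ?_⟩
      have h1 : ⁅a * c, b⁆ = a * ⁅c, b⁆ * a⁻¹ * ⁅a, b⁆ := by simp only [commutatorElement_def]; group
      rw [h1]
      exact mul_mem (C.conj_mem ha hcb) hab
  have hb' := hb
  unfold U at hb
  refine (iSup_induction _ (C := fun b => b ∈ U F X g l ∧ ⁅a, b⁆ ∈ U F X g (k + l)) hb ?_ ?_ ?_).2
  · rintro ⟨y, hy, hl⟩ b hb
    exact ⟨le_U hy hl hb, h1 y hy hl b hb a ha⟩
  · exact ⟨one_mem _, by rw [commutatorElement_one_right]; exact one_mem _⟩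
  · rintro b c ⟨hb, hab⟩ ⟨hc, hac⟩
    refine ⟨mul_mem hb hc, ?_⟩
    have h1 : ⁅a, b * c⁆ = ⁅a, b⁆ * (b * ⁅a, c⁆ * b⁻¹) := by simp only [commutatorElement_def]; group
    rw [h1]
    exact mul_mem hab (C.conj_mem hb hac)

/-- `U (g x) = X x U (g x + 1)` -/
theorem exists_mul (C : Com F X g) {x : Λ} (hx : x ∈ F) {u : Y} (hu : u ∈ U F X g (g x)) :
    ∃ a ∈ X x, ∃ w ∈ U F X g (g x + 1), u = a * w := by
  rw [U_eq_sup (fun y hy h => C.inj y hy x hx h) hx] at hu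
  obtain ⟨a, ha, w, hw, h⟩ := mem_sup_of_norm (C.X_norm hx _) hu
  exact ⟨a, ha, w, hw, h⟩

/-- the commutator of `a w` and `b w'` modulo `U (g x + g y + 1)` -/
theorem comm_lead (C : Com F X g) {k l : ℕ} {a b w w' : Y} (ha : a ∈ U F X g k) (hb : b ∈ U F X g l)
    (hw : w ∈ U F X g (k + 1)) (hw' : w' ∈ U F X g (l + 1)) (h : ⁅a * w, b * w'⁆ ∈ U F X g (k + l + 1)) :
    ⁅a, b⁆ ∈ U F X g (k + l + 1) := by
  have h1 : ⁅w, b * w'⁆ ∈ U F X g (k + l + 1) := by
    have := C.comm_mem hw (mul_mem hb (U_anti (Nat.le_succ _) hw'))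
    rwa [show k + 1 + l = k + l + 1 by ring] at this
  have h2 : ⁅a, w'⁆ ∈ U F X g (k + l + 1) := by
    have := C.comm_mem ha hw'
    rwa [show k + (l + 1) = k + l + 1 by ring] at this
  have e : ⁅a, b⁆ = (a * ⁅w, b * w'⁆ * a⁻¹)⁻¹ * ⁅a * w, b * w'⁆ * (b * ⁅a, w'⁆ * b⁻¹)⁻¹ := by
    simp only [commutatorElement_def]; group
  rw [e]
  exact mul_mem (mul_mem (inv_mem (C.conj_mem ha h1)) h) (inv_mem (C.conj_mem hb h2))

end Com

/-- `x` is a leading root of `V` -/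
def Ld (F : Finset Λ) (X : Λ → Subgroup Y) (g : Λ → ℕ) (V : Subgroup Y) (x : Λ) : Prop :=
  ∃ u ∈ V, u ∈ U F X g (g x) ∧ u ∉ U F X g (g x + 1)

open Classical in
/-- the leading roots of `V` below `c` -/
noncomputable def Psi (F : Finset Λ) (X : Λ → Subgroup Y) (g : Λ → ℕ) (V : Subgroup Y) (c : ℕ) : Finset Λ :=
  F.filter fun x => g x < c ∧ Ld F X g V x

theorem mem_Psi {V : Subgroup Y} {c : ℕ} {x : Λ} : x ∈ Psi F X g V c ↔ x ∈ F ∧ g x < c ∧ Ld F X g V x := by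
  classical
  rw [Psi, Finset.mem_filter]

namespace Com

theorem card_step [Finite Y] (C : Com F X g) {x : Λ} (hx : x ∈ F) (V : Subgroup Y) :
    Nat.card (V ⊓ U F X g (g x) : Subgroup Y) ≤ Nat.card (V ⊓ U F X g (g x + 1) : Subgroup Y) * Nat.card (X x) := by
  classical
  have key : ∀ u : (V ⊓ U F X g (g x) : Subgroup Y), ∃ a : X x, ∃ w ∈ U F X g (g x + 1), (u : Y) = a * w := by
    intro u
    obtain ⟨a, ha, w, hw, h⟩ := C.exists_mul hx u.2.2
    exact ⟨⟨a, ha⟩, w, hw, h⟩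
  choose f w hw hf using key
  -- a representative for every value
  let r : X x → (V ⊓ U F X g (g x) : Subgroup Y) := fun a => if h : ∃ u, f u = a then h.choose else 1
  have hr : ∀ u, f (r (f u)) = f u := by
    intro u
    have h : ∃ u', f u' = f u := ⟨u, rfl⟩
    show f (if h : ∃ u', f u' = f u then h.choose else 1) = f u
    rw [dif_pos h]
    exact h.choose_spec
  have hmem : ∀ u, ((r (f u) : (V ⊓ U F X g (g x) : Subgroup Y)) : Y)⁻¹ * u ∈ (V ⊓ U F X g (g x + 1) : Subgroup Y) := by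
    intro u
    refine ⟨V.mul_mem (V.inv_mem (r (f u)).2.1) u.2.1, ?_⟩
    rw [hf u, hf (r (f u)), hr u]
    have e : ((f u : Y) * w (r (f u)))⁻¹ * (f u * w u) = (w (r (f u)))⁻¹ * w u := by group
    rw [e]
    exact (U F X g (g x + 1)).mul_mem ((U F X g (g x + 1)).inv_mem (hw _)) (hw _)
  have h1 : Nat.card (V ⊓ U F X g (g x) : Subgroup Y) ≤
      Nat.card ((V ⊓ U F X g (g x + 1) : Subgroup Y) × X x) := by
    refine Nat.card_le_card_of_injective (fun u => (⟨_, hmem u⟩, f u)) ?_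
    intro u v huv
    rw [Prod.mk.injEq] at huv
    obtain ⟨e1, e2⟩ := huv
    have e3 := congrArg Subtype.val e1
    simp only [e2] at e3
    exact Subtype.ext (mul_left_cancel e3)
  rwa [Nat.card_prod] at h1

theorem card_le [Finite Y] (C : Com F X g) {V : Subgroup Y} (hV : V ≤ U F X g 0) (c : ℕ) :
    Nat.card V ≤ Nat.card (V ⊓ U F X g c : Subgroup Y) * ∏ x ∈ Psi F X g V c, Nat.card (X x) := by
  classical
  induction c with
  | zero =>
    have h1 : V ⊓ U F X g 0 = V := inf_eq_left.2 hV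
    have h2 : Psi F X g V 0 = ∅ := by
      ext x
      rw [mem_Psi]
      simp
    rw [h1, h2, Finset.prod_empty, mul_one]
  | succ c ih =>
    by_cases h : ∃ x ∈ F, g x = c
    · obtain ⟨x, hx, rfl⟩ := h
      by_cases hl : Ld F X g V x
      · have h3 : Psi F X g V (g x + 1) = insert x (Psi F X g V (g x)) := by
          ext y
          rw [Finset.mem_insert, mem_Psi, mem_Psi]
          constructor
          · rintro ⟨hy, h1, h2⟩
            rcases Nat.lt_succ_iff_lt_or_eq.1 h1 with h3 | h3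
            · exact Or.inr ⟨hy, h3, h2⟩
            · exact Or.inl (C.inj y hy x hx h3)
          · rintro (rfl | ⟨hy, h1, h2⟩)
            · exact ⟨hx, Nat.lt_succ_self _, hl⟩
            · exact ⟨hy, by omega, h2⟩
        have h4 : x ∉ Psi F X g V (g x) := by
          rw [mem_Psi]
          rintro ⟨-, h, -⟩
          exact lt_irrefl _ h
        rw [h3, Finset.prod_insert h4, ← mul_assoc]
        exact ih.trans (Nat.mul_le_mul_right _ (C.card_step hx V))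
      · have h3 : Psi F X g V (g x + 1) = Psi F X g V (g x) := by
          ext y
          rw [mem_Psi, mem_Psi]
          constructor
          · rintro ⟨hy, h1, h2⟩
            rcases Nat.lt_succ_iff_lt_or_eq.1 h1 with h3 | h3
            · exact ⟨hy, h3, h2⟩
            · exact absurd (C.inj y hy x hx h3 ▸ h2) hl
          · rintro ⟨hy, h1, h2⟩
            exact ⟨hy, by omega, h2⟩
        have h4 : V ⊓ U F X g (g x) ≤ V ⊓ U F X g (g x + 1) := by
          rintro u ⟨hu, hu'⟩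
          refine ⟨hu, ?_⟩
          by_contra hcon
          exact hl ⟨u, hu, hu', hcon⟩
        rw [h3]
        exact ih.trans (Nat.mul_le_mul_right _ (Nat.card_mono (Set.toFinite _) h4))
    · push Not at h
      have h3 : Psi F X g V (c + 1) = Psi F X g V c := by
        ext y
        rw [mem_Psi, mem_Psi]
        constructor
        · rintro ⟨hy, h1, h2⟩
          have := h y hy
          exact ⟨hy, by omega, h2⟩
        · rintro ⟨hy, h1, h2⟩
          exact ⟨hy, by omega, h2⟩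
      rw [h3, ← U_succ_eq h]
      exact ih

theorem relIndex_le [Finite Y] (C : Com F X g) {V : Subgroup Y} (hV : V ≤ U F X g 0) (c : ℕ) :
    (U F X g c).relIndex V ≤ ∏ x ∈ Psi F X g V c, Nat.card (X x) := by
  have h1 := C.card_le hV c
  have h2 : Nat.card (V ⊓ U F X g c : Subgroup Y) * (U F X g c).relIndex V = Nat.card V := by
    have h1 := Subgroup.card_mul_index ((U F X g c).subgroupOf V)
    have h2 : Nat.card (V ⊓ U F X g c : Subgroup Y) = Nat.card ((U F X g c).subgroupOf V) := by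
      rw [inf_comm, ← Subgroup.subgroupOf_map_subtype]
      exact (Nat.card_congr (((U F X g c).subgroupOf V).equivMapOfInjective _ V.subtype_injective).toEquiv).symm
    rw [h2]
    exact h1
  rw [← h2] at h1
  exact Nat.le_of_mul_le_mul_left h1 Nat.card_pos

/-- **No two leading roots `x`, `y` below `c` with a root `μ ≥ c` and nonzero leading commutators.** -/
theorem not_pair (C : Com F X g) {V : Subgroup Y} {c : ℕ} (hV : ∀ a ∈ V, ∀ b ∈ V, a * b = b * a)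
    (hn : ∀ q ∈ U F X g c, ∀ v ∈ V, q * v * q⁻¹ ∈ V) {x y μ ν ξ : Λ} (hx : x ∈ F) (hy : y ∈ F) (hμ : μ ∈ F)
    (hν : ν ∈ F) (hgμ : c ≤ g μ) (h1 : g ν = g μ + g x) (h2 : g ξ = g ν + g y) {v : Y} (hv : v ∈ X μ)
    (lx : Ld F X g V x) (ly : Ld F X g V y)
    (n1 : ∀ a ∈ X x, a ≠ 1 → ∀ d ∈ X ν, ∀ w ∈ U F X g (g ν + 1), ⁅v, a⁆ = d * w → d ≠ 1)
    (n2 : ∀ b ∈ X y, b ≠ 1 → ∀ d ∈ X ν, d ≠ 1 → ⁅d, b⁆ ∉ U F X g (g ξ + 1)) : False := by
  obtain ⟨u, hu, hu1, hu2⟩ := lx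
  obtain ⟨u', hu', hu1', hu2'⟩ := ly
  obtain ⟨a, ha, w, hw, rfl⟩ := C.exists_mul hx hu1
  obtain ⟨b, hb, w', hw', rfl⟩ := C.exists_mul hy hu1'
  have ha1 : a ≠ 1 := by
    rintro rfl
    rw [one_mul] at hu2
    exact hu2 hw
  have hb1 : b ≠ 1 := by
    rintro rfl
    rw [one_mul] at hu2'
    exact hu2' hw'
  have hvU : v ∈ U F X g (g μ) := le_U hμ le_rfl hv
  have haU : a ∈ U F X g (g x) := le_U hx le_rfl ha
  have hbU : b ∈ U F X g (g y) := le_U hy le_rfl hb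
  -- `k = [v, u]`
  have hkV : ⁅v, a * w⁆ ∈ V := by
    rw [commutatorElement_def]
    exact mul_mem (hn v (U_anti hgμ hvU) _ hu) (inv_mem hu)
  have hkU : ⁅v, a * w⁆ ∈ U F X g (g ν) := by
    rw [h1]; exact C.comm_mem hvU hu1
  obtain ⟨d, hd, w1, hw1, e⟩ := C.exists_mul hν hkU
  -- `[v, a] = d w2`
  have hd1 : d ≠ 1 := by
    have e2 : ⁅v, a * w⁆ = ⁅v, a⁆ * (a * ⁅v, w⁆ * a⁻¹) := by
      simp only [commutatorElement_def]; group
    have h3 : ⁅v, w⁆ ∈ U F X g (g ν + 1) := by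
      have := C.comm_mem hvU hw
      rw [h1]
      exact this
    have h4 : a * ⁅v, w⁆ * a⁻¹ ∈ U F X g (g ν + 1) := C.conj_mem haU h3
    refine n1 a ha ha1 d hd (w1 * (a * ⁅v, w⁆ * a⁻¹)⁻¹) (mul_mem hw1 (inv_mem h4)) ?_
    rw [← mul_assoc, ← e, e2]
    group
  have hc : ⁅d * w1, b * w'⁆ = 1 := by
    rw [← e, commutatorElement_eq_one_iff_mul_comm]
    exact hV _ hkV _ hu'
  refine n2 b hb hb1 d hd hd1 ?_
  rw [h2]
  refine C.comm_lead (le_U hν le_rfl hd) hbU hw1 hw' ?_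
  rw [hc]
  exact one_mem _

end Com

end Cfsg.Agent.Omega.EH3Close.LeadU
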