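import Cfsg.Agent.Omega.EH3Close.Star
import Cfsg.Agent.Omega.EH3Close.RgdLead
import Cfsg.Agent.Omega.EH3Close.Numb
import Cfsg.Agent.Nodes.SimplyLaced

/-!
# The local quadratic bound, simply laced rows (helper805)

`D : Star.Mod cs h T n X ρ a i` of type `A₅` (`i = 2`), `D₆` (`i = 4, 5`), `E₇` (`i = 6`), all root groups of order 2;
`Ab ≤ U` abelian, normal in `U`, quadratic on `V`: `|Ab| ≤ 2^5, 2^10, 2^17`.
-/

set_option autoImplicit false
set_option linter.unusedSectionVars false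

namespace Cfsg.Agent.Omega.EH3Close.LocSL

open CoxeterSystem Cfsg.Agent.ChevalleyStructure.CoxeterGeom Cfsg.Agent.Tits.Roots Cfsg.Agent.Tits.Core
  Cfsg.Agent.Tits.RootComb Cfsg.Agent.Nodes.Comb Cfsg.Agent.Nodes.Reps Cfsg.Agent.Nodes.BNOf
  Cfsg.Agent.Nodes.StabComb Cfsg.Agent.Nodes.Bruhat Cfsg.Agent.Nodes.LeviDec Cfsg.Agent.Nodes.Coroot
  Cfsg.Agent.ParSys.RootCount Cfsg.Agent.ParSys.RootExc
  Cfsg.Agent.KFacts.RgdSL Cfsg.Agent.Omega.EH3Close.LeadU Cfsg.Agent.Omega.EH3Close.RgdLead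
  Cfsg.Agent.Omega.EH3Close.Roots
open Cfsg.Agent.LieRecognition.BNCox (cA)
open scoped commutatorElement

/-! ### Generalities -/

section General

variable {I W Y : Type*} [Fintype I] [DecidableEq I] [Group W] [Group Y] {M : CoxeterMatrix I}
  {cs : CoxeterSystem M W} {A : I → I → ℤ} {h : IsCartan M A} {p : ℕ} {T : Subgroup Y} {n : I → Y}
  {X : (I → ℤ) → Subgroup Y}

/-- the positive roots are in the list -/
theorem mem_of_pos {Rt : Finset (I → ℤ)} (hR : PosRoots A Rt) {x : I → ℤ} (hx : x ∈ RGD.Pos cs h) : x ∈ Rt := by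
  obtain ⟨⟨w, i, rfl⟩, h0⟩ := hx
  rcases hR.rep_mem h cs w _ (hR.simple_mem i) with h1 | h1
  · exact h1
  · exfalso
    have h2 := hR.pos _ h1
    have h3 : rep cs h w (sr i) = 0 := le_antisymm (neg_nonneg.1 h2) h0
    exact hR.ne (by rw [← neg_zero, ← h3]; exact h1)

/-- the Cartan numbers of a simply laced system -/
theorem cpr_eq [Finite W] (hs : SL cs h) {x y : I → ℤ} (hx : IsRoot cs h x) (hy : IsRoot cs h y) :
    cpr cs h x y = ∑ k, y k * pairing A k x := by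
  have h1 : y = ∑ k, y k • sr k := by
    funext j
    rw [Finset.sum_apply]
    simp [sr, Pi.single_apply]
  have h2 : ∀ s : Finset I, cpr cs h (∑ k ∈ s, y k • sr k) x = ∑ k ∈ s, y k * pairing A k x := by
    intro s
    induction s using Finset.induction_on with
    | empty =>
      rw [Finset.sum_empty, Finset.sum_empty]
      have := cpr_smul cs h 0 x hx
      rwa [zero_smul, zero_mul] at this
    | insert b s hb ih =>
      rw [Finset.sum_insert hb, Finset.sum_insert hb, cpr_add cs h _ _ hx, ih, cpr_smul cs h _ _ hx,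
        hs _ _ (isRoot_sr cs h b) hx, cpr_sr]
  rw [hs x y hx hy]
  nth_rewrite 1 [h1]
  exact h2 _

/-- `x + y` a root, `x`, `y` positive: `⟨x, y⟩ = -1` -/
theorem cpr_of_add [Finite W] (hs : SL cs h) {x y : I → ℤ} (hx : x ∈ RGD.Pos cs h) (hy : y ∈ RGD.Pos cs h)
    (hxy : IsRoot cs h (x + y)) : cpr cs h x y = -1 := by
  have h1 := cpr_add cs h x y hy.1
  rw [cpr_self cs h hy.1] at h1
  have h2 : x + y ≠ y := fun h0 => hx.1.ne_zero (add_eq_right.1 h0)
  have h3 : x + y ≠ -y := by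
    intro h0
    have h4 : 0 ≤ x + y := add_nonneg hx.2 hy.2
    rw [h0] at h4
    exact hy.1.not_pos_neg hy.2 (neg_nonneg.1 h4)
  have h4 := hs.abs_le hxy hy.1 h2 h3
  rcases hs.cases hx.1 hy.1 with ⟨-, h5⟩ | ⟨h0, -⟩ | ⟨-, -, h5, h6⟩
  · omega
  · exfalso
    have := hx.2
    rw [h0] at this
    exact hy.1.not_pos_neg hy.2 (neg_nonneg.1 this)
  · omega

/-- a chain of simple reflections, checked step by step -/
def chk (A : I → I → ℤ) (x : I → ℤ) : List (I × (I → ℤ)) → (I → ℤ) → Prop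
  | [], y => x = y
  | (j, v) :: l, y => (∀ k, v k = x k - (if k = j then pairing A j x else 0)) ∧ chk A v l y

theorem rep_of_chk {x y : I → ℤ} {l : List (I × (I → ℤ))} (hl : chk A x l y) :
    rep cs h (cs.wordProd (l.map Prod.fst).reverse) x = y := by
  induction l generalizing x with
  | nil =>
    rw [List.map_nil, List.reverse_nil, wordProd_nil, map_one, Module.End.one_apply]
    exact hl
  | cons b l ih =>
    obtain ⟨j, v⟩ := b
    obtain ⟨h1, h2⟩ := hl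
    have h3 : rep cs h (cs.simple j) x = v := by
      rw [rep_simple_eq]
      funext k
      rw [h1 k, Pi.sub_apply, Pi.smul_apply, smul_eq_mul]
      by_cases hk : k = j
      · subst hk
        rw [if_pos rfl, sr_self, mul_one]
      · rw [if_neg hk, sr_ne hk, mul_zero]
    rw [List.map_cons, List.reverse_cons, wordProd_append, wordProd_singleton, rep_mul_apply, h3]
    exact ih h2

theorem word_mem {J : Set I} {l : List I} (hl : ∀ j ∈ l, j ∈ J) : cs.wordProd l ∈ WJ cs J := by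
  induction l with
  | nil => rw [wordProd_nil]; exact one_mem _
  | cons j l ih =>
    rw [wordProd_cons]
    exact mul_mem (Cfsg.Agent.Tits.Exchange.simple_mem_WJ cs (hl j (List.mem_cons_self)))
      (ih fun k hk => hl k (List.mem_cons_of_mem _ hk))

end General

/-! ### The abstract bound -/

section Abs

variable {k : ℕ} {W Y V : Type*} [Group W] [Group Y] [AddCommGroup V] [Module (ZMod 2) V]
  {M : CoxeterMatrix (Fin k)} {cs : CoxeterSystem M W} {A : Fin k → Fin k → ℤ} {h : IsCartan M A}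
  {T : Subgroup Y} {n : Fin k → Y} {X : (Fin k → ℤ) → Subgroup Y}

/-- the data of a row -/
structure Dat (A : Fin k → Fin k → ℤ) (L reps : List (Fin k → ℤ)) (i : Fin k) (J : Finset (Fin k)) (θ β : Fin k → ℤ)
    (lb lt : List (Fin k × (Fin k → ℤ))) : Prop where
  iJ : i ∈ J
  top : ∀ x ∈ L, x = θ ∨ ∃ j, pairing A j x = -1
  topJ : ∀ x ∈ L, (∀ j, j ∉ J → x j = 0) → x = β ∨ ∃ j ∈ J, pairing A j x = -1
  hb : chk A (Pi.single i 1) lb β
  ht : chk A (Pi.single i 1) lt θ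
  lb : ∀ b ∈ lb, b.1 ∈ J ∧ b.1 ≠ i
  lt : ∀ b ∈ lt, b.1 ≠ i
  orth : ∑ j, β j * pairing A j θ = 0
  reps : ∀ x ∈ L, (∃ j, j ∉ J ∧ 0 < x j) → ∃ r ∈ reps, x = r ∨ x + r = θ

variable [Finite W] {ρ : Y →* (V ≃ₗ[ZMod 2] V)} {a : V} {i : Fin k} (D : Star.Mod cs h T n X ρ a i)
  (hs : SL cs h) (h2 : ∀ j, Nat.card (X (sr j)) = 2)

theorem X_comm' (R : RGD cs h 2 T n X) (h2 : ∀ j, Nat.card (X (sr j)) = 2) {x : Fin k → ℤ} (hx : IsRoot cs h x) :
    Nat.card (X x) = 2 ∧ ∀ a ∈ X x, ∀ b ∈ X x, a * b = b * a := by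
  have h3 : Nat.card (X x) = 2 := by
    obtain ⟨w, i, rfl⟩ := hx
    obtain ⟨g, hg⟩ := exists_rp cs R.nsys w
    rw [← R.conj_rp hg (isRoot_sr cs h i), ← h2 i]
    exact (Nat.card_congr ((X (sr i)).equivMapOfInjective _ (MulAut.conj g).injective).toEquiv).symm
  refine ⟨h3, ?_⟩
  have : IsCyclic (X x) := isCyclic_of_prime_card (p := 2) h3
  intro a ha b hb
  have h4 := IsCyclic.isMulCommutative (α := X x)
  exact congrArg Subtype.val (h4.is_comm.comm (⟨a, ha⟩ : X x) ⟨b, hb⟩)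

include D hs h2

theorem card_le [Finite Y] {L reps : List (Fin k → ℤ)} {J : Finset (Fin k)} {θ β : Fin k → ℤ}
    {lb lt : List (Fin k × (Fin k → ℤ))} (E : Dat A L reps i J θ β lb lt) (hR : PosRoots A L.toFinset)
    {Ab : Subgroup Y} (hA : Ab ≤ RGD.Sup X (RGD.Pos cs h)) (hc : ∀ x ∈ Ab, ∀ y ∈ Ab, x * y = y * x)
    (hn : ∀ g ∈ RGD.Sup X (RGD.Pos cs h), ∀ x ∈ Ab, g * x * g⁻¹ ∈ Ab)
    (hqd : ∀ x ∈ Ab, ∀ y ∈ Ab, ∀ v, ρ x (ρ y v + v) = ρ y v + v) : Nat.card Ab ≤ 2 ^ reps.length := by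
  classical
  have R := D.rgd
  obtain ⟨g, c, fn⟩ := exists_fn (cs := cs) (h := h) i
  have hab : ∀ x, IsRoot cs h x → ∀ a ∈ X x, ∀ b ∈ X x, a * b = b * a := fun x hx => (X_comm' R h2 hx).2
  have C := com R hs fn hab
  have hL : ∀ {x}, x ∈ RGD.Pos cs h → x ∈ L := fun hx => List.mem_toFinset.1 (mem_of_pos hR hx)
  -- the roots `θ`, `β`
  have hθ : θ = rep cs h (cs.wordProd (lt.map Prod.fst).reverse) (sr i) := (rep_of_chk E.ht).symm
  have hβ : β = rep cs h (cs.wordProd (lb.map Prod.fst).reverse) (sr i) := (rep_of_chk E.hb).symm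
  have hθr : IsRoot cs h θ := ⟨_, _, hθ⟩
  have hβr : IsRoot cs h β := ⟨_, _, hβ⟩
  -- climbing
  have step : ∀ {x j}, x ∈ RGD.Pos cs h → pairing A j x = -1 → x + sr j ∈ RGD.Pos cs h ∧
      g (x + sr j) = g x + g (sr j) ∧ 0 < g (sr j) := by
    intro x j hx hj
    have hsj : sr j ∈ RGD.Pos cs h := ⟨isRoot_sr cs h j, sr_nonneg j⟩
    have h3 : cpr cs h x (sr j) = -1 := by rw [cpr_sr]; exact hj
    have h4 := isRoot_add hx.1 hsj.1 h3
    exact ⟨⟨h4, add_nonneg hx.2 hsj.2⟩, fn.add x hx _ hsj, fn.pos _ hsj⟩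
  have lead : ∀ {x j}, x ∈ RGD.Pos cs h → pairing A j x = -1 → Ld (PF cs h) X g Ab x →
      Ld (PF cs h) X g Ab (x + sr j) := by
    rintro x j hx hj ⟨u, hu, hu1, hu2⟩
    have hsj : sr j ∈ RGD.Pos cs h := ⟨isRoot_sr cs h j, sr_nonneg j⟩
    have h3 : cpr cs h x (sr j) = -1 := by rw [cpr_sr]; exact hj
    obtain ⟨b, hb, w, hw, rfl⟩ := C.exists_mul (mem_PF.2 hx) hu1
    have hb1 : b ≠ 1 := by
      rintro rfl
      rw [one_mul] at hu2
      exact hu2 hw
    obtain ⟨y, hy, hy1⟩ : ∃ y ∈ X (sr j), y ≠ 1 := by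
      by_contra hcon
      push Not at hcon
      have h4 := (Subgroup.eq_bot_iff_forall _).2 hcon
      have h5 := h2 j
      rw [h4, Subgroup.card_bot] at h5
      omega
    have hyU : y ∈ U (PF cs h) X g (g (sr j)) := le_U (mem_PF.2 hsj) le_rfl hy
    have hyP : y ∈ RGD.Sup X (RGD.Pos cs h) := RGD.le_Sup hsj hy
    refine ⟨⁅b * w, y⁆, ?_, ?_, ?_⟩
    · have e : ⁅b * w, y⁆ = (b * w) * (y * (b * w)⁻¹ * y⁻¹) := by rw [commutatorElement_def]; group
      rw [e]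
      exact mul_mem hu (hn y hyP _ (inv_mem hu))
    · rw [fn.add x hx _ hsj]
      exact C.comm_mem hu1 hyU
    · intro h4
      refine comm_not_mem R hs fn hx hsj h3 hb hb1 hy hy1 ?_
      rw [fn.add x hx _ hsj] at h4 ⊢
      refine C.comm_lead (le_U (mem_PF.2 hx) le_rfl hb) hyU hw (one_mem _) ?_
      rwa [mul_one]
  -- maximality of `θ`
  have hmaxθ : θ ∈ RGD.Pos cs h ∧ ∀ x ∈ RGD.Pos cs h, g x ≤ g θ := by
    obtain ⟨x, hx, hmax⟩ := Finset.exists_max_image (PF cs h) g ⟨sr i, mem_PF.2 ⟨isRoot_sr cs h i, sr_nonneg i⟩⟩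
    rw [mem_PF] at hx
    rcases E.top x (hL hx) with h3 | ⟨j, hj⟩
    · rw [← h3]
      exact ⟨hx, fun y hy => hmax y (mem_PF.2 hy)⟩
    · exfalso
      obtain ⟨h4, h5, h6⟩ := step hx hj
      have := hmax _ (mem_PF.2 h4)
      omega
  -- maximality of `β`
  have hmaxβ : β ∈ RGD.Pos cs h ∧ ∀ x ∈ PosJ cs h (J : Set (Fin k)), g x ≤ g β := by
    let PJf := (PF cs h).filter fun x => ∀ j, j ∉ J → x j = 0
    have hmem : ∀ {x}, x ∈ PJf ↔ x ∈ RGD.Pos cs h ∧ ∀ j, j ∉ J → x j = 0 := by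
      intro x
      rw [Finset.mem_filter, mem_PF]
    obtain ⟨x, hx, hmax⟩ := Finset.exists_max_image PJf g ⟨sr i, hmem.2 ⟨⟨isRoot_sr cs h i, sr_nonneg i⟩, fun j hj =>
      sr_ne (fun h0 => hj (h0 ▸ E.iJ))⟩⟩
    rw [hmem] at hx
    rcases E.topJ x (hL hx.1) hx.2 with h3 | ⟨j, hjJ, hj⟩
    · rw [← h3]
      exact ⟨hx.1, fun y hy => hmax y (hmem.2 ⟨⟨hy.1, hy.2.1⟩, fun j hj => hy.2.2 j hj⟩)⟩
    · exfalso
      obtain ⟨h4, h5, h6⟩ := step hx.1 hj
      have := hmax _ (hmem.2 ⟨h4, fun l hl => by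
        rw [Pi.add_apply, hx.2 l hl, sr_ne (show l ≠ j from fun h0 => hl (h0 ▸ hjJ)), add_zero]⟩)
      omega
  -- `U (g θ + 1) = 1`
  have hUθ : U (PF cs h) X g (g θ + 1) = ⊥ := by
    rw [eq_bot_iff]
    refine U_le fun x hx hk => ?_
    have := hmaxθ.2 x (mem_PF.1 hx)
    omega
  have hU0 : RGD.Sup X (RGD.Pos cs h) ≤ U (PF cs h) X g 0 :=
    RGD.Sup_le fun x hx => le_U (mem_PF.2 hx) (Nat.zero_le _)
  -- no leading root in `J`
  have hno : ∀ x, x ∈ RGD.Pos cs h → Ld (PF cs h) X g Ab x → x ∈ NotJ cs h (J : Set (Fin k)) := by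
    intro x₀ hx₀ hl₀
    by_contra hx₀J
    have hx₀J' := (mem_PosJ_or_NotJ (J : Set (Fin k)) hx₀.1 hx₀.2).resolve_right hx₀J
    -- `θ` is leading
    have hlθ : Ld (PF cs h) X g Ab θ := by
      obtain ⟨x, hx, hmax⟩ := Finset.exists_max_image ((PF cs h).filter fun x => Ld (PF cs h) X g Ab x) g
        ⟨x₀, Finset.mem_filter.2 ⟨mem_PF.2 hx₀, hl₀⟩⟩
      obtain ⟨hx, hl⟩ := Finset.mem_filter.1 hx
      rw [mem_PF] at hx
      rcases E.top x (hL hx) with h3 | ⟨j, hj⟩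
      · rwa [← h3]
      · exfalso
        obtain ⟨h4, h5, h6⟩ := step hx hj
        have := hmax _ (Finset.mem_filter.2 ⟨mem_PF.2 h4, lead hx hj hl⟩)
        omega
    -- `β` is leading
    have hlβ : Ld (PF cs h) X g Ab β := by
      obtain ⟨x, hx, hmax⟩ := Finset.exists_max_image
        ((PF cs h).filter fun x => Ld (PF cs h) X g Ab x ∧ ∀ j, j ∉ J → x j = 0) g
        ⟨x₀, Finset.mem_filter.2 ⟨mem_PF.2 hx₀, hl₀, fun j hj => hx₀J'.2.2 j hj⟩⟩
      obtain ⟨hx, hl, hz⟩ := Finset.mem_filter.1 hx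
      rw [mem_PF] at hx
      rcases E.topJ x (hL hx) hz with h3 | ⟨j, hjJ, hj⟩
      · rwa [← h3]
      · exfalso
        obtain ⟨h4, h5, h6⟩ := step hx hj
        have := hmax _ (Finset.mem_filter.2 ⟨mem_PF.2 h4, lead hx hj hl, fun l hl' => by
          rw [Pi.add_apply, hz l hl', sr_ne (show l ≠ j from fun h0 => hl' (h0 ▸ hjJ)), add_zero]⟩)
        omega
    obtain ⟨z, hz, hz1, hz2⟩ := hlθ
    obtain ⟨z', hz', w, hw, rfl⟩ := C.exists_mul (mem_PF.2 hmaxθ.1) hz1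
    rw [hUθ, Subgroup.mem_bot] at hw hz2
    subst hw
    rw [mul_one] at hz hz1 hz2
    obtain ⟨u, hu, hu1, hu2⟩ := hlβ
    obtain ⟨x, hx, y, hy, rfl⟩ := C.exists_mul (mem_PF.2 hmaxβ.1) hu1
    have hx1 : x ≠ 1 := by
      rintro rfl
      rw [one_mul] at hu2
      exact hu2 hy
    have hyV : y ∈ VJ cs h X (J : Set (Fin k)) := by
      have h3 : U (PF cs h) X g (g β + 1) ≤ VJ cs h X (J : Set (Fin k)) := by
        refine U_le fun x hx hk => ?_
        rw [mem_PF] at hx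
        rcases mem_PosJ_or_NotJ (J : Set (Fin k)) hx.1 hx.2 with h4 | h4
        · exfalso
          have := hmaxβ.2 x h4
          omega
        · exact RGD.le_Sup h4
      exact h3 hy
    have hub : cs.wordProd (lb.map Prod.fst).reverse ∈ WJ cs ((J : Set (Fin k)) \ {i}) := by
      refine word_mem fun j hj => ?_
      rw [List.mem_reverse, List.mem_map] at hj
      obtain ⟨b, hb, rfl⟩ := hj
      exact ⟨Finset.mem_coe.2 (E.lb b hb).1, (E.lb b hb).2⟩
    have hut : cs.wordProd (lt.map Prod.fst).reverse ∈ WJ cs ({i} : Set (Fin k))ᶜ := by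
      refine word_mem fun j hj => ?_
      rw [List.mem_reverse, List.mem_map] at hj
      obtain ⟨b, hb, rfl⟩ := hj
      exact E.lt b hb
    have ho : rep cs h (cs.wordProd (lb.map Prod.fst).reverse * cs.simple i *
        (cs.wordProd (lb.map Prod.fst).reverse)⁻¹) (rep cs h (cs.wordProd (lt.map Prod.fst).reverse) (sr i)) =
        rep cs h (cs.wordProd (lt.map Prod.fst).reverse) (sr i) := by
      have h3 := rep_rfl'_eq cs h (cs.wordProd (lb.map Prod.fst).reverse) i θ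
      rw [← hβ, cpr_eq hs hθr hβr, E.orth, zero_smul, sub_zero] at h3
      rw [← hθ]
      exact h3
    rw [hθ] at hz'
    rw [hβ] at hx
    obtain ⟨v, hv⟩ := D.kill (Finset.mem_coe.2 E.iJ) hub hut ho hz' hz2 hx hx1 hyV
    exact hv (hqd _ hu _ hz v)
  -- the count
  obtain ⟨c', hc'⟩ := exists_U_eq_bot (PF cs h) X g
  have h3 := C.relIndex_le (V := Ab) (hA.trans hU0) c'
  rw [hc', Subgroup.relIndex_bot_left] at h3
  refine h3.trans ?_
  have h4 : ∏ x ∈ Psi (PF cs h) X g Ab c', Nat.card (X x) = 2 ^ (Psi (PF cs h) X g Ab c').card := by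
    rw [← Finset.prod_const]
    refine Finset.prod_congr rfl fun x hx => ?_
    rw [mem_Psi, mem_PF] at hx
    exact (X_comm' R h2 hx.1.1).1
  rw [h4]
  refine Nat.pow_le_pow_right (by norm_num) ?_
  -- pairs
  have hpair : ∀ x ∈ Psi (PF cs h) X g Ab c', ∀ y ∈ Psi (PF cs h) X g Ab c', cpr cs h x y ≠ -1 := by
    intro x hx y hy h5
    rw [mem_Psi, mem_PF] at hx hy
    obtain ⟨hx, -, u, hu, hu1, hu2⟩ := hx
    obtain ⟨hy, -, u', hu', hu1', hu2'⟩ := hy
    obtain ⟨b, hb, w, hw, rfl⟩ := C.exists_mul (mem_PF.2 hx) hu1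
    obtain ⟨d, hd, w', hw', rfl⟩ := C.exists_mul (mem_PF.2 hy) hu1'
    have hb1 : b ≠ 1 := by
      rintro rfl
      rw [one_mul] at hu2
      exact hu2 hw
    have hd1 : d ≠ 1 := by
      rintro rfl
      rw [one_mul] at hu2'
      exact hu2' hw'
    refine comm_not_mem R hs fn hx hy h5 hb hb1 hd hd1 ?_
    rw [fn.add x hx y hy]
    refine C.comm_lead (le_U (mem_PF.2 hx) le_rfl hb) (le_U (mem_PF.2 hy) le_rfl hd) hw hw' ?_
    rw [commutatorElement_eq_one_iff_mul_comm.2 (hc _ hu _ hu')]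
    exact one_mem _
  have hrep : ∀ x : Psi (PF cs h) X g Ab c', ∃ r ∈ reps.toFinset, (x : Fin k → ℤ) = r ∨ (x : Fin k → ℤ) + r = θ := by
    rintro ⟨x, hx⟩
    have hx' := hx
    rw [mem_Psi, mem_PF] at hx'
    have h5 := hno x hx'.1 hx'.2.2
    obtain ⟨j, hj, hj0⟩ := h5.2.2
    obtain ⟨r, hr, h6⟩ := E.reps x (hL hx'.1) ⟨j, fun h0 => hj (Finset.mem_coe.2 h0), hj0⟩
    exact ⟨r, List.mem_toFinset.2 hr, h6⟩
  choose f hf hf' using hrep
  have h5 : (Psi (PF cs h) X g Ab c').card ≤ reps.toFinset.card := by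
    rw [← Finset.card_attach]
    refine Finset.card_le_card_of_injOn f (fun x _ => hf x) ?_
    intro x _ y _ hxy
    have hxm := (mem_Psi.1 x.2).1
    have hym := (mem_Psi.1 y.2).1
    rw [mem_PF] at hxm hym
    have key : ∀ x y : Psi (PF cs h) X g Ab c', (x : Fin k → ℤ) + y ≠ θ := by
      intro x y h6
      have hxm := (mem_Psi.1 x.2).1
      have hym := (mem_Psi.1 y.2).1
      rw [mem_PF] at hxm hym
      exact hpair _ x.2 _ y.2 (cpr_of_add hs hxm hym (by rw [h6]; exact hθr))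
    rcases hf' x with h6 | h6 <;> rcases hf' y with h7 | h7
    · exact Subtype.ext (by rw [h6, h7, hxy])
    · exfalso
      rw [← hxy, ← h6, add_comm] at h7
      exact key x y h7
    · exfalso
      rw [hxy, ← h7] at h6
      exact key x y h6
    · exact Subtype.ext (by
        rw [hxy] at h6
        exact add_right_cancel (h6.trans h7.symm))
  exact h5.trans (List.toFinset_card_le _)

end Abs

end Cfsg.Agent.Omega.EH3Close.LocSL
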