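import Cfsg.Agent.Omega.EH3.Basic

/-!
# EH3 END: an involution `c` with `|[V, c]| = 4`, part 1 (the configuration) (helper227)

`c² = 1`, `c` fixes `a`, `|[V, c]| = 4`:

* `exists_e` : `|[D, c]| ≤ 2`;
* `comm_eq` : the commutators `⁅c, x⁆ ≠ 1`, `x ∈ X`, are equal;
* `not_mem_X` : `c ∉ X` unless `c = 1`.
-/

set_option autoImplicit false

namespace Cfsg.Agent.Omega.EH3Close.NoFourCfg

open Cfsg.Agent.Omega.EH3
open scoped commutatorElement

variable {H V : Type*} [Group H] [AddCommGroup V] [Module (ZMod 2) V]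
  {ρ : H →* (V ≃ₗ[ZMod 2] V)} {b : LinearMap.BilinForm (ZMod 2) V} {q : V → ZMod 2}
  {a : V} {D : Submodule (ZMod 2) V} {X : Subgroup H} {w : ℕ}

theorem mem_four {W : Submodule (ZMod 2) V} [Finite V] (hW : Nat.card W = 4) (hs : ∀ v : V, v + v = 0) {e f : V}
    (he : e ∈ W) (hf : f ∈ W) (he0 : e ≠ 0) (hf0 : f ≠ 0) (hef : e ≠ f) {x : V} (hx : x ∈ W) :
    x = 0 ∨ x = e ∨ x = f ∨ x = e + f := by
  classical
  by_contra hcon
  push Not at hcon
  obtain ⟨h0, h1, h2, h3⟩ := hcon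
  have hef0 : e + f ≠ 0 := by
    intro h
    apply hef
    have : e + f + f = f := by rw [h, zero_add]
    rwa [add_assoc, hs, add_zero] at this
  have hee : e + f ≠ e := fun h => hf0 (add_eq_left.1 h)
  have hff : e + f ≠ f := fun h => he0 (add_eq_right.1 h)
  let S : Finset V := {0, e, f, e + f, x}
  have hS : S.card = 5 := by
    rw [Finset.card_insert_of_notMem, Finset.card_insert_of_notMem, Finset.card_insert_of_notMem,
      Finset.card_insert_of_notMem, Finset.card_singleton]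
    · rw [Finset.mem_singleton]; exact fun h => h3 h.symm
    · simp only [Finset.mem_insert, Finset.mem_singleton, not_or]
      exact ⟨fun h => hff h.symm, fun h => h2 h.symm⟩
    · simp only [Finset.mem_insert, Finset.mem_singleton, not_or]
      exact ⟨hef, fun h => hee h.symm, fun h => h1 h.symm⟩
    · simp only [Finset.mem_insert, Finset.mem_singleton, not_or]
      exact ⟨fun h => he0 h.symm, fun h => hf0 h.symm, fun h => hef0 h.symm, fun h => h0 h.symm⟩
  have h4 : (S : Set V) ⊆ (W : Set V) := by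
    intro y hy
    simp only [S, Finset.coe_insert, Finset.coe_singleton, Set.mem_insert_iff, Set.mem_singleton_iff] at hy
    rcases hy with rfl | rfl | rfl | rfl | rfl
    · exact W.zero_mem
    · exact he
    · exact hf
    · exact W.add_mem he hf
    · exact hx
  have h5 := Set.ncard_le_ncard h4 (Set.toFinite _)
  rw [Set.ncard_coe_finset, hS] at h5
  have h6 : (W : Set V).ncard = 4 := by
    rw [← hW]; rfl
  omega

variable (C : Cfg ρ b q a D X w) {c : H} (hc : c * c = 1) {W : Submodule (ZMod 2) V}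
  (hW : ∀ x, x ∈ W ↔ ∃ u, ρ c u + u = x) (h4 : Nat.card W = 4)

include C

theorem faithful {x : H} (hx : x ∈ X) (h : ∀ d ∈ D, ρ x d = d) : x = 1 := by
  obtain ⟨v, hv⟩ := C.exists_off
  refine C.X_semi x hx v hv (C.perp_D fun d hd => ?_)
  rw [C.b_comm, map_add, LinearMap.add_apply]
  have h1 : b (ρ x v) d = b v d := by
    nth_rewrite 1 [← h d hd]
    exact C.b_inv x v d
  rw [h1]
  exact CharTwo.add_self_eq_zero _

include hc hW h4

theorem le_D {e f : V} (he : e ∈ W) (hf : f ∈ W) (heD : e ∈ D) (hfD : f ∈ D) (he0 : e ≠ 0) (hf0 : f ≠ 0)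
    (hef : e ≠ f) : W ≤ D := by
  have := C.finite_V
  intro x hx
  rcases mem_four h4 C.add_self he hf he0 hf0 hef hx with rfl | rfl | rfl | rfl
  · exact D.zero_mem
  · exact heD
  · exact hfD
  · exact D.add_mem heD hfD

/-- `|[D, c]| ≤ 2` -/
theorem exists_e (hca : ρ c a = a) : ∃ e ∈ D, ∀ d ∈ D, ρ c d + d = 0 ∨ ρ c d + d = e := by
  by_cases h : ∀ d ∈ D, ρ c d + d = 0
  · exact ⟨0, D.zero_mem, fun d hd => Or.inl (h d hd)⟩
  · push Not at h
    obtain ⟨d, hd, hd0⟩ := h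
    refine ⟨ρ c d + d, D.add_mem (C.D_inv c hca d hd) hd, fun d' hd' => ?_⟩
    by_contra hcon
    push Not at hcon
    have hWD : W ≤ D := le_D C hc hW h4 ((hW _).2 ⟨d, rfl⟩) ((hW _).2 ⟨d', rfl⟩)
      (D.add_mem (C.D_inv c hca d hd) hd) (D.add_mem (C.D_inv c hca d' hd') hd') hd0 hcon.1 (fun h => hcon.2 h.symm)
    apply hd0
    apply C.nondeg
    intro v
    have h1 : b (ρ c v + v) d = 0 := C.b_D (hWD ((hW _).2 ⟨v, rfl⟩)) hd
    have h2 : b (ρ c v) d = b v (ρ c d) := by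
      have h3 := C.b_inv c v (ρ c d)
      rw [← C.ρ_mul, hc, C.ρ_one] at h3
      exact h3
    rw [C.b_comm, map_add, ← h2]
    rw [map_add, LinearMap.add_apply] at h1
    exact h1

/-- `c ∉ X` -/
theorem not_mem_X (hc1 : c ≠ 1) : c ∉ X := by
  intro hcX
  have h1 : ∃ d ∈ D, ρ c d ≠ d := by
    by_contra hcon
    push Not at hcon
    exact hc1 (faithful C hcX hcon)
  obtain ⟨d, hd, hd1⟩ := h1
  have h2 : ρ c d + d = a := by
    rcases C.X_D c hcX d hd with h | h
    · exact absurd h hd1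
    · rw [h, add_comm, ← add_assoc, C.add_self, zero_add]
  obtain ⟨v, hv, hv0, hva⟩ := C.X_T c hcX hc1
  have hWD := le_D C hc hW h4 ((hW a).2 ⟨d, h2⟩) ((hW _).2 ⟨v, rfl⟩) C.a_mem (C.X_perp c hcX v hv) C.a_ne hv0
    (fun h => hva h.symm)
  obtain ⟨u, hu⟩ := C.exists_off
  exact hc1 (C.X_semi c hcX u hu (hWD ((hW _).2 ⟨u, rfl⟩)))

/-- the commutators with `X` -/
theorem comm_eq (hca : ρ c a = a) {x y : H} (hx : x ∈ X) (hy : y ∈ X) (hx1 : ⁅c, x⁆ ≠ 1) (hy1 : ⁅c, y⁆ ≠ 1) :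
    ⁅c, x⁆ = ⁅c, y⁆ := by
  obtain ⟨e, heD, he⟩ := exists_e C hc hW h4 hca
  have hci : c⁻¹ = c := inv_eq_of_mul_eq_one_left hc
  -- elements fixing `e` commute with `c`
  have key : ∀ z ∈ X, ρ z e = e → ⁅c, z⁆ = 1 := by
    intro z hz hze
    have hm : c * z * c⁻¹ * z⁻¹ ∈ X := mul_mem (C.X_norm c hca z hz) (inv_mem hz)
    rw [commutatorElement_def]
    refine faithful C hm fun d hd => ?_
    have h0 : ∀ d ∈ D, ρ (c * z * c⁻¹) d = ρ z d := by
      intro d hd
      rw [hci, C.ρ_mul, C.ρ_mul]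
      have h1 : ρ c d = d + (ρ c d + d) := by rw [add_left_comm, C.add_self, add_zero]
      have h2 : ρ z (ρ c d + d) = ρ c d + d := by
        rcases he d hd with h | h
        · rw [h, map_zero]
        · rw [h, hze]
      have h3 : ρ z (ρ c d) = ρ z d + (ρ c d + d) := by
        nth_rewrite 1 [h1]
        rw [map_add, h2]
      rw [h3]
      have h5 : ρ c (ρ c d) = d := by rw [← C.ρ_mul, hc, C.ρ_one]
      rcases C.X_D z hz d hd with h4 | h4
      · rw [h4, map_add, map_add, h5, add_comm (ρ c d) (d + ρ c d), add_assoc, C.add_self, add_zero]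
      · rw [h4, map_add, map_add, map_add, h5, hca]
        have : ρ c d + a + (d + ρ c d) = (ρ c d + ρ c d) + (d + a) := by abel
        rw [this, C.add_self, zero_add]
    have hz' : z⁻¹ = z := C.X_inv hz
    rw [C.ρ_mul, h0 _ (by rw [hz']; exact C.X_mem_D hz hd), ← C.ρ_mul, mul_inv_cancel, C.ρ_one]
  have hxe : ρ x e = e + a := (C.X_D x hx e heD).resolve_left fun h => hx1 (key x hx h)
  have hye : ρ y e = e + a := (C.X_D y hy e heD).resolve_left fun h => hy1 (key y hy h)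
  have h1 : ⁅c, x * y⁆ = 1 := by
    refine key _ (mul_mem hx hy) ?_
    rw [C.ρ_mul, hye, map_add, hxe, C.X_a hx, add_assoc, C.add_self, add_zero]
  have hcx : ⁅c, x⁆ ∈ X := by
    rw [commutatorElement_def]; exact mul_mem (C.X_norm c hca x hx) (inv_mem hx)
  have hcy : ⁅c, y⁆ ∈ X := by
    rw [commutatorElement_def]; exact mul_mem (C.X_norm c hca y hy) (inv_mem hy)
  have h2 : ⁅c, x * y⁆ = ⁅c, x⁆ * (x * ⁅c, y⁆ * x⁻¹) := by
    simp only [commutatorElement_def]; group
  have h3 : x * ⁅c, y⁆ * x⁻¹ = ⁅c, y⁆ := by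
    rw [C.X_comm hx hcy, mul_inv_cancel_right]
  rw [h2, h3] at h1
  rw [← C.X_inv hcy]
  exact eq_inv_of_mul_eq_one_left h1

end Cfsg.Agent.Omega.EH3Close.NoFourCfg
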