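import Cfsg.Agent.Omega.ThmID.Lift
import Cfsg.Agent.ParSys.Words
import Cfsg.Agent.ParSys.Fam.Rgd
import Cfsg.Agent.Nodes.NormalForm

/-!
# A root group datum is a system of minimal parabolic subgroups (`ThmID.XSys`)

`R : RGD cs h 2 T n X`, `GG cs h T X = ⊤`, `Y` and `W` finite:
`xsys : XSys U B (fun j => P_j) (M i j) (fun j => |X_j|)`, `U = Sup X Pos`, `B = T U`, `P_j = PJ cs h T X {j}`.
-/

set_option autoImplicit false
set_option linter.unusedSectionVars false

namespace Cfsg.Agent.Omega.EH3Close.OfRGD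

open CoxeterSystem Cfsg.Agent.ChevalleyStructure.CoxeterGeom Cfsg.Agent.Tits.Roots Cfsg.Agent.Tits.Core
  Cfsg.Agent.Tits.RootComb Cfsg.Agent.Nodes.Comb Cfsg.Agent.Nodes.Reps Cfsg.Agent.Nodes.BNOf
  Cfsg.Agent.Nodes.StabComb Cfsg.Agent.Nodes.Bruhat Cfsg.Agent.Nodes.LeviDec Cfsg.Agent.Nodes.NormalForm
  Cfsg.Agent.ParSys Cfsg.Agent.Omega.ThmID

variable {I W Y : Type*} [Fintype I] [DecidableEq I] [Group W] [Group Y] {M : CoxeterMatrix I}
  {cs : CoxeterSystem M W} {A : I → I → ℤ} {h : IsCartan M A} {p : ℕ} {T : Subgroup Y} {n : I → Y}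
  {X : (I → ℤ) → Subgroup Y}

theorem mem_WJ_single {w : W} {j : I} : w ∈ WJ cs {j} ↔ w = 1 ∨ w = cs.simple j := by
  unfold WJ
  rw [Set.image_singleton, ← Subgroup.zpowers_eq_closure]
  constructor
  · intro hw
    obtain ⟨k, rfl⟩ := Subgroup.mem_zpowers_iff.1 hw
    have h2 : cs.simple j ^ (2 : ℤ) = 1 := by
      rw [zpow_ofNat, pow_two, cs.simple_mul_simple_self]
    rcases Int.even_or_odd' k with ⟨m, rfl | rfl⟩
    · left; rw [zpow_mul, h2, one_zpow]
    · right; rw [zpow_add, zpow_mul, h2, one_zpow, one_mul, zpow_one]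
  · rintro (rfl | rfl)
    · exact one_mem _
    · exact Subgroup.mem_zpowers _

section

variable (R : RGD cs h p T n X) [Finite W]

include R

/-- the elements of `P_j` outside `B` are the elements of the cell of `s_j` -/
theorem cell_of_mem {j : I} {g : Y} (hg : g ∈ PJ cs h T X {j}) (hgB : g ∉ RGD.B cs h T X) :
    Cell R.nsys cs h X (cs.simple j) g := by
  obtain ⟨w, hw, hc⟩ := (mem_PJ_iff_cell R).1 hg
  rcases mem_WJ_single.1 hw with rfl | rfl
  · exact absurd hc.mem_of_one hgB
  · exact hc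

theorem mem_PJ_of_cell {j : I} {g : Y} (hc : Cell R.nsys cs h X (cs.simple j) g) : g ∈ PJ cs h T X {j} :=
  (mem_PJ_iff_cell R).2 ⟨_, mem_WJ_single.2 (Or.inr rfl), hc⟩

theorem n_mem (j : I) : n j ∈ PJ cs h T X {j} := mem_PJ_of_cell R (cell_of_rp (rp_simple cs R.nsys j))

theorem n_not_mem (j : I) : n j ∉ RGD.B cs h T X := by
  intro hB
  have h1 := Cell.unique R (cell_of_rp (rp_simple cs R.nsys j)) (cell_one_of_mem hB)
  have h5 := rep_simple_sr cs h j
  rw [h1, map_one, Module.End.one_apply] at h5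
  have h6 := congrFun h5 j
  rw [Pi.neg_apply, sr_self] at h6
  exact absurd h6 (by decide)

/-- galleries of reduced type -/
theorem gal_cell {f : List I} (hf : cs.IsReduced f) {l : List Y}
    (hl : GalE (RGD.B cs h T X) (fun j => PJ cs h T X {j}) f l) : Cell R.nsys cs h X (cs.wordProd f) l.prod := by
  induction f generalizing l with
  | nil =>
    cases l with
    | nil => rw [cs.wordProd_nil, List.prod_nil]; exact cell_one_of_mem (one_mem _)
    | cons x l => exact hl.elim
  | cons i f ih =>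
    cases l with
    | nil => exact hl.elim
    | cons x l =>
      have hf' : cs.IsReduced f := by
        have := hf.drop 1
        simpa using this
      rw [cs.wordProd_cons, List.prod_cons]
      refine Cell.mul_of_length R ?_ (cell_of_mem R hl.1.1 hl.1.2) (ih hf' hl.2)
      rw [← cs.wordProd_cons, hf.eq, cs.length_simple, hf'.eq, List.length_cons, add_comm]

theorem gal_uniq {f : List I} (hf : cs.IsReduced f) {l l' : List Y}
    (hl : GalE (RGD.B cs h T X) (fun j => PJ cs h T X {j}) f l)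
    (hl' : GalE (RGD.B cs h T X) (fun j => PJ cs h T X {j}) f l') {z w : Y} (hzw : z⁻¹ * w ∈ RGD.B cs h T X)
    (hend : (z * l.prod)⁻¹ * (w * l'.prod) ∈ RGD.B cs h T X) : Same (RGD.B cs h T X) z w l l' := by
  induction f generalizing l l' z w with
  | nil =>
    cases l with
    | nil =>
      cases l' with
      | nil => exact hzw
      | cons x l => exact hl'.elim
    | cons x l => exact hl.elim
  | cons i f ih =>
    cases l with
    | nil => exact hl.elim
    | cons x l =>
      cases l' with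
      | nil => exact hl'.elim
      | cons x' l' =>
        have hf' : cs.IsReduced f := by
          have := hf.drop 1
          simpa using this
        refine ⟨hzw, ih hf' hl.2 hl'.2 ?_ ?_⟩
        · by_contra hy
          have hyP : (z * x)⁻¹ * (w * x') ∈ PJ cs h T X {i} := by
            have e : (z * x)⁻¹ * (w * x') = x⁻¹ * (z⁻¹ * w) * x' := by group
            rw [e]
            exact mul_mem (mul_mem (inv_mem hl.1.1) (B_le_PJ hzw)) hl'.1.1
          have h1 := gal_cell R hf
            (show GalE (RGD.B cs h T X) (fun j => PJ cs h T X {j}) (i :: f) ((z * x)⁻¹ * (w * x') :: l') from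
              ⟨⟨hyP, hy⟩, hl'.2⟩)
          have h2 := gal_cell R hf' hl.2
          have h3 : Cell R.nsys cs h X (cs.wordProd f) ((z * x)⁻¹ * (w * x') :: l').prod := by
            have h4 := h2.mul_right hend
            have e : l.prod * ((z * (x :: l).prod)⁻¹ * (w * (x' :: l').prod)) =
                ((z * x)⁻¹ * (w * x') :: l').prod := by
              simp only [List.prod_cons]; group
            rwa [e] at h4
          have h5 := Cell.unique R h1 h3
          have h6 := congrArg cs.length h5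
          rw [hf.eq, hf'.eq, List.length_cons] at h6
          omega
        · have e : (z * x * l.prod)⁻¹ * (w * x' * l'.prod) =
              (z * (x :: l).prod)⁻¹ * (w * (x' :: l').prod) := by
            simp only [List.prod_cons, mul_assoc]
          rw [e]; exact hend

theorem gal_trans {f : List I} (hf : cs.IsReduced f) {l l' : List Y}
    (hl : GalE (RGD.B cs h T X) (fun j => PJ cs h T X {j}) f l)
    (hl' : GalE (RGD.B cs h T X) (fun j => PJ cs h T X {j}) f l') :
    ∃ y ∈ RGD.B cs h T X, Same (RGD.B cs h T X) y 1 l l' := by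
  obtain ⟨c, hc, k, hk, d, hd, h1⟩ := gal_cell R hf hl
  obtain ⟨c', hc', k', hk', d', hd', h2⟩ := gal_cell R hf hl'
  refine ⟨c' * c⁻¹, mul_mem hc' (inv_mem hc), gal_uniq R hf hl hl' ?_ ?_⟩
  · simpa using inv_mem (mul_mem hc' (inv_mem hc))
  · have e : (c' * c⁻¹ * l.prod)⁻¹ * (1 * l'.prod) = d⁻¹ * (k⁻¹ * k') * d' := by rw [h1, h2]; group
    rw [e]
    exact mul_mem (mul_mem (inv_mem hd) (RGD.T_le_B (hk.unique hk'))) hd'

theorem galE_std (f : List I) : GalE (RGD.B cs h T X) (fun j => PJ cs h T X {j}) f (f.map n) := by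
  induction f with
  | nil => trivial
  | cons i f ih => exact ⟨⟨n_mem R i, n_not_mem R i⟩, ih⟩

theorem rp_map (f : List I) : Rp cs R.nsys (cs.wordProd f) (f.map n).prod := by
  induction f with
  | nil => rw [cs.wordProd_nil]; exact rp_one
  | cons i f ih => rw [cs.wordProd_cons, List.map_cons, List.prod_cons]; exact (rp_simple cs R.nsys i).mul ih

/-- **the residues are generalised polygons** -/
theorem polygon (i j : I) :
    Polygon (RGD.B cs h T X) (fun j => PJ cs h T X {j}) i j (M i j) := by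
  have r1 : cs.IsReduced (alt i j (M i j)) := Words.isReduced_alt cs fun _ => le_rfl
  have r2 : cs.IsReduced (alt j i (M i j)) := Words.isReduced_alt cs fun _ => by rw [M.symmetric j i]
  have hw : cs.wordProd (alt i j (M i j)) = cs.wordProd (alt j i (M i j)) := by
    have e7 := (LieExceptional.CoxeterExchange.pow_eq_one_iff (σ := cs.simple) cs.simple_mul_simple_self (x := i) (y := j)
      (M i j)).1 (cs.simple_mul_simple_pow i j)
    rw [Words.alt_eq, Words.alt_eq] at e7
    exact e7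
  refine ⟨fun l l' hl hl' he => gal_uniq R r1 hl hl' (by simp [one_mem]) (by simpa using he),
    fun l l' hl hl' he => gal_uniq R r2 hl hl' (by simp [one_mem]) (by simpa using he),
    ⟨_, _, galE_std R _, galE_std R _, ?_⟩, fun l l' hl hl' => gal_trans R r1 hl hl',
    fun l l' hl hl' => gal_trans R r2 hl hl'⟩
  have h1 := rp_map R (alt i j (M i j))
  have h2 := rp_map R (alt j i (M i j))
  rw [hw] at h1
  exact RGD.T_le_B (h1.unique h2)

/-! ### panels -/

/-- an element of `P_j` outside `B` is `u n_j b`, `u ∈ X_j` -/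
theorem exists_form {j : I} {g : Y} (hg : g ∈ PJ cs h T X {j}) (hgB : g ∉ RGD.B cs h T X) :
    ∃ u ∈ X (sr j), ∃ b ∈ RGD.B cs h T X, g = u * n j * b := by
  obtain ⟨b₁, hb₁, k, hk, b₂, hb₂, rfl⟩ := cell_of_mem R hg hgB
  obtain ⟨v, hv, u, hu, t, ht, rfl⟩ := R.mem_B' j hb₁
  have hk1 : (n j)⁻¹ * k ∈ T := (rp_simple cs R.nsys j).unique hk
  have hV : ∀ v ∈ RGD.Sup X (RGD.PosNe cs h j), (n j)⁻¹ * v * n j ∈ RGD.B cs h T X := fun v hv =>
    ParSys.Fam.V_conj_mem_B R j hv
  -- `v u = u v'`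
  have h1 : u⁻¹ * v * u ∈ RGD.Sup X (RGD.PosNe cs h j) := by
    have h2 := R.X_le_normalizer_V j (inv_mem hu)
    have h3 := (Subgroup.mem_normalizer_iff.1 h2 v).1 hv
    rwa [inv_inv] at h3
  have ht' : (n j)⁻¹ * t * n j ∈ T := by
    have h2 := (Subgroup.mem_normalizer_iff.1 (inv_mem (R.nsys.norm j)) t).1 ht
    rwa [inv_inv] at h2
  refine ⟨u, hu, ((n j)⁻¹ * (u⁻¹ * v * u) * n j) * (((n j)⁻¹ * t * n j) * ((n j)⁻¹ * k)) * b₂,
    mul_mem (mul_mem (hV _ h1) (RGD.T_le_B (mul_mem ht' hk1))) hb₂, ?_⟩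
  group

/-- an element of `U` which fixes a second chamber of the panel -/
theorem mem_V_of_conj {j : I} {g u : Y} (hg : g ∈ RGD.Sup X (RGD.Pos cs h)) (hu : u ∈ X (sr j))
    (hB : (n j)⁻¹ * (u⁻¹ * g * u) * n j ∈ RGD.B cs h T X) : g ∈ RGD.Sup X (RGD.PosNe cs h j) := by
  have huU : u ∈ RGD.Sup X (RGD.Pos cs h) :=
    RGD.le_Sup (S := RGD.Pos cs h) ⟨isRoot_sr cs h j, sr_nonneg j⟩ hu
  obtain ⟨v, hv, c, hc, e⟩ := ParSys.Fam.exists_V_mul R j (mul_mem (mul_mem (inv_mem huU) hg) huU)
  have h1 : (n j)⁻¹ * c * (n j)⁻¹⁻¹ ∈ RGD.B cs h T X := by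
    have h2 := ParSys.Fam.V_conj_mem_B R j hv
    have e2 : (n j)⁻¹ * c * (n j)⁻¹⁻¹ = ((n j)⁻¹ * v * n j)⁻¹ * ((n j)⁻¹ * (u⁻¹ * g * u) * n j) := by
      rw [e]; group
    rw [e2]
    exact mul_mem (inv_mem h2) hB
  have h2 : Rp cs R.nsys (cs.simple j) (n j)⁻¹ := by
    have := (rp_simple cs R.nsys j).inv
    rwa [cs.inv_simple] at this
  have h3 := eq_one_of_conj_mem_B R hc h2 h1
  rw [h3, mul_one] at e
  have h4 := R.X_le_normalizer_V j hu
  have h5 := (Subgroup.mem_normalizer_iff.1 h4 (u⁻¹ * g * u)).1 (e ▸ hv)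
  have e3 : u * (u⁻¹ * g * u) * u⁻¹ = g := by group
  rwa [e3] at h5

theorem conj_mem_of_mem_V {j : I} {g : Y} (hg : g ∈ RGD.Sup X (RGD.PosNe cs h j)) {y : Y}
    (hy : y ∈ PJ cs h T X {j}) : y⁻¹ * g * y ∈ RGD.B cs h T X := by
  have hgB : g ∈ RGD.B cs h T X :=
    RGD.U_le_B (RGD.Sup_mono (S := RGD.PosNe cs h j) (S' := RGD.Pos cs h) (fun z hz => ⟨hz.1, hz.2.1⟩) hg)
  by_cases hyB : y ∈ RGD.B cs h T X
  · exact mul_mem (mul_mem (inv_mem hyB) hgB) hyB
  · obtain ⟨u, hu, b, hb, rfl⟩ := exists_form R hy hyB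
    have h1 : u⁻¹ * g * u ∈ RGD.Sup X (RGD.PosNe cs h j) := by
      have h2 := R.X_le_normalizer_V j (inv_mem hu)
      have h3 := (Subgroup.mem_normalizer_iff.1 h2 g).1 hg
      rwa [inv_inv] at h3
    have h2 := ParSys.Fam.V_conj_mem_B R j h1
    have e : (u * n j * b)⁻¹ * g * (u * n j * b) = b⁻¹ * ((n j)⁻¹ * (u⁻¹ * g * u) * n j) * b := by group
    rw [e]
    exact mul_mem (mul_mem (inv_mem hb) h2) hb

/-- the panel condition -/
theorem pan {j : I} {g : Y} (hg : g ∈ RGD.Sup X (RGD.Pos cs h)) {x : Y} (hx : x ∈ PJ cs h T X {j})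
    (hxB : x ∉ RGD.B cs h T X) (hgx : x⁻¹ * g * x ∈ RGD.B cs h T X) {y : Y} (hy : y ∈ PJ cs h T X {j}) :
    y⁻¹ * g * y ∈ RGD.B cs h T X := by
  obtain ⟨u, hu, b, hb, rfl⟩ := exists_form R hx hxB
  refine conj_mem_of_mem_V R (mem_V_of_conj R hg hu ?_) hy
  have h1 := mul_mem (mul_mem hb hgx) (inv_mem hb)
  have e : b * ((u * n j * b)⁻¹ * g * (u * n j * b)) * b⁻¹ = (n j)⁻¹ * (u⁻¹ * g * u) * n j := by group
  rwa [e] at h1

/-- the number of chambers of a panel -/
theorem relIndex_PJ [Finite Y] (j : I) :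
    (RGD.B cs h T X).relIndex (PJ cs h T X {j}) = Nat.card (X (sr j)) + 1 := by
  classical
  set B := RGD.B cs h T X with hB
  set P := PJ cs h T X {j} with hP
  have hBP : B ≤ P := B_le_PJ
  have hXB : X (sr j) ≤ B := RGD.X_le_B (isRoot_sr cs h j) (sr_nonneg j)
  let f : Option (X (sr j)) → P ⧸ B.subgroupOf P := fun o => match o with
    | none => ((1 : P) : P ⧸ B.subgroupOf P)
    | some u => ((⟨u * n j, mul_mem (hBP (hXB u.2)) (n_mem R j)⟩ : P) : P ⧸ B.subgroupOf P)
  have key : ∀ u ∈ X (sr j), ∀ u' ∈ X (sr j), (u * n j)⁻¹ * (u' * n j) ∈ B → u = u' := by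
    intro u hu u' hu' hm
    have h2 : Rp cs R.nsys (cs.simple j) (n j)⁻¹ := by
      have := (rp_simple cs R.nsys j).inv
      rwa [cs.inv_simple] at this
    have h3 := eq_one_of_conj_mem_B R (mul_mem (inv_mem hu) hu') h2 (by
      have e : (n j)⁻¹ * (u⁻¹ * u') * (n j)⁻¹⁻¹ = (u * n j)⁻¹ * (u' * n j) := by group
      rw [e]; exact hm)
    exact (inv_mul_eq_one.1 h3)
  have hf : Function.Bijective f := by
    constructor
    · intro o o' e
      cases o with
      | none =>
        cases o' with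
        | none => rfl
        | some u' =>
          exfalso
          have e' : ((1 : P) : P ⧸ B.subgroupOf P) =
            ((⟨u' * n j, mul_mem (hBP (hXB u'.2)) (n_mem R j)⟩ : P) : P ⧸ B.subgroupOf P) := e
          rw [QuotientGroup.eq, Subgroup.mem_subgroupOf] at e'
          have e2 : (1 : Y)⁻¹ * (u' * n j) ∈ B := e'
          rw [inv_one, one_mul] at e2
          have := mul_mem (inv_mem (hXB u'.2)) e2
          rw [inv_mul_cancel_left] at this
          exact n_not_mem R j this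
      | some u =>
        cases o' with
        | none =>
          exfalso
          have e' : ((⟨u * n j, mul_mem (hBP (hXB u.2)) (n_mem R j)⟩ : P) : P ⧸ B.subgroupOf P) =
            ((1 : P) : P ⧸ B.subgroupOf P) := e
          have e' := e'.symm
          rw [QuotientGroup.eq, Subgroup.mem_subgroupOf] at e'
          have e2 : (1 : Y)⁻¹ * (u * n j) ∈ B := e'
          rw [inv_one, one_mul] at e2
          have := mul_mem (inv_mem (hXB u.2)) e2
          rw [inv_mul_cancel_left] at this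
          exact n_not_mem R j this
        | some u' =>
          have e' : ((⟨u * n j, mul_mem (hBP (hXB u.2)) (n_mem R j)⟩ : P) : P ⧸ B.subgroupOf P) =
            ((⟨u' * n j, mul_mem (hBP (hXB u'.2)) (n_mem R j)⟩ : P) : P ⧸ B.subgroupOf P) := e
          rw [QuotientGroup.eq, Subgroup.mem_subgroupOf] at e'
          have e2 : ((u : Y) * n j)⁻¹ * (u' * n j) ∈ B := e'
          exact congrArg some (Subtype.ext (key _ u.2 _ u'.2 e2))
    · intro c
      induction c using QuotientGroup.induction_on with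
      | _ x =>
      by_cases hx : (x : Y) ∈ B
      · refine ⟨none, ?_⟩
        show ((1 : P) : P ⧸ B.subgroupOf P) = _
        rw [QuotientGroup.eq, Subgroup.mem_subgroupOf]
        show (1 : Y)⁻¹ * x ∈ B
        rwa [inv_one, one_mul]
      · obtain ⟨u, hu, b, hb, e⟩ := exists_form R x.2 hx
        refine ⟨some ⟨u, hu⟩, ?_⟩
        show ((⟨u * n j, mul_mem (hBP (hXB hu)) (n_mem R j)⟩ : P) : P ⧸ B.subgroupOf P) = _
        rw [QuotientGroup.eq, Subgroup.mem_subgroupOf]
        show (u * n j)⁻¹ * (x : Y) ∈ B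
        rw [e]
        have e2 : (u * n j)⁻¹ * (u * n j * b) = b := by group
        rw [e2]; exact hb
  have h1 := Nat.card_congr (Equiv.ofBijective f hf)
  rw [Finite.card_option] at h1
  show Nat.card (P ⧸ B.subgroupOf P) = _
  exact h1.symm

/-- generation -/
theorem gen_top (hG : GG cs h T X = ⊤) : RGD.B cs h T X ⊔ ⨆ j, PJ cs h T X {j} = ⊤ := by
  rw [eq_top_iff, ← hG]
  set K := RGD.B cs h T X ⊔ ⨆ j, PJ cs h T X {j} with hK
  have hB : RGD.B cs h T X ≤ K := le_sup_left
  have hP : ∀ j, PJ cs h T X {j} ≤ K := fun j => le_trans (le_iSup (fun j => PJ cs h T X {j}) j) le_sup_right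
  intro g hg
  obtain ⟨w, b₁, hb₁, k, hk, b₂, hb₂, rfl⟩ := (mem_GG R).1 hg
  refine mul_mem (mul_mem (hB hb₁) ?_) (hB hb₂)
  obtain ⟨f, rfl⟩ := cs.wordProd_surjective w
  have h1 : (f.map n).prod ∈ K := by
    refine list_prod_mem ?_
    intro x hx
    obtain ⟨i, -, rfl⟩ := List.mem_map.1 hx
    exact hP i (n_mem R i)
  have h2 := mul_mem h1 (hB (RGD.T_le_B ((rp_map R f).unique hk)))
  rwa [mul_inv_cancel_left] at h2

end

/-- **A root group datum is a system of minimal parabolic subgroups.** -/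
theorem xsys [Finite W] [Finite Y] (R : RGD cs h 2 T n X) (hG : GG cs h T X = ⊤) :
    XSys (RGD.Sup X (RGD.Pos cs h)) (RGD.B cs h T X) (fun j => PJ cs h T X {j}) (fun i j => M i j)
      (fun j => Nat.card (X (sr j))) where
  two := R.isPGroup_Upos
  max U hU hTU := (eq_U_of_isPGroup R hU hTU (by rw [hG]; exact le_top)).le
  mem_B x := by
    have h1 := normalizer_U R
    rw [hG, inf_top_eq] at h1
    rw [← h1]
    constructor
    · intro hx t ht
      exact (Subgroup.mem_normalizer_iff.1 hx t).1 ht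
    · intro hx
      exact mem_normalizer_of hx
  BP j := B_le_PJ
  gen := gen_top R hG
  pol i j _ := polygon R i j
  card j := relIndex_PJ R j
  pan j g hg x hx hxB hgx y hy := pan R hg hx hxB hgx hy

end Cfsg.Agent.Omega.EH3Close.OfRGD
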