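import Cfsg.Agent.Omega.EH3Close.RootChk
import Cfsg.Agent.Omega.EH3Close.RgdLead
import Cfsg.Agent.Omega.EH3Close.Gram

/-!
# The quadratic bound in type `E₆`, `E₇`, `E₈` over `F₂` (helper805)

`RGD cs h 2 T n X` of type `E_n`, root groups of order 2, `o` the node joined to the affine node,
`Q = ⟨X x : x > 0, x o ≥ 1⟩`: an abelian subgroup `V ≤ U` normalised by `Q` has `|V : V ∩ Q| ≤ 2^5, 2^10, 2^7`.
-/

set_option autoImplicit false
set_option linter.unusedSectionVars false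

namespace Cfsg.Agent.Omega.EH3Close.QB

open CoxeterSystem Cfsg.Agent.ChevalleyStructure.CoxeterGeom Cfsg.Agent.Tits.Roots Cfsg.Agent.Tits.Core
  Cfsg.Agent.Nodes.Reps Cfsg.Agent.Nodes.BNOf Cfsg.Agent.Nodes.PosPair Cfsg.Agent.Nodes.Coroot
  Cfsg.Agent.KFacts.RgdSL Cfsg.Agent.Omega.EH3Close.LeadU Cfsg.Agent.Omega.EH3Close.RgdLead
  Cfsg.Agent.Omega.EH3Close.RootTab Cfsg.Agent.Omega.EH3Close.Gram RootData

variable {I W Y : Type*} [Fintype I] [DecidableEq I] [Group W] [Group Y] {M : CoxeterMatrix I}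
  {cs : CoxeterSystem M W} {A : I → I → ℤ} {h : IsCartan M A} {p : ℕ} {T : Subgroup Y} {n : I → Y}
  {X : (I → ℤ) → Subgroup Y}

/-- `Q = ⟨X x : x > 0, x o ≥ 1⟩` -/
def Qo (cs : CoxeterSystem M W) (h : IsCartan M A) (X : (I → ℤ) → Subgroup Y) (o : I) : Subgroup Y :=
  RGD.Sup X {x | x ∈ RGD.Pos cs h ∧ 1 ≤ x o}

/-! ### The combinatorial input from the tables -/

section Tab

variable {ν : ℕ} {e : I ≃ Fin ν} {N L P : List (List ℕ)} {Tb : List (List ℕ × List ℕ × ℕ)} {o : I}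

structure Chk (e : I ≃ Fin ν) (M : CoxeterMatrix I) (N L P : List (List ℕ)) (Tb : List (List ℕ × List ℕ × ℕ))
    (o : I) : Prop where
  ty : Ty M e N
  len : lenChk ν L = true
  closed : closedChk ν N L = true
  desc : descChk ν N L = true
  mask : maskChk N P Tb = true
  split : splitChk (e o) L P Tb = true
  sub : subChk (e o) L P = true
  lt : ltChk P Tb = true

theorem vc_o (l : List ℕ) : vc e l o = (l.getD (e o) 0 : ℤ) := rfl

theorem Chk.exists_entry [Finite W] (k : Chk e M N L P Tb o) {x : I → ℤ} (hx : x ∈ RGD.Pos cs h) (ho : x o = 0) :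
    ∃ a ∈ Tb, a.1 ∈ L ∧ vc e a.1 = x := by
  obtain ⟨l, hl, rfl⟩ := complete k.ty k.len k.closed hx
  have h1 := k.split
  simp only [splitChk, List.all_eq_true] at h1
  have h2 := h1 l hl
  rw [vc_o] at ho
  have h3 : l.getD (e o) 0 = 0 := by exact_mod_cast ho
  rw [h3] at h2
  have h4 : ((Tb.map fun a => a.1).contains l) = true := h2
  rw [List.contains_iff_mem, List.mem_map] at h4
  obtain ⟨a, ha, rfl⟩ := h4
  exact ⟨a, ha, hl, rfl⟩

theorem isNeg_iff [Finite W] (t : Ty M e N) {x y : List ℕ} (hx : x.length = ν) (hy : y.length = ν)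
    (hyr : IsRoot cs h (vc e y)) : isNeg x y (nb N y) = true ↔ cpr cs h (vc e x) (vc e y) = -1 := by
  rw [t.cpr_vc hx hy hyr, isNeg, Nat.beq_eq]
  omega

theorem Chk.bad_of [Finite W] (k : Chk e M N L P Tb o) {a b : List ℕ × List ℕ × ℕ} (ha : a ∈ Tb) (haL : a.1 ∈ L)
    (hb : b ∈ Tb) (hbL : b.1 ∈ L) (h0 : cpr cs h (vc e a.1) (vc e b.1) = 0)
    (hμ : ∀ μ ∈ RGD.Pos cs h, 1 ≤ μ o → cpr cs h μ (vc e a.1) = -1 → cpr cs h μ (vc e b.1) ≠ -1) :
    bad a b = true := by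
  have hx : vc e a.1 ∈ RGD.Pos cs h := sound k.ty k.len k.desc haL
  have hy : vc e b.1 ∈ RGD.Pos cs h := sound k.ty k.len k.desc hbL
  have hlen := k.len
  simp only [lenChk, List.all_eq_true, beq_iff_eq] at hlen
  have hm := k.mask
  simp only [maskChk, List.all_eq_true, Bool.and_eq_true, beq_iff_eq, List.mem_range] at hm
  have hsub := k.sub
  simp only [subChk, List.all_eq_true, Bool.and_eq_true, List.contains_iff_mem, Nat.ble_eq] at hsub
  obtain ⟨ha1, ha2⟩ := hm a ha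
  obtain ⟨hb1, hb2⟩ := hm b hb
  rw [bad, Bool.and_eq_true]
  constructor
  · rw [k.ty.cpr_vc (hlen _ haL) (hlen _ hbL) hy.1, hb1] at h0
    rw [Nat.beq_eq]
    omega
  · rw [Nat.beq_eq]
    by_contra hne
    obtain ⟨j, hj⟩ := Nat.exists_testBit_of_ne_zero hne
    have hj' : (a.2.2.testBit j && b.2.2.testBit j) = true := by
      rw [← Nat.testBit_land]; exact hj
    rw [Bool.and_eq_true] at hj'
    by_cases hjP : j < P.length
    · have h1 := ha2 j hjP
      have h2 := hb2 j hjP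
      rw [hj'.1] at h1
      rw [hj'.2] at h2
      have h3 : P.getD j [] ∈ P := by
        rw [List.getD_eq_getElem _ _ hjP]
        exact List.getElem_mem hjP
      obtain ⟨h4, h5⟩ := hsub _ h3
      have h6 : vc e (P.getD j []) ∈ RGD.Pos cs h := sound k.ty k.len k.desc h4
      rw [← ha1] at h1
      rw [← hb1] at h2
      exact hμ _ h6 (by rw [vc_o]; exact_mod_cast h5)
        ((isNeg_iff k.ty (hlen _ h4) (hlen _ haL) hx.1).1 h1.symm)
        ((isNeg_iff k.ty (hlen _ h4) (hlen _ hbL) hy.1).1 h2.symm)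
    · have hlt := k.lt
      simp only [ltChk, List.all_eq_true, Nat.blt_eq] at hlt
      have h1 := Nat.testBit_lt_two_pow (lt_of_lt_of_le (hlt a ha) (Nat.pow_le_pow_right (by norm_num) (not_lt.1 hjP)))
      rw [hj'.1] at h1
      exact absurd h1 (by simp)

end Tab

/-! ### The bound -/

section Bound

variable [Finite W] (R : RGD cs h 2 T n X)

include R

theorem card_X (h2 : ∀ i, Nat.card (X (sr i)) = 2) {x : I → ℤ} (hx : IsRoot cs h x) : Nat.card (X x) = 2 := by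
  obtain ⟨w, i, rfl⟩ := hx
  obtain ⟨g, hg⟩ := exists_rp cs R.nsys w
  rw [← R.conj_rp hg (isRoot_sr cs h i), ← h2 i]
  exact (Nat.card_congr ((X (sr i)).equivMapOfInjective _ (MulAut.conj g).injective).toEquiv).symm

theorem X_comm (h2 : ∀ i, Nat.card (X (sr i)) = 2) {x : I → ℤ} (hx : IsRoot cs h x) :
    ∀ a ∈ X x, ∀ b ∈ X x, a * b = b * a := by
  have h3 := card_X R h2 hx
  have : IsCyclic (X x) := isCyclic_of_prime_card (p := 2) h3
  intro a ha b hb
  have h4 := IsCyclic.isMulCommutative (α := X x)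
  exact congrArg Subtype.val (h4.is_comm.comm (⟨a, ha⟩ : X x) ⟨b, hb⟩)

theorem X_ne (h2 : ∀ i, Nat.card (X (sr i)) = 2) {x : I → ℤ} (hx : IsRoot cs h x) : X x ≠ ⊥ := by
  intro h0
  have h3 := card_X R h2 hx
  rw [h0, Subgroup.card_bot] at h3
  omega

theorem U_eq_Qo {g : (I → ℤ) → ℕ} {c : ℕ} {o : I} (fn : Fn cs h g c o) : U (PF cs h) X g c = Qo cs h X o := by
  apply le_antisymm
  · refine U_le fun x hx hc => ?_
    rw [mem_PF] at hx
    exact RGD.le_Sup (S := {x | x ∈ RGD.Pos cs h ∧ 1 ≤ x o}) ⟨hx, (fn.cut x hx).1 hc⟩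
  · refine RGD.Sup_le ?_
    rintro x ⟨hx, hxo⟩
    exact le_U (mem_PF.2 hx) ((fn.cut x hx).2 hxo)

theorem U_zero_eq {g : (I → ℤ) → ℕ} : U (PF cs h) X g 0 = RGD.Sup X (RGD.Pos cs h) := by
  apply le_antisymm
  · exact U_le fun x hx _ => RGD.le_Sup (mem_PF.1 hx)
  · exact RGD.Sup_le fun x hx => le_U (mem_PF.2 hx) (Nat.zero_le _)

/-- the leading roots of an abelian subgroup normalised by `Q` -/
theorem exists_psi [Finite Y] (hs : SL cs h) (h2 : ∀ i, Nat.card (X (sr i)) = 2) (o : I) {V : Subgroup Y}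
    (hVU : V ≤ RGD.Sup X (RGD.Pos cs h)) (hV : ∀ a ∈ V, ∀ b ∈ V, a * b = b * a)
    (hn : ∀ q ∈ Qo cs h X o, ∀ v ∈ V, q * v * q⁻¹ ∈ V) :
    ∃ Ψ : Finset (I → ℤ), (∀ x ∈ Ψ, x ∈ RGD.Pos cs h ∧ x o = 0) ∧ (Qo cs h X o).relIndex V ≤ 2 ^ Ψ.card ∧
      ∀ x ∈ Ψ, ∀ y ∈ Ψ, x ≠ y → cpr cs h x y = 1 ∨ (cpr cs h x y = 0 ∧
        ∀ μ ∈ RGD.Pos cs h, 1 ≤ μ o → cpr cs h μ x = -1 → cpr cs h μ y ≠ -1) := by
  obtain ⟨g, c, fn⟩ := exists_fn (cs := cs) (h := h) o
  have hab : ∀ x, IsRoot cs h x → ∀ a ∈ X x, ∀ b ∈ X x, a * b = b * a := fun x hx => X_comm R h2 hx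
  have C := com R hs fn hab
  refine ⟨Psi (PF cs h) X g V c, ?_, ?_, ?_⟩
  · intro x hx
    rw [mem_Psi, mem_PF] at hx
    refine ⟨hx.1, le_antisymm ?_ (hx.1.2 o)⟩
    have h3 := (fn.cut x hx.1).not.1 (not_le.2 hx.2.1)
    omega
  · have h3 := C.relIndex_le (V := V) (by rw [U_zero_eq R]; exact hVU) c
    rw [U_eq_Qo R fn] at h3
    refine h3.trans (le_of_eq ?_)
    rw [← Finset.prod_const]
    refine Finset.prod_congr rfl fun x hx => ?_
    rw [mem_Psi, mem_PF] at hx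
    exact card_X R h2 hx.1.1
  · intro x hx y hy hxy
    exact pair R hs fn hab (fun x hx => X_ne R h2 hx) hV (by rw [U_eq_Qo R fn]; exact hn) hx hy hxy

/-- **Types without bad pairs** -/
theorem relIndex_le [Finite Y] {ν : ℕ} {e : I ≃ Fin ν} {N L P : List (List ℕ)} {Tb : List (List ℕ × List ℕ × ℕ)}
    {o : I} (k : Chk e M N L P Tb o) (hb : noBad Tb = true) (h2 : ∀ i, Nat.card (X (sr i)) = 2) {V : Subgroup Y}
    (hVU : V ≤ RGD.Sup X (RGD.Pos cs h)) (hV : ∀ a ∈ V, ∀ b ∈ V, a * b = b * a)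
    (hn : ∀ q ∈ Qo cs h X o, ∀ v ∈ V, q * v * q⁻¹ ∈ V) : (Qo cs h X o).relIndex V ≤ 2 ^ (ν - 1) := by
  obtain ⟨Ψ, h3, h4, h5⟩ := exists_psi R (k.ty.sl cs h) h2 o hVU hV hn
  refine h4.trans (Nat.pow_le_pow_right (by norm_num) ?_)
  have h6 := card_le_of_one (cs := cs) (h := h) (Ψ := Ψ) (fun x hx => (h3 x hx).1.1) (fun x hx => (h3 x hx).2) (by
    intro x hx y hy hxy
    rcases h5 x hx y hy hxy with h6 | ⟨h6, h7⟩
    · exact h6
    · exfalso
      obtain ⟨a, ha, haL, rfl⟩ := k.exists_entry (h3 x hx).1 (h3 x hx).2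
      obtain ⟨b, hb', hbL, rfl⟩ := k.exists_entry (h3 y hy).1 (h3 y hy).2
      have h8 := k.bad_of (cs := cs) (h := h) ha haL hb' hbL h6 h7
      simp only [noBad, List.all_eq_true, Bool.not_eq_true'] at hb
      rw [hb a ha b hb'] at h8
      exact absurd h8 (by simp))
  have h7 : Fintype.card I = ν := by rw [Fintype.card_congr e, Fintype.card_fin]
  omega

/-- **Types where every root has at most one bad partner**, coloured with `c` colours -/
theorem relIndex_le_col [Finite Y] {ν : ℕ} {e : I ≃ Fin ν} {N L P : List (List ℕ)}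
    {Tb : List (List ℕ × List ℕ × ℕ)} {o : I} (k : Chk e M N L P Tb o) (hb : oneBad Tb = true)
    {m : ℕ} {C : List (List ℕ × ℕ)} (hc : colChk m C Tb = true)
    (h2 : ∀ i, Nat.card (X (sr i)) = 2) {V : Subgroup Y}
    (hVU : V ≤ RGD.Sup X (RGD.Pos cs h)) (hV : ∀ a ∈ V, ∀ b ∈ V, a * b = b * a)
    (hn : ∀ q ∈ Qo cs h X o, ∀ v ∈ V, q * v * q⁻¹ ∈ V) : (Qo cs h X o).relIndex V ≤ 2 ^ (2 * m) := by
  classical
  obtain ⟨Ψ, h3, h4, h5⟩ := exists_psi R (k.ty.sl cs h) h2 o hVU hV hn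
  refine h4.trans (Nat.pow_le_pow_right (by norm_num) ?_)
  -- uniqueness of the partner
  have huniq : ∀ x ∈ Ψ, ∀ y ∈ Ψ, ∀ z ∈ Ψ, x ≠ y → x ≠ z → cpr cs h x y = 0 → cpr cs h x z = 0 → y = z := by
    intro x hx y hy z hz hxy hxz hcy hcz
    have e1 := (h5 x hx y hy hxy).resolve_left (by omega)
    have e2 := (h5 x hx z hz hxz).resolve_left (by omega)
    obtain ⟨a, ha, haL, rfl⟩ := k.exists_entry (h3 x hx).1 (h3 x hx).2
    obtain ⟨b, hb1, hbL, rfl⟩ := k.exists_entry (h3 y hy).1 (h3 y hy).2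
    obtain ⟨d, hd, hdL, rfl⟩ := k.exists_entry (h3 z hz).1 (h3 z hz).2
    have h8 := k.bad_of (cs := cs) (h := h) ha haL hb1 hbL e1.1 e1.2
    have h9 := k.bad_of (cs := cs) (h := h) ha haL hd hdL e2.1 e2.2
    simp only [oneBad, List.all_eq_true, Nat.ble_eq] at hb
    have h10 := hb a ha
    have h11 : b ∈ Tb.filter (bad a) := List.mem_filter.2 ⟨hb1, h8⟩
    have h12 : d ∈ Tb.filter (bad a) := List.mem_filter.2 ⟨hd, h9⟩
    have h13 : b = d := by
      generalize Tb.filter (bad a) = l at h10 h11 h12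
      match l, h10, h11, h12 with
      | [w], _, h11, h12 =>
        rw [List.mem_singleton] at h11 h12
        rw [h11, h12]
    rw [h13]
  -- the colour
  have hcol : ∀ x ∈ Ψ, ∃ a ∈ Tb, a.1 ∈ L ∧ vc e a.1 = x := fun x hx => k.exists_entry (h3 x hx).1 (h3 x hx).2
  let f : (I → ℤ) → ℕ := fun x => if hx : ∃ a ∈ Tb, a.1 ∈ L ∧ vc e a.1 = x then col C hx.choose.1 else 0
  have hf : ∀ x ∈ Ψ, ∃ a ∈ Tb, a.1 ∈ L ∧ vc e a.1 = x ∧ f x = col C a.1 := by
    intro x hx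
    have h6 := hcol x hx
    refine ⟨h6.choose, h6.choose_spec.1, h6.choose_spec.2.1, h6.choose_spec.2.2, ?_⟩
    simp only [f]
    rw [dif_pos h6]
  simp only [colChk, List.all_eq_true, Bool.and_eq_true, Nat.blt_eq, Bool.not_eq_true', Bool.and_eq_false_iff] at hc
  have hlen := k.len
  simp only [lenChk, List.all_eq_true, beq_iff_eq] at hlen
  have hm := k.mask
  simp only [maskChk, List.all_eq_true, Bool.and_eq_true, beq_iff_eq, List.mem_range] at hm
  have h6 : Ψ.card ≤ 2 * (Finset.range m).card := by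
    refine Finset.card_le_mul_card_image_of_maps_to (f := f) (t := Finset.range m) ?_ 2 ?_
    · intro x hx
      obtain ⟨a, ha, -, -, e1⟩ := hf x hx
      rw [e1]
      exact Finset.mem_range.2 (hc a ha).1
    · intro b _
      by_contra hcon
      obtain ⟨x, hx, y, hy, z, hz, hxy, hxz, hyz⟩ := Finset.two_lt_card.1 (not_le.1 hcon)
      have key : ∀ x ∈ Ψ.filter fun x => f x = b, ∀ y ∈ Ψ.filter fun x => f x = b, x ≠ y → cpr cs h x y = 0 := by
        intro x hx y hy hxy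
        obtain ⟨hx, hxb⟩ := Finset.mem_filter.1 hx
        obtain ⟨hy, hyb⟩ := Finset.mem_filter.1 hy
        rcases h5 x hx y hy hxy with h6 | ⟨h6, -⟩
        · exfalso
          obtain ⟨a, ha, haL, e1, e2⟩ := hf x hx
          obtain ⟨d, hd, hdL, e3, e4⟩ := hf y hy
          have h7 := (hc a ha).2 d hd
          rcases h7 with (h7 | h7) | h7
          · rw [← e2, ← e4, hxb, hyb, Nat.beq_refl] at h7
            exact absurd h7 (by simp)
          · rw [bne_eq_false_iff_eq] at h7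
            rw [h7, e3] at e1
            exact hxy e1.symm
          · rw [← e1, ← e3, k.ty.cpr_vc (hlen _ haL) (hlen _ hdL) (by rw [e3]; exact (h3 y hy).1.1),
              (hm d hd).1] at h6
            have h8 : Nat.beq (2 * dot a.1 d.1) (dot a.1 d.2.1 + 1) = true := by
              rw [Nat.beq_eq]; omega
            rw [h7] at h8
            exact absurd h8 (by simp)
        · exact h6
      exact hyz (huniq x (Finset.mem_filter.1 hx).1 y (Finset.mem_filter.1 hy).1 z (Finset.mem_filter.1 hz).1 hxy hxz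
        (key x hx y hy hxy) (key x hx z hz hxz))
  rwa [Finset.card_range] at h6

/-- **`E₆(2)`**: `|V : V ∩ Q| ≤ 2^5` -/
theorem e6 [Finite Y] {e : I ≃ Fin 6} (t : Ty M e N6) {o : I} (ho : (e o : ℕ) = 1)
    (h2 : ∀ i, Nat.card (X (sr i)) = 2) {V : Subgroup Y}
    (hVU : V ≤ RGD.Sup X (RGD.Pos cs h)) (hV : ∀ a ∈ V, ∀ b ∈ V, a * b = b * a)
    (hn : ∀ q ∈ Qo cs h X o, ∀ v ∈ V, q * v * q⁻¹ ∈ V) : (Qo cs h X o).relIndex V ≤ 2 ^ 5 :=
  relIndex_le R (k := ⟨t, len6, closed6, desc6, mask6, ho ▸ split6, ho ▸ sub6, lt6⟩) noBad6 h2 hVU hV hn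

/-- **`E₇(2)`**: `|V : V ∩ Q| ≤ 2^10` -/
theorem e7 [Finite Y] {e : I ≃ Fin 7} (t : Ty M e N7) {o : I} (ho : (e o : ℕ) = 0)
    (h2 : ∀ i, Nat.card (X (sr i)) = 2) {V : Subgroup Y}
    (hVU : V ≤ RGD.Sup X (RGD.Pos cs h)) (hV : ∀ a ∈ V, ∀ b ∈ V, a * b = b * a)
    (hn : ∀ q ∈ Qo cs h X o, ∀ v ∈ V, q * v * q⁻¹ ∈ V) : (Qo cs h X o).relIndex V ≤ 2 ^ 10 :=
  relIndex_le_col R (k := ⟨t, len7, closed7, desc7, mask7, ho ▸ split7, ho ▸ sub7, lt7⟩) oneBad7 colChk7 h2 hVU hV hn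

/-- **`E₈(2)`**: `|V : V ∩ Q| ≤ 2^7` -/
theorem e8 [Finite Y] {e : I ≃ Fin 8} (t : Ty M e N8) {o : I} (ho : (e o : ℕ) = 7)
    (h2 : ∀ i, Nat.card (X (sr i)) = 2) {V : Subgroup Y}
    (hVU : V ≤ RGD.Sup X (RGD.Pos cs h)) (hV : ∀ a ∈ V, ∀ b ∈ V, a * b = b * a)
    (hn : ∀ q ∈ Qo cs h X o, ∀ v ∈ V, q * v * q⁻¹ ∈ V) : (Qo cs h X o).relIndex V ≤ 2 ^ 7 :=
  relIndex_le R (k := ⟨t, len8, closed8, desc8, mask8, ho ▸ split8, ho ▸ sub8, lt8⟩) noBad8 h2 hVU hV hn

end Bound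

/-! ### The Coxeter matrices of Mathlib -/

theorem ty6 : Ty CoxeterMatrix.E₆ (Equiv.refl (Fin 6)) N6 where
  len := by decide
  row := by decide
  adj := by
    intro i j hij
    fin_cases i <;> fin_cases j <;>
      first
      | exact absurd rfl hij
      | exact Or.inl ⟨rfl, rfl⟩
      | exact Or.inr ⟨rfl, rfl⟩
  diag := by decide

theorem ty7 : Ty CoxeterMatrix.E₇ (Equiv.refl (Fin 7)) N7 where
  len := by decide
  row := by decide
  adj := by
    intro i j hij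
    fin_cases i <;> fin_cases j <;>
      first
      | exact absurd rfl hij
      | exact Or.inl ⟨rfl, rfl⟩
      | exact Or.inr ⟨rfl, rfl⟩
  diag := by decide

theorem ty8 : Ty CoxeterMatrix.E₈ (Equiv.refl (Fin 8)) N8 where
  len := by decide
  row := by decide
  adj := by
    intro i j hij
    fin_cases i <;> fin_cases j <;>
      first
      | exact absurd rfl hij
      | exact Or.inl ⟨rfl, rfl⟩
      | exact Or.inr ⟨rfl, rfl⟩
  diag := by decide

end Cfsg.Agent.Omega.EH3Close.QB
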