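import Cfsg.Agent.Omega.EH3Close.RootTab

/-!
# The kernel checks for `E₆`, `E₇`, `E₈` (helper805)
-/

set_option autoImplicit false

namespace Cfsg.Agent.Omega.EH3Close.RootTab

open RootData

/-- `⟨μ, x⟩ = -1` -/
def isNeg (μ x nx : List ℕ) : Bool := Nat.beq (2 * dot μ x + 1) (dot μ nx)

/-- the table entries are correct: neighbour sums, mask bits -/
def maskChk (N P : List (List ℕ)) (T : List (List ℕ × List ℕ × ℕ)) : Bool :=
  T.all fun a => nb N a.1 == a.2.1 &&
    (List.range P.length).all fun k => (a.2.2.testBit k) == isNeg (P.getD k []) a.1 a.2.1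

/-- the masks are small -/
def ltChk (P : List (List ℕ)) (T : List (List ℕ × List ℕ × ℕ)) : Bool := T.all fun a => Nat.blt a.2.2 (2 ^ P.length)

/-- `P` = elements of `L` with positive `o`-coordinate, `T` = the others -/
def splitChk (o : ℕ) (L P : List (List ℕ)) (T : List (List ℕ × List ℕ × ℕ)) : Bool :=
  L.all fun l => if Nat.beq (l.getD o 0) 0 then (T.map fun a => a.1).contains l else P.contains l

def subChk (o : ℕ) (L P : List (List ℕ)) : Bool := P.all fun l => L.contains l && Nat.ble 1 (l.getD o 0)

/-- orthogonal entries without a common `μ` -/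
def bad (a b : List ℕ × List ℕ × ℕ) : Bool :=
  Nat.beq (2 * dot a.1 b.1) (dot a.1 b.2.1) && Nat.beq (Nat.land a.2.2 b.2.2) 0

def noBad (T : List (List ℕ × List ℕ × ℕ)) : Bool := T.all fun a => T.all fun b => !bad a b

def oneBad (T : List (List ℕ × List ℕ × ℕ)) : Bool := T.all fun a => Nat.ble (T.filter (bad a)).length 1

/-- colour of a root -/
def col (C : List (List ℕ × ℕ)) (l : List ℕ) : ℕ := (C.lookup l).getD 0

/-- two different roots of one colour do not have inner product `1` -/
def colChk (c : ℕ) (C : List (List ℕ × ℕ)) (T : List (List ℕ × List ℕ × ℕ)) : Bool :=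
  T.all fun a => Nat.blt (col C a.1) c && T.all fun b => !(Nat.beq (col C a.1) (col C b.1) && a.1 != b.1 &&
    Nat.beq (2 * dot a.1 b.1) (dot a.1 b.2.1 + 1))

theorem colChk7 : colChk 5 C7 T7 = true := by decide +kernel

theorem len6 : lenChk 6 L6 = true := by decide +kernel
theorem len7 : lenChk 7 L7 = true := by decide +kernel
theorem len8 : lenChk 8 L8 = true := by decide +kernel
theorem closed6 : closedChk 6 N6 L6 = true := by decide +kernel
theorem closed7 : closedChk 7 N7 L7 = true := by decide +kernel
theorem closed8 : closedChk 8 N8 L8 = true := by decide +kernel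
theorem desc6 : descChk 6 N6 L6 = true := by decide +kernel
theorem desc7 : descChk 7 N7 L7 = true := by decide +kernel
theorem desc8 : descChk 8 N8 L8 = true := by decide +kernel
theorem mask6 : maskChk N6 P6 T6 = true := by decide +kernel
theorem mask7 : maskChk N7 P7 T7 = true := by decide +kernel
theorem mask8 : maskChk N8 P8 T8 = true := by decide +kernel
theorem lt6 : ltChk P6 T6 = true := by decide +kernel
theorem lt7 : ltChk P7 T7 = true := by decide +kernel
theorem lt8 : ltChk P8 T8 = true := by decide +kernel
theorem split6 : splitChk 1 L6 P6 T6 = true := by decide +kernel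
theorem split7 : splitChk 0 L7 P7 T7 = true := by decide +kernel
theorem split8 : splitChk 7 L8 P8 T8 = true := by decide +kernel
theorem sub6 : subChk 1 L6 P6 = true := by decide +kernel
theorem sub7 : subChk 0 L7 P7 = true := by decide +kernel
theorem sub8 : subChk 7 L8 P8 = true := by decide +kernel
theorem noBad6 : noBad T6 = true := by decide +kernel
theorem noBad8 : noBad T8 = true := by decide +kernel
theorem oneBad7 : oneBad T7 = true := by decide +kernel

end Cfsg.Agent.Omega.EH3Close.RootTab
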