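import Mathlib.Data.Nat.Notation

/-!
# Tables of positive roots of `E₆`, `E₇`, `E₈` (generated; helper805)

`N_n` : adjacency matrix of the Dynkin diagram (Bourbaki numbering), `L_n` : positive roots,
`P_n` : the positive roots with coefficient `≥ 1` at the node `o` (`o = 1, 0, 7`, the node joined to the affine node),
`T_n` : `(x, neighbour sums of x, mask)` for the positive roots `x` with coefficient `0` at `o`; bit `k` of the mask is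
`1` iff `⟨P_n[k], x⟩ = -1`.
-/

set_option autoImplicit false

namespace Cfsg.Agent.Omega.EH3Close.RootData

def N6 : List (List ℕ) := [[0, 0, 1, 0, 0, 0], [0, 0, 0, 1, 0, 0], [1, 0, 0, 1, 0, 0], [0, 1, 1, 0, 1, 0], [0, 0, 0, 1, 0, 1], [0, 0, 0, 0, 1, 0]]

def L6 : List (List ℕ) := [
  [0, 0, 0, 0, 0, 1],
  [0, 0, 0, 0, 1, 0],
  [0, 0, 0, 1, 0, 0],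
  [0, 0, 1, 0, 0, 0],
  [0, 1, 0, 0, 0, 0],
  [1, 0, 0, 0, 0, 0],
  [0, 0, 0, 0, 1, 1],
  [0, 0, 0, 1, 1, 0],
  [0, 0, 1, 1, 0, 0],
  [0, 1, 0, 1, 0, 0],
  [1, 0, 1, 0, 0, 0],
  [0, 0, 0, 1, 1, 1],
  [0, 0, 1, 1, 1, 0],
  [0, 1, 0, 1, 1, 0],
  [0, 1, 1, 1, 0, 0],
  [1, 0, 1, 1, 0, 0],
  [0, 0, 1, 1, 1, 1],
  [0, 1, 0, 1, 1, 1],
  [0, 1, 1, 1, 1, 0],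
  [1, 0, 1, 1, 1, 0],
  [1, 1, 1, 1, 0, 0],
  [0, 1, 1, 1, 1, 1],
  [0, 1, 1, 2, 1, 0],
  [1, 0, 1, 1, 1, 1],
  [1, 1, 1, 1, 1, 0],
  [0, 1, 1, 2, 1, 1],
  [1, 1, 1, 1, 1, 1],
  [1, 1, 1, 2, 1, 0],
  [0, 1, 1, 2, 2, 1],
  [1, 1, 1, 2, 1, 1],
  [1, 1, 2, 2, 1, 0],
  [1, 1, 1, 2, 2, 1],
  [1, 1, 2, 2, 1, 1],
  [1, 1, 2, 2, 2, 1],
  [1, 1, 2, 3, 2, 1],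
  [1, 2, 2, 3, 2, 1]]

def P6 : List (List ℕ) := [
  [0, 1, 0, 0, 0, 0],
  [0, 1, 0, 1, 0, 0],
  [0, 1, 0, 1, 1, 0],
  [0, 1, 1, 1, 0, 0],
  [0, 1, 0, 1, 1, 1],
  [0, 1, 1, 1, 1, 0],
  [1, 1, 1, 1, 0, 0],
  [0, 1, 1, 1, 1, 1],
  [0, 1, 1, 2, 1, 0],
  [1, 1, 1, 1, 1, 0],
  [0, 1, 1, 2, 1, 1],
  [1, 1, 1, 1, 1, 1],
  [1, 1, 1, 2, 1, 0],
  [0, 1, 1, 2, 2, 1],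
  [1, 1, 1, 2, 1, 1],
  [1, 1, 2, 2, 1, 0],
  [1, 1, 1, 2, 2, 1],
  [1, 1, 2, 2, 1, 1],
  [1, 1, 2, 2, 2, 1],
  [1, 1, 2, 3, 2, 1],
  [1, 2, 2, 3, 2, 1]]

def T6 : List (List ℕ × List ℕ × ℕ) := [
  ([0, 0, 0, 0, 0, 1], [0, 0, 0, 0, 1, 0], 37668),
  ([0, 0, 0, 0, 1, 0], [0, 0, 0, 1, 0, 1], 148554),
  ([0, 0, 0, 1, 0, 0], [0, 1, 1, 0, 1, 0], 264865),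
  ([0, 0, 1, 0, 0, 0], [1, 0, 0, 1, 0, 0], 86038),
  ([1, 0, 0, 0, 0, 0], [0, 0, 1, 0, 0, 0], 9640),
  ([0, 0, 0, 0, 1, 1], [0, 0, 0, 1, 1, 1], 37194),
  ([0, 0, 0, 1, 1, 0], [0, 1, 1, 1, 1, 1], 133321),
  ([0, 0, 1, 1, 0, 0], [1, 1, 1, 1, 1, 0], 68117),
  ([1, 0, 1, 0, 0, 0], [1, 0, 1, 1, 0, 0], 9494),
  ([0, 0, 0, 1, 1, 1], [0, 1, 1, 1, 2, 1], 33385),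
  ([0, 0, 1, 1, 1, 0], [1, 1, 1, 2, 1, 1], 18515),
  ([1, 0, 1, 1, 0, 0], [1, 1, 2, 1, 1, 0], 8373),
  ([0, 0, 1, 1, 1, 1], [1, 1, 1, 2, 2, 1], 4679),
  ([1, 0, 1, 1, 1, 0], [1, 1, 2, 2, 1, 1], 1179),
  ([1, 0, 1, 1, 1, 1], [1, 1, 2, 2, 2, 1], 303)]

def N7 : List (List ℕ) := [[0, 0, 1, 0, 0, 0, 0], [0, 0, 0, 1, 0, 0, 0], [1, 0, 0, 1, 0, 0, 0], [0, 1, 1, 0, 1, 0, 0], [0, 0, 0, 1, 0, 1, 0], [0, 0, 0, 0, 1, 0, 1], [0, 0, 0, 0, 0, 1, 0]]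

def L7 : List (List ℕ) := [
  [0, 0, 0, 0, 0, 0, 1],
  [0, 0, 0, 0, 0, 1, 0],
  [0, 0, 0, 0, 1, 0, 0],
  [0, 0, 0, 1, 0, 0, 0],
  [0, 0, 1, 0, 0, 0, 0],
  [0, 1, 0, 0, 0, 0, 0],
  [1, 0, 0, 0, 0, 0, 0],
  [0, 0, 0, 0, 0, 1, 1],
  [0, 0, 0, 0, 1, 1, 0],
  [0, 0, 0, 1, 1, 0, 0],
  [0, 0, 1, 1, 0, 0, 0],
  [0, 1, 0, 1, 0, 0, 0],
  [1, 0, 1, 0, 0, 0, 0],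
  [0, 0, 0, 0, 1, 1, 1],
  [0, 0, 0, 1, 1, 1, 0],
  [0, 0, 1, 1, 1, 0, 0],
  [0, 1, 0, 1, 1, 0, 0],
  [0, 1, 1, 1, 0, 0, 0],
  [1, 0, 1, 1, 0, 0, 0],
  [0, 0, 0, 1, 1, 1, 1],
  [0, 0, 1, 1, 1, 1, 0],
  [0, 1, 0, 1, 1, 1, 0],
  [0, 1, 1, 1, 1, 0, 0],
  [1, 0, 1, 1, 1, 0, 0],
  [1, 1, 1, 1, 0, 0, 0],
  [0, 0, 1, 1, 1, 1, 1],
  [0, 1, 0, 1, 1, 1, 1],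
  [0, 1, 1, 1, 1, 1, 0],
  [0, 1, 1, 2, 1, 0, 0],
  [1, 0, 1, 1, 1, 1, 0],
  [1, 1, 1, 1, 1, 0, 0],
  [0, 1, 1, 1, 1, 1, 1],
  [0, 1, 1, 2, 1, 1, 0],
  [1, 0, 1, 1, 1, 1, 1],
  [1, 1, 1, 1, 1, 1, 0],
  [1, 1, 1, 2, 1, 0, 0],
  [0, 1, 1, 2, 1, 1, 1],
  [0, 1, 1, 2, 2, 1, 0],
  [1, 1, 1, 1, 1, 1, 1],
  [1, 1, 1, 2, 1, 1, 0],
  [1, 1, 2, 2, 1, 0, 0],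
  [0, 1, 1, 2, 2, 1, 1],
  [1, 1, 1, 2, 1, 1, 1],
  [1, 1, 1, 2, 2, 1, 0],
  [1, 1, 2, 2, 1, 1, 0],
  [0, 1, 1, 2, 2, 2, 1],
  [1, 1, 1, 2, 2, 1, 1],
  [1, 1, 2, 2, 1, 1, 1],
  [1, 1, 2, 2, 2, 1, 0],
  [1, 1, 1, 2, 2, 2, 1],
  [1, 1, 2, 2, 2, 1, 1],
  [1, 1, 2, 3, 2, 1, 0],
  [1, 1, 2, 2, 2, 2, 1],
  [1, 1, 2, 3, 2, 1, 1],
  [1, 2, 2, 3, 2, 1, 0],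
  [1, 1, 2, 3, 2, 2, 1],
  [1, 2, 2, 3, 2, 1, 1],
  [1, 1, 2, 3, 3, 2, 1],
  [1, 2, 2, 3, 2, 2, 1],
  [1, 2, 2, 3, 3, 2, 1],
  [1, 2, 2, 4, 3, 2, 1],
  [1, 2, 3, 4, 3, 2, 1],
  [2, 2, 3, 4, 3, 2, 1]]

def P7 : List (List ℕ) := [
  [1, 0, 0, 0, 0, 0, 0],
  [1, 0, 1, 0, 0, 0, 0],
  [1, 0, 1, 1, 0, 0, 0],
  [1, 0, 1, 1, 1, 0, 0],
  [1, 1, 1, 1, 0, 0, 0],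
  [1, 0, 1, 1, 1, 1, 0],
  [1, 1, 1, 1, 1, 0, 0],
  [1, 0, 1, 1, 1, 1, 1],
  [1, 1, 1, 1, 1, 1, 0],
  [1, 1, 1, 2, 1, 0, 0],
  [1, 1, 1, 1, 1, 1, 1],
  [1, 1, 1, 2, 1, 1, 0],
  [1, 1, 2, 2, 1, 0, 0],
  [1, 1, 1, 2, 1, 1, 1],
  [1, 1, 1, 2, 2, 1, 0],
  [1, 1, 2, 2, 1, 1, 0],
  [1, 1, 1, 2, 2, 1, 1],
  [1, 1, 2, 2, 1, 1, 1],
  [1, 1, 2, 2, 2, 1, 0],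
  [1, 1, 1, 2, 2, 2, 1],
  [1, 1, 2, 2, 2, 1, 1],
  [1, 1, 2, 3, 2, 1, 0],
  [1, 1, 2, 2, 2, 2, 1],
  [1, 1, 2, 3, 2, 1, 1],
  [1, 2, 2, 3, 2, 1, 0],
  [1, 1, 2, 3, 2, 2, 1],
  [1, 2, 2, 3, 2, 1, 1],
  [1, 1, 2, 3, 3, 2, 1],
  [1, 2, 2, 3, 2, 2, 1],
  [1, 2, 2, 3, 3, 2, 1],
  [1, 2, 2, 4, 3, 2, 1],
  [1, 2, 3, 4, 3, 2, 1],
  [2, 2, 3, 4, 3, 2, 1]]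

def T7 : List (List ℕ × List ℕ × ℕ) := [
  ([0, 0, 0, 0, 0, 0, 1], [0, 0, 0, 0, 0, 1, 0], 19188000),
  ([0, 0, 0, 0, 0, 1, 0], [0, 0, 0, 0, 1, 0, 1], 76616264),
  ([0, 0, 0, 0, 1, 0, 0], [0, 0, 0, 1, 0, 1, 0], 302163988),
  ([0, 0, 0, 1, 0, 0, 0], [0, 1, 1, 0, 1, 0, 0], 542377282),
  ([0, 0, 1, 0, 0, 0, 0], [1, 0, 0, 1, 0, 0, 0], 1074358785),
  ([0, 1, 0, 0, 0, 0, 0], [0, 0, 0, 1, 0, 0, 0], 178258092),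
  ([0, 0, 0, 0, 0, 1, 1], [0, 0, 0, 0, 1, 1, 1], 19157576),
  ([0, 0, 0, 0, 1, 1, 0], [0, 0, 0, 1, 1, 1, 1], 75641364),
  ([0, 0, 0, 1, 1, 0, 0], [0, 1, 1, 1, 1, 1, 0], 272794898),
  ([0, 0, 1, 1, 0, 0, 0], [1, 1, 1, 1, 1, 0, 0], 537478465),
  ([0, 1, 0, 1, 0, 0, 0], [0, 1, 1, 1, 1, 0, 0], 139722922),
  ([0, 0, 0, 0, 1, 1, 1], [0, 0, 0, 1, 1, 2, 1], 18913812),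
  ([0, 0, 0, 1, 1, 1, 0], [0, 1, 1, 1, 2, 1, 1], 68293714),
  ([0, 0, 1, 1, 1, 0, 0], [1, 1, 1, 2, 1, 1, 0], 268971281),
  ([0, 1, 0, 1, 1, 0, 0], [0, 1, 1, 2, 1, 1, 0], 37912742),
  ([0, 1, 1, 1, 0, 0, 0], [1, 1, 1, 2, 1, 0, 0], 134824105),
  ([0, 0, 0, 1, 1, 1, 1], [0, 1, 1, 1, 2, 2, 1], 17076562),
  ([0, 0, 1, 1, 1, 1, 0], [1, 1, 1, 2, 2, 1, 1], 67184209),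
  ([0, 1, 0, 1, 1, 1, 0], [0, 1, 1, 2, 2, 1, 1], 9572494),
  ([0, 1, 1, 1, 1, 0, 0], [1, 1, 1, 3, 1, 1, 0], 34089125),
  ([0, 0, 1, 1, 1, 1, 1], [1, 1, 1, 2, 2, 2, 1], 16796497),
  ([0, 1, 0, 1, 1, 1, 1], [0, 1, 1, 2, 2, 2, 1], 2396206),
  ([0, 1, 1, 1, 1, 1, 0], [1, 1, 1, 3, 2, 1, 1], 8462989),
  ([0, 1, 1, 2, 1, 0, 0], [1, 2, 2, 3, 2, 1, 0], 4720035),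
  ([0, 1, 1, 1, 1, 1, 1], [1, 1, 1, 3, 2, 2, 1], 2116141),
  ([0, 1, 1, 2, 1, 1, 0], [1, 2, 2, 3, 3, 1, 1], 1115339),
  ([0, 1, 1, 2, 1, 1, 1], [1, 2, 2, 3, 3, 2, 1], 278891),
  ([0, 1, 1, 2, 2, 1, 0], [1, 2, 2, 4, 3, 2, 1], 140439),
  ([0, 1, 1, 2, 2, 1, 1], [1, 2, 2, 4, 3, 3, 1], 35127),
  ([0, 1, 1, 2, 2, 2, 1], [1, 2, 2, 4, 4, 3, 2], 4703)]

/-- a colouring of the 30 positive roots of `D₆` (1-factorisation of `K₆`) -/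
def C7 : List (List ℕ × ℕ) := [
  ([0, 0, 0, 0, 0, 0, 1], 3),
  ([0, 0, 0, 0, 0, 1, 0], 4),
  ([0, 0, 0, 0, 1, 0, 0], 0),
  ([0, 0, 0, 1, 0, 0, 0], 1),
  ([0, 0, 1, 0, 0, 0, 0], 4),
  ([0, 1, 0, 0, 0, 0, 0], 4),
  ([0, 0, 0, 0, 0, 1, 1], 1),
  ([0, 0, 0, 0, 1, 1, 0], 2),
  ([0, 0, 0, 1, 1, 0, 0], 3),
  ([0, 0, 1, 1, 0, 0, 0], 3),
  ([0, 1, 0, 1, 0, 0, 0], 3),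
  ([0, 0, 0, 0, 1, 1, 1], 4),
  ([0, 0, 0, 1, 1, 1, 0], 0),
  ([0, 0, 1, 1, 1, 0, 0], 2),
  ([0, 1, 0, 1, 1, 0, 0], 2),
  ([0, 1, 1, 1, 0, 0, 0], 1),
  ([0, 0, 0, 1, 1, 1, 1], 2),
  ([0, 0, 1, 1, 1, 1, 0], 1),
  ([0, 1, 0, 1, 1, 1, 0], 1),
  ([0, 1, 1, 1, 1, 0, 0], 3),
  ([0, 0, 1, 1, 1, 1, 1], 0),
  ([0, 1, 0, 1, 1, 1, 1], 0),
  ([0, 1, 1, 1, 1, 1, 0], 0),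
  ([0, 1, 1, 2, 1, 0, 0], 0),
  ([0, 1, 1, 1, 1, 1, 1], 2),
  ([0, 1, 1, 2, 1, 1, 0], 2),
  ([0, 1, 1, 2, 1, 1, 1], 4),
  ([0, 1, 1, 2, 2, 1, 0], 4),
  ([0, 1, 1, 2, 2, 1, 1], 1),
  ([0, 1, 1, 2, 2, 2, 1], 3)]

def N8 : List (List ℕ) := [[0, 0, 1, 0, 0, 0, 0, 0], [0, 0, 0, 1, 0, 0, 0, 0], [1, 0, 0, 1, 0, 0, 0, 0], [0, 1, 1, 0, 1, 0, 0, 0], [0, 0, 0, 1, 0, 1, 0, 0], [0, 0, 0, 0, 1, 0, 1, 0], [0, 0, 0, 0, 0, 1, 0, 1], [0, 0, 0, 0, 0, 0, 1, 0]]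

def L8 : List (List ℕ) := [
  [0, 0, 0, 0, 0, 0, 0, 1],
  [0, 0, 0, 0, 0, 0, 1, 0],
  [0, 0, 0, 0, 0, 1, 0, 0],
  [0, 0, 0, 0, 1, 0, 0, 0],
  [0, 0, 0, 1, 0, 0, 0, 0],
  [0, 0, 1, 0, 0, 0, 0, 0],
  [0, 1, 0, 0, 0, 0, 0, 0],
  [1, 0, 0, 0, 0, 0, 0, 0],
  [0, 0, 0, 0, 0, 0, 1, 1],
  [0, 0, 0, 0, 0, 1, 1, 0],
  [0, 0, 0, 0, 1, 1, 0, 0],
  [0, 0, 0, 1, 1, 0, 0, 0],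
  [0, 0, 1, 1, 0, 0, 0, 0],
  [0, 1, 0, 1, 0, 0, 0, 0],
  [1, 0, 1, 0, 0, 0, 0, 0],
  [0, 0, 0, 0, 0, 1, 1, 1],
  [0, 0, 0, 0, 1, 1, 1, 0],
  [0, 0, 0, 1, 1, 1, 0, 0],
  [0, 0, 1, 1, 1, 0, 0, 0],
  [0, 1, 0, 1, 1, 0, 0, 0],
  [0, 1, 1, 1, 0, 0, 0, 0],
  [1, 0, 1, 1, 0, 0, 0, 0],
  [0, 0, 0, 0, 1, 1, 1, 1],
  [0, 0, 0, 1, 1, 1, 1, 0],
  [0, 0, 1, 1, 1, 1, 0, 0],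
  [0, 1, 0, 1, 1, 1, 0, 0],
  [0, 1, 1, 1, 1, 0, 0, 0],
  [1, 0, 1, 1, 1, 0, 0, 0],
  [1, 1, 1, 1, 0, 0, 0, 0],
  [0, 0, 0, 1, 1, 1, 1, 1],
  [0, 0, 1, 1, 1, 1, 1, 0],
  [0, 1, 0, 1, 1, 1, 1, 0],
  [0, 1, 1, 1, 1, 1, 0, 0],
  [0, 1, 1, 2, 1, 0, 0, 0],
  [1, 0, 1, 1, 1, 1, 0, 0],
  [1, 1, 1, 1, 1, 0, 0, 0],
  [0, 0, 1, 1, 1, 1, 1, 1],
  [0, 1, 0, 1, 1, 1, 1, 1],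
  [0, 1, 1, 1, 1, 1, 1, 0],
  [0, 1, 1, 2, 1, 1, 0, 0],
  [1, 0, 1, 1, 1, 1, 1, 0],
  [1, 1, 1, 1, 1, 1, 0, 0],
  [1, 1, 1, 2, 1, 0, 0, 0],
  [0, 1, 1, 1, 1, 1, 1, 1],
  [0, 1, 1, 2, 1, 1, 1, 0],
  [0, 1, 1, 2, 2, 1, 0, 0],
  [1, 0, 1, 1, 1, 1, 1, 1],
  [1, 1, 1, 1, 1, 1, 1, 0],
  [1, 1, 1, 2, 1, 1, 0, 0],
  [1, 1, 2, 2, 1, 0, 0, 0],
  [0, 1, 1, 2, 1, 1, 1, 1],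
  [0, 1, 1, 2, 2, 1, 1, 0],
  [1, 1, 1, 1, 1, 1, 1, 1],
  [1, 1, 1, 2, 1, 1, 1, 0],
  [1, 1, 1, 2, 2, 1, 0, 0],
  [1, 1, 2, 2, 1, 1, 0, 0],
  [0, 1, 1, 2, 2, 1, 1, 1],
  [0, 1, 1, 2, 2, 2, 1, 0],
  [1, 1, 1, 2, 1, 1, 1, 1],
  [1, 1, 1, 2, 2, 1, 1, 0],
  [1, 1, 2, 2, 1, 1, 1, 0],
  [1, 1, 2, 2, 2, 1, 0, 0],
  [0, 1, 1, 2, 2, 2, 1, 1],
  [1, 1, 1, 2, 2, 1, 1, 1],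
  [1, 1, 1, 2, 2, 2, 1, 0],
  [1, 1, 2, 2, 1, 1, 1, 1],
  [1, 1, 2, 2, 2, 1, 1, 0],
  [1, 1, 2, 3, 2, 1, 0, 0],
  [0, 1, 1, 2, 2, 2, 2, 1],
  [1, 1, 1, 2, 2, 2, 1, 1],
  [1, 1, 2, 2, 2, 1, 1, 1],
  [1, 1, 2, 2, 2, 2, 1, 0],
  [1, 1, 2, 3, 2, 1, 1, 0],
  [1, 2, 2, 3, 2, 1, 0, 0],
  [1, 1, 1, 2, 2, 2, 2, 1],
  [1, 1, 2, 2, 2, 2, 1, 1],
  [1, 1, 2, 3, 2, 1, 1, 1],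
  [1, 1, 2, 3, 2, 2, 1, 0],
  [1, 2, 2, 3, 2, 1, 1, 0],
  [1, 1, 2, 2, 2, 2, 2, 1],
  [1, 1, 2, 3, 2, 2, 1, 1],
  [1, 1, 2, 3, 3, 2, 1, 0],
  [1, 2, 2, 3, 2, 1, 1, 1],
  [1, 2, 2, 3, 2, 2, 1, 0],
  [1, 1, 2, 3, 2, 2, 2, 1],
  [1, 1, 2, 3, 3, 2, 1, 1],
  [1, 2, 2, 3, 2, 2, 1, 1],
  [1, 2, 2, 3, 3, 2, 1, 0],
  [1, 1, 2, 3, 3, 2, 2, 1],
  [1, 2, 2, 3, 2, 2, 2, 1],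
  [1, 2, 2, 3, 3, 2, 1, 1],
  [1, 2, 2, 4, 3, 2, 1, 0],
  [1, 1, 2, 3, 3, 3, 2, 1],
  [1, 2, 2, 3, 3, 2, 2, 1],
  [1, 2, 2, 4, 3, 2, 1, 1],
  [1, 2, 3, 4, 3, 2, 1, 0],
  [1, 2, 2, 3, 3, 3, 2, 1],
  [1, 2, 2, 4, 3, 2, 2, 1],
  [1, 2, 3, 4, 3, 2, 1, 1],
  [2, 2, 3, 4, 3, 2, 1, 0],
  [1, 2, 2, 4, 3, 3, 2, 1],
  [1, 2, 3, 4, 3, 2, 2, 1],
  [2, 2, 3, 4, 3, 2, 1, 1],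
  [1, 2, 2, 4, 4, 3, 2, 1],
  [1, 2, 3, 4, 3, 3, 2, 1],
  [2, 2, 3, 4, 3, 2, 2, 1],
  [1, 2, 3, 4, 4, 3, 2, 1],
  [2, 2, 3, 4, 3, 3, 2, 1],
  [1, 2, 3, 5, 4, 3, 2, 1],
  [2, 2, 3, 4, 4, 3, 2, 1],
  [1, 3, 3, 5, 4, 3, 2, 1],
  [2, 2, 3, 5, 4, 3, 2, 1],
  [2, 2, 4, 5, 4, 3, 2, 1],
  [2, 3, 3, 5, 4, 3, 2, 1],
  [2, 3, 4, 5, 4, 3, 2, 1],
  [2, 3, 4, 6, 4, 3, 2, 1],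
  [2, 3, 4, 6, 5, 3, 2, 1],
  [2, 3, 4, 6, 5, 4, 2, 1],
  [2, 3, 4, 6, 5, 4, 3, 1],
  [2, 3, 4, 6, 5, 4, 3, 2]]

def P8 : List (List ℕ) := [
  [0, 0, 0, 0, 0, 0, 0, 1],
  [0, 0, 0, 0, 0, 0, 1, 1],
  [0, 0, 0, 0, 0, 1, 1, 1],
  [0, 0, 0, 0, 1, 1, 1, 1],
  [0, 0, 0, 1, 1, 1, 1, 1],
  [0, 0, 1, 1, 1, 1, 1, 1],
  [0, 1, 0, 1, 1, 1, 1, 1],
  [0, 1, 1, 1, 1, 1, 1, 1],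
  [1, 0, 1, 1, 1, 1, 1, 1],
  [0, 1, 1, 2, 1, 1, 1, 1],
  [1, 1, 1, 1, 1, 1, 1, 1],
  [0, 1, 1, 2, 2, 1, 1, 1],
  [1, 1, 1, 2, 1, 1, 1, 1],
  [0, 1, 1, 2, 2, 2, 1, 1],
  [1, 1, 1, 2, 2, 1, 1, 1],
  [1, 1, 2, 2, 1, 1, 1, 1],
  [0, 1, 1, 2, 2, 2, 2, 1],
  [1, 1, 1, 2, 2, 2, 1, 1],
  [1, 1, 2, 2, 2, 1, 1, 1],
  [1, 1, 1, 2, 2, 2, 2, 1],
  [1, 1, 2, 2, 2, 2, 1, 1],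
  [1, 1, 2, 3, 2, 1, 1, 1],
  [1, 1, 2, 2, 2, 2, 2, 1],
  [1, 1, 2, 3, 2, 2, 1, 1],
  [1, 2, 2, 3, 2, 1, 1, 1],
  [1, 1, 2, 3, 2, 2, 2, 1],
  [1, 1, 2, 3, 3, 2, 1, 1],
  [1, 2, 2, 3, 2, 2, 1, 1],
  [1, 1, 2, 3, 3, 2, 2, 1],
  [1, 2, 2, 3, 2, 2, 2, 1],
  [1, 2, 2, 3, 3, 2, 1, 1],
  [1, 1, 2, 3, 3, 3, 2, 1],
  [1, 2, 2, 3, 3, 2, 2, 1],
  [1, 2, 2, 4, 3, 2, 1, 1],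
  [1, 2, 2, 3, 3, 3, 2, 1],
  [1, 2, 2, 4, 3, 2, 2, 1],
  [1, 2, 3, 4, 3, 2, 1, 1],
  [1, 2, 2, 4, 3, 3, 2, 1],
  [1, 2, 3, 4, 3, 2, 2, 1],
  [2, 2, 3, 4, 3, 2, 1, 1],
  [1, 2, 2, 4, 4, 3, 2, 1],
  [1, 2, 3, 4, 3, 3, 2, 1],
  [2, 2, 3, 4, 3, 2, 2, 1],
  [1, 2, 3, 4, 4, 3, 2, 1],
  [2, 2, 3, 4, 3, 3, 2, 1],
  [1, 2, 3, 5, 4, 3, 2, 1],
  [2, 2, 3, 4, 4, 3, 2, 1],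
  [1, 3, 3, 5, 4, 3, 2, 1],
  [2, 2, 3, 5, 4, 3, 2, 1],
  [2, 2, 4, 5, 4, 3, 2, 1],
  [2, 3, 3, 5, 4, 3, 2, 1],
  [2, 3, 4, 5, 4, 3, 2, 1],
  [2, 3, 4, 6, 4, 3, 2, 1],
  [2, 3, 4, 6, 5, 3, 2, 1],
  [2, 3, 4, 6, 5, 4, 2, 1],
  [2, 3, 4, 6, 5, 4, 3, 1],
  [2, 3, 4, 6, 5, 4, 3, 2]]

def T8 : List (List ℕ × List ℕ × ℕ) := [
  ([0, 0, 0, 0, 0, 0, 1, 0], [0, 0, 0, 0, 0, 1, 0, 1], 18015026859352065),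
  ([0, 0, 0, 0, 0, 1, 0, 0], [0, 0, 0, 0, 1, 0, 1, 0], 9011911121455106),
  ([0, 0, 0, 0, 1, 0, 0, 0], [0, 0, 0, 1, 0, 1, 0, 0], 4523528988692996),
  ([0, 0, 0, 1, 0, 0, 0, 0], [0, 1, 1, 0, 1, 0, 0, 0], 2330987204969608),
  ([0, 0, 1, 0, 0, 0, 0, 0], [1, 0, 0, 1, 0, 0, 0, 0], 1408654784483408),
  ([0, 1, 0, 0, 0, 0, 0, 0], [0, 0, 0, 1, 0, 0, 0, 0], 879611829289264),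
  ([1, 0, 0, 0, 0, 0, 0, 0], [0, 0, 1, 0, 0, 0, 0, 0], 187260574182048),
  ([0, 0, 0, 0, 0, 1, 1, 0], [0, 0, 0, 0, 1, 1, 1, 1], 9007827479971841),
  ([0, 0, 0, 0, 1, 1, 0, 0], [0, 0, 0, 1, 1, 1, 1, 0], 4508307500864002),
  ([0, 0, 0, 1, 1, 0, 0, 0], [0, 1, 1, 1, 1, 1, 0, 0], 2271608879219844),
  ([0, 0, 1, 1, 0, 0, 0, 0], [1, 1, 1, 1, 1, 0, 0, 0], 1197390711899208),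
  ([0, 1, 0, 1, 0, 0, 0, 0], [0, 1, 1, 1, 1, 0, 0, 0], 642117279154472),
  ([1, 0, 1, 0, 0, 0, 0, 0], [1, 0, 1, 1, 0, 0, 0, 0], 177201760774736),
  ([0, 0, 0, 0, 1, 1, 1, 0], [0, 0, 0, 1, 1, 2, 1, 1], 4504226854113793),
  ([0, 0, 0, 1, 1, 1, 0, 0], [0, 1, 1, 1, 2, 1, 1, 0], 2256477591209090),
  ([0, 0, 1, 1, 1, 0, 0, 0], [1, 1, 1, 2, 1, 1, 0, 0], 1143647383458884),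
  ([0, 1, 0, 1, 1, 0, 0, 0], [0, 1, 1, 2, 1, 1, 0, 0], 582743357423908),
  ([0, 1, 1, 1, 0, 0, 0, 0], [1, 1, 1, 2, 1, 0, 0, 0], 352945716216088),
  ([1, 0, 1, 1, 0, 0, 0, 0], [1, 1, 2, 1, 1, 0, 0, 0], 150655641659592),
  ([0, 0, 0, 1, 1, 1, 1, 0], [0, 1, 1, 1, 2, 2, 1, 1], 2252419515057281),
  ([0, 0, 1, 1, 1, 1, 0, 0], [1, 1, 1, 2, 2, 1, 1, 0], 1130337162253378),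
  ([0, 1, 0, 1, 1, 1, 0, 0], [0, 1, 1, 2, 2, 1, 1, 0], 567623186415906),
  ([0, 1, 1, 1, 1, 0, 0, 0], [1, 1, 1, 3, 1, 1, 0, 0], 299206791794964),
  ([1, 0, 1, 1, 1, 0, 0, 0], [1, 1, 2, 2, 1, 1, 0, 0], 143091801596612),
  ([1, 1, 1, 1, 0, 0, 0, 0], [1, 1, 2, 2, 1, 0, 0, 0], 45082459842616),
  ([0, 0, 1, 1, 1, 1, 1, 0], [1, 1, 1, 2, 2, 2, 1, 1], 1126459477480513),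
  ([0, 1, 0, 1, 1, 1, 1, 0], [0, 1, 1, 2, 2, 2, 1, 1], 563568507650337),
  ([0, 1, 1, 1, 1, 1, 0, 0], [1, 1, 1, 3, 2, 1, 1, 0], 285907687592210),
  ([0, 1, 1, 2, 1, 0, 0, 0], [1, 2, 2, 3, 2, 1, 0, 0], 87980263474444),
  ([1, 0, 1, 1, 1, 1, 0, 0], [1, 1, 2, 2, 2, 1, 1, 0], 141051574684354),
  ([1, 1, 1, 1, 1, 0, 0, 0], [1, 1, 2, 3, 1, 1, 0, 0], 37523023798836),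
  ([0, 1, 1, 1, 1, 1, 1, 0], [1, 1, 1, 3, 2, 2, 1, 1], 282033400205585),
  ([0, 1, 1, 2, 1, 1, 0, 0], [1, 2, 2, 3, 3, 1, 1, 0], 74771359089930),
  ([1, 0, 1, 1, 1, 1, 1, 0], [1, 1, 2, 2, 2, 2, 1, 1], 140816022514369),
  ([1, 1, 1, 1, 1, 1, 0, 0], [1, 1, 2, 3, 2, 1, 1, 0], 35493913889330),
  ([1, 1, 1, 2, 1, 0, 0, 0], [1, 2, 3, 3, 2, 1, 0, 0], 11014448947372),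
  ([0, 1, 1, 2, 1, 1, 1, 0], [1, 2, 2, 3, 3, 2, 1, 1], 70919642301705),
  ([0, 1, 1, 2, 2, 1, 0, 0], [1, 2, 2, 4, 3, 2, 1, 0], 21990807737606),
  ([1, 1, 1, 1, 1, 1, 1, 0], [1, 1, 2, 3, 2, 2, 1, 1], 35261759105585),
  ([1, 1, 1, 2, 1, 1, 0, 0], [1, 2, 3, 3, 3, 1, 1, 0], 9075538856106),
  ([1, 1, 2, 2, 1, 0, 0, 0], [2, 2, 3, 4, 2, 1, 0, 0], 1256278663260),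
  ([0, 1, 1, 2, 2, 1, 1, 0], [1, 2, 2, 4, 3, 3, 1, 1], 18142085682437),
  ([1, 1, 1, 2, 1, 1, 1, 0], [1, 2, 3, 3, 3, 2, 1, 1], 8865954670761),
  ([1, 1, 1, 2, 2, 1, 0, 0], [1, 2, 3, 4, 3, 2, 1, 0], 2474475881126),
  ([1, 1, 2, 2, 1, 1, 0, 0], [2, 2, 3, 4, 3, 1, 1, 0], 1138435377242),
  ([0, 1, 1, 2, 2, 2, 1, 0], [1, 2, 2, 4, 4, 3, 2, 1], 4947821516035),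
  ([1, 1, 1, 2, 2, 1, 1, 0], [1, 2, 3, 4, 3, 3, 1, 1], 2267886428837),
  ([1, 1, 2, 2, 1, 1, 1, 0], [2, 2, 3, 4, 3, 2, 1, 1], 1109242570841),
  ([1, 1, 2, 2, 2, 1, 0, 0], [2, 2, 3, 5, 3, 2, 1, 0], 172369711702),
  ([1, 1, 1, 2, 2, 2, 1, 0], [1, 2, 3, 4, 4, 3, 2, 1], 343616555683),
  ([1, 1, 2, 2, 2, 1, 1, 0], [2, 2, 3, 5, 3, 3, 1, 1], 146171638357),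
  ([1, 1, 2, 3, 2, 1, 0, 0], [2, 3, 4, 5, 4, 2, 1, 0], 22016492750),
  ([1, 1, 2, 2, 2, 2, 1, 0], [2, 2, 3, 5, 4, 3, 2, 1], 42968570451),
  ([1, 1, 2, 3, 2, 1, 1, 0], [2, 3, 4, 5, 4, 3, 1, 1], 18389017805),
  ([1, 2, 2, 3, 2, 1, 0, 0], [2, 3, 4, 6, 4, 2, 1, 0], 2454257982),
  ([1, 1, 2, 3, 2, 2, 1, 0], [2, 3, 4, 5, 5, 3, 2, 1], 5385768139),
  ([1, 2, 2, 3, 2, 1, 1, 0], [2, 3, 4, 6, 4, 3, 1, 1], 2224169277),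
  ([1, 1, 2, 3, 3, 2, 1, 0], [2, 3, 4, 6, 5, 4, 2, 1], 687904455),
  ([1, 2, 2, 3, 2, 2, 1, 0], [2, 3, 4, 6, 5, 3, 2, 1], 337922363),
  ([1, 2, 2, 3, 3, 2, 1, 0], [2, 3, 4, 7, 5, 4, 2, 1], 44077879),
  ([1, 2, 2, 4, 3, 2, 1, 0], [2, 4, 5, 7, 6, 4, 2, 1], 5539247),
  ([1, 2, 3, 4, 3, 2, 1, 0], [3, 4, 5, 8, 6, 4, 2, 1], 677215),
  ([2, 2, 3, 4, 3, 2, 1, 0], [3, 4, 6, 8, 6, 4, 2, 1], 76543)]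

end Cfsg.Agent.Omega.EH3Close.RootData
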