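import Cfsg.Agent.Omega.EH3Close.RootData
import Cfsg.Agent.KFacts.RgdSL
import Cfsg.Agent.Nodes.Unique
import Cfsg.Agent.Nodes.SimplyLaced

/-!
# Positive roots of a simply laced type as a list (helper805)

`Ty M e N` : the Coxeter matrix `M` is the simply laced one with adjacency matrix `N` (through `e : I ≃ Fin n`).
`complete`, `sound` : the list `L` consists of the positive roots, from two checks; `cpr_vec` : the Cartan numbers.
-/

set_option autoImplicit false
set_option linter.unusedSectionVars false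

namespace Cfsg.Agent.Omega.EH3Close.RootTab

open CoxeterSystem Cfsg.Agent.ChevalleyStructure.CoxeterGeom Cfsg.Agent.Tits.Roots Cfsg.Agent.Tits.Core
  Cfsg.Agent.Nodes.Reps Cfsg.Agent.Nodes.BNOf Cfsg.Agent.Nodes.PosPair Cfsg.Agent.Nodes.Coroot
  Cfsg.Agent.KFacts.RgdSL

/-! ### Lists -/

/-- dot product -/
def dot : List ℕ → List ℕ → ℕ
  | a :: x, b :: y => a * b + dot x y
  | _, _ => 0

/-- neighbour sums -/
def nb (N : List (List ℕ)) (x : List ℕ) : List ℕ := N.map (dot x)

/-- reflection -/
def rf (N : List (List ℕ)) (i : ℕ) (x : List ℕ) : List ℕ := x.set i ((nb N x).getD i 0 - x.getD i 0)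

/-- unit vector -/
def un (n i : ℕ) : List ℕ := (List.range n).map fun j => if j = i then 1 else 0

/-- closed under the reflections -/
def closedChk (n : ℕ) (N L : List (List ℕ)) : Bool :=
  (List.range n).all fun i => L.contains (un n i) &&
    L.all fun l => l == un n i || (Nat.ble (l.getD i 0) ((nb N l).getD i 0) && L.contains (rf N i l))

/-- every element is a unit vector or has a smaller reflection in the list -/
def descChk (n : ℕ) (N L : List (List ℕ)) : Bool :=
  L.all fun l => (List.range n).any fun i => l == un n i ||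
    (Nat.ble (l.getD i 0) ((nb N l).getD i 0) && L.contains (rf N i l) && Nat.blt (rf N i l).sum l.sum)

def lenChk (n : ℕ) (L : List (List ℕ)) : Bool := L.all fun l => l.length == n

theorem dot_eq : ∀ (x y : List ℕ), x.length = y.length →
    dot x y = ∑ k ∈ Finset.range x.length, x.getD k 0 * y.getD k 0
  | [], [], _ => by simp [dot]
  | a :: x, b :: y, h => by
    have ih := dot_eq x y (by simpa using h)
    rw [List.length_cons, Finset.sum_range_succ', dot, ih, add_comm]
    simp
  | [], _ :: _, h => by simp at h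
  | _ :: _, [], h => by simp at h

theorem length_un (n i : ℕ) : (un n i).length = n := by simp [un]

theorem getD_un {n i j : ℕ} (hj : j < n) : (un n i).getD j 0 = if j = i then 1 else 0 := by
  rw [un, List.getD_eq_getElem?_getD, List.getElem?_map, List.getElem?_range hj]
  rfl

theorem length_rf {n : ℕ} {N : List (List ℕ)} {i : ℕ} {x : List ℕ} (hx : x.length = n) : (rf N i x).length = n := by
  rw [rf, List.length_set, hx]

theorem getD_rf {N : List (List ℕ)} {i j : ℕ} {x : List ℕ} (hi : i < x.length) :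
    (rf N i x).getD j 0 = if j = i then (nb N x).getD i 0 - x.getD i 0 else x.getD j 0 := by
  rw [rf, List.getD_eq_getElem?_getD, List.getElem?_set]
  by_cases h : i = j
  · subst h
    rw [if_pos rfl, if_pos hi, if_pos rfl]
    rfl
  · rw [if_neg h, if_neg (Ne.symm h), ← List.getD_eq_getElem?_getD]

theorem getD_nb {n : ℕ} {N : List (List ℕ)} (hN : N.length = n) {x : List ℕ} {i : ℕ} (hi : i < n) :
    (nb N x).getD i 0 = dot x (N.getD i []) := by
  subst hN
  rw [nb, List.getD_eq_getElem?_getD, List.getElem?_map, List.getD_eq_getElem?_getD, List.getElem?_eq_getElem hi]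
  rfl

/-! ### The type -/

variable {I W : Type*} [Fintype I] [DecidableEq I] [Group W] {M : CoxeterMatrix I}
  {cs : CoxeterSystem M W} {A : I → I → ℤ} {h : IsCartan M A} {n : ℕ}

/-- the Coxeter matrix `M` is the simply laced one with adjacency matrix `N` -/
structure Ty (M : CoxeterMatrix I) (e : I ≃ Fin n) (N : List (List ℕ)) : Prop where
  len : N.length = n
  row : ∀ i : I, (N.getD (e i) []).length = n
  adj : ∀ i j : I, i ≠ j → (M i j = 3 ∧ (N.getD (e i) []).getD (e j) 0 = 1) ∨
    (M i j = 2 ∧ (N.getD (e i) []).getD (e j) 0 = 0)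
  diag : ∀ i : I, (N.getD (e i) []).getD (e i) 0 = 0

/-- the vector of a list -/
def vc (e : I ≃ Fin n) (l : List ℕ) : I → ℤ := fun i => (l.getD (e i) 0 : ℤ)

theorem vc_un (e : I ≃ Fin n) (i : I) : vc e (un n (e i)) = sr i := by
  funext j
  rw [vc, getD_un (e j).2]
  by_cases hij : j = i
  · subst hij
    rw [if_pos rfl, sr_self]; rfl
  · rw [if_neg (fun h => hij (e.injective (Fin.ext h))), sr_ne hij]; rfl

theorem vc_inj (e : I ≃ Fin n) {l l' : List ℕ} (h1 : l.length = n) (h2 : l'.length = n) (he : vc e l = vc e l') :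
    l = l' := by
  refine List.ext_getElem (h1.trans h2.symm) fun i hi hi' => ?_
  have h3 := congrFun he (e.symm ⟨i, h1 ▸ hi⟩)
  simp only [vc, Equiv.apply_symm_apply, Nat.cast_inj] at h3
  rwa [List.getD_eq_getElem _ _ hi, List.getD_eq_getElem _ _ hi'] at h3

variable {e : I ≃ Fin n} {N : List (List ℕ)}

theorem Ty.cartan (t : Ty M e N) (h : IsCartan M A) (i j : I) :
    A i j = (if i = j then 2 else 0) - ((N.getD (e i) []).getD (e j) 0 : ℤ) := by
  by_cases hij : i = j
  · subst hij
    rw [if_pos rfl, t.diag, h.diag]; rfl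
  · rw [if_neg hij]
    rcases t.adj i j hij with ⟨h1, h2⟩ | ⟨h1, h2⟩
    · rw [h2]
      rcases h.rel i j hij with h3 | h3 | h3 | h3
      · omega
      · rw [h3.2.1]; rfl
      · omega
      · omega
    · rw [h2]
      rcases h.rel i j hij with h3 | h3 | h3 | h3
      · rw [h3.2.1]; rfl
      · omega
      · omega
      · omega

theorem sum_range_eq (e : I ≃ Fin n) (f : ℕ → ℤ) : ∑ k ∈ Finset.range n, f k = ∑ i : I, f (e i) := by
  rw [Finset.sum_range, ← Equiv.sum_comp e]

theorem Ty.pairing (t : Ty M e N) (h : IsCartan M A) (i : I) {l : List ℕ} (hl : l.length = n) :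
    pairing A i (vc e l) = 2 * (l.getD (e i) 0 : ℤ) - ((nb N l).getD (e i) 0 : ℤ) := by
  rw [getD_nb t.len (e i).2, dot_eq _ _ (hl.trans (t.row i).symm), hl]
  push_cast
  rw [sum_range_eq e (fun k => (l.getD k 0 : ℤ) * ((N.getD (e i) []).getD k 0 : ℤ))]
  unfold ChevalleyStructure.CoxeterGeom.pairing
  have h1 : ∀ k : I, A i k * vc e l k = (if i = k then 2 * (l.getD (e i) 0 : ℤ) else 0) -
      (l.getD (e k) 0 : ℤ) * ((N.getD (e i) []).getD (e k) 0 : ℤ) := by
    intro k
    rw [t.cartan h i k]
    show _ * (l.getD (e k) 0 : ℤ) = _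
    by_cases hik : i = k
    · subst hik
      rw [if_pos rfl, if_pos rfl]; ring
    · rw [if_neg hik, if_neg hik]; ring
  rw [Finset.sum_congr rfl (fun k _ => h1 k), Finset.sum_sub_distrib, Finset.sum_ite_eq Finset.univ i,
    if_pos (Finset.mem_univ i)]

theorem Ty.rep_vc (t : Ty M e N) (i : I) {l : List ℕ} (hl : l.length = n)
    (hle : l.getD (e i) 0 ≤ (nb N l).getD (e i) 0) :
    rep cs h (cs.simple i) (vc e l) = vc e (rf N (e i) l) := by
  rw [rep_simple_eq, t.pairing h i hl]
  funext j
  rw [Pi.sub_apply, Pi.smul_apply, smul_eq_mul]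
  show (l.getD (e j) 0 : ℤ) - _ = ((rf N (e i) l).getD (e j) 0 : ℤ)
  rw [getD_rf (by rw [hl]; exact (e i).2)]
  by_cases hij : j = i
  · subst hij
    rw [if_pos rfl, sr_self]
    push_cast [Nat.cast_sub hle]
    ring
  · rw [if_neg (fun h => hij (e.injective (Fin.ext h))), sr_ne hij]
    ring

theorem complete [Finite W] (t : Ty M e N) {L : List (List ℕ)} (hlen : lenChk n L = true)
    (hc : closedChk n N L = true) {x : I → ℤ} (hx : x ∈ RGD.Pos cs h) : ∃ l ∈ L, vc e l = x := by
  have : Fintype W := Fintype.ofFinite W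
  simp only [closedChk, List.all_eq_true, List.mem_range, Bool.and_eq_true, List.contains_iff_mem, Bool.or_eq_true,
    beq_iff_eq, Nat.ble_eq] at hc
  simp only [lenChk, List.all_eq_true, beq_iff_eq] at hlen
  have key : ∀ k : ℕ, ∀ x : I → ℤ, IsRoot cs h x → 0 ≤ x → ht x ≤ k → ∃ l ∈ L, vc e l = x := by
    intro k
    induction k with
    | zero =>
      intro x hx h0 hk
      exfalso
      apply hx.ne_zero
      have h1 : ∑ k, x k = 0 := le_antisymm hk (Finset.sum_nonneg fun k _ => h0 k)
      funext k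
      exact (Finset.sum_eq_zero_iff_of_nonneg (fun k _ => h0 k)).1 h1 k (Finset.mem_univ k)
    | succ k ih =>
      intro x hx h0 hk
      obtain ⟨i, hi, hi'⟩ := exists_pairing_pos cs h h0 hx.ne_zero
      by_cases hxi : x = sr i
      · exact ⟨un n (e i), (hc (e i) (e i).2).1, by rw [vc_un, hxi]⟩
      · have hy0 := hx.simple_nonneg h0 i hxi
        obtain ⟨l, hl, hle⟩ := ih (rep cs h (cs.simple i) x) (hx.act _) hy0
          (by rw [ht_simple]; push_cast at hk ⊢; linarith)
        have e2 : rep cs h (cs.simple i) (rep cs h (cs.simple i) x) = x := by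
          rw [← rep_mul_apply, simple_mul_simple_self, map_one, Module.End.one_apply]
        have hlu : l ≠ un n (e i) := by
          rintro rfl
          rw [vc_un] at hle
          rw [← hle, rep_simple_sr] at e2
          have := h0 i
          rw [← e2, Pi.neg_apply, sr_self] at this
          exact absurd this (by simp)
        obtain ⟨h3, h4⟩ := ((hc (e i) (e i).2).2 l hl).resolve_left hlu
        refine ⟨rf N (e i) l, h4, ?_⟩
        rw [← t.rep_vc (cs := cs) (h := h) i (hlen l hl) h3, hle, e2]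
  exact key (ht x).toNat x hx.1 hx.2 (Int.self_le_toNat _)

theorem sound (t : Ty M e N) {L : List (List ℕ)} (hlen : lenChk n L = true)
    (hc : descChk n N L = true) {l : List ℕ} (hl : l ∈ L) : vc e l ∈ RGD.Pos cs h := by
  simp only [descChk, List.all_eq_true, List.any_eq_true, List.mem_range, Bool.and_eq_true, List.contains_iff_mem,
    Bool.or_eq_true, beq_iff_eq, Nat.ble_eq, Nat.blt_eq] at hc
  simp only [lenChk, List.all_eq_true, beq_iff_eq] at hlen
  refine ⟨?_, fun i => Int.natCast_nonneg _⟩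
  induction hk : l.sum using Nat.strong_induction_on generalizing l with
  | _ k ih =>
  obtain ⟨i, hi, h1 | ⟨⟨h1, h2⟩, h3⟩⟩ := hc l hl
  · have e1 : vc e l = sr (e.symm ⟨i, hi⟩) := by
      rw [h1, ← vc_un, Equiv.apply_symm_apply]
    rw [e1]
    exact isRoot_sr cs h _
  · have e1 := t.rep_vc (cs := cs) (h := h) (e.symm ⟨i, hi⟩) (hlen l hl) (by rw [Equiv.apply_symm_apply]; exact h1)
    rw [Equiv.apply_symm_apply] at e1
    have h4 := ih _ (hk ▸ h3) h2 rfl
    rw [← e1] at h4
    have h5 := h4.act (cs.simple (e.symm ⟨i, hi⟩))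
    rwa [← rep_mul_apply, simple_mul_simple_self, map_one, Module.End.one_apply] at h5

theorem Ty.ne_four (t : Ty M e N) (i j : I) : M i j ≠ 4 := by
  by_cases hij : i = j
  · subst hij; rw [M.diagonal]; norm_num
  · rcases t.adj i j hij with h1 | h1 <;> omega

theorem Ty.ne_six (t : Ty M e N) (i j : I) : M i j ≠ 6 := by
  by_cases hij : i = j
  · subst hij; rw [M.diagonal]; norm_num
  · rcases t.adj i j hij with h1 | h1 <;> omega

theorem Ty.sl [Finite W] (t : Ty M e N) (cs : CoxeterSystem M W) (h : IsCartan M A) : SL cs h :=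
  fun _ _ hx hy => Cfsg.Agent.Nodes.SimplyLaced.cpr_symm cs h t.ne_four t.ne_six hx hy

theorem cpr_sum [Finite W] (s : Finset I) (f : I → I → ℤ) {y : I → ℤ} (hy : IsRoot cs h y) :
    cpr cs h (∑ i ∈ s, f i) y = ∑ i ∈ s, cpr cs h (f i) y := by
  classical
  induction s using Finset.induction_on with
  | empty =>
    rw [Finset.sum_empty, Finset.sum_empty]
    have := cpr_smul cs h 0 y hy
    rwa [zero_smul, zero_mul] at this
  | insert a s ha ih => rw [Finset.sum_insert ha, Finset.sum_insert ha, cpr_add cs h _ _ hy, ih]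

/-- **The Cartan numbers.** -/
theorem Ty.cpr_vc [Finite W] (t : Ty M e N) {x y : List ℕ} (hx : x.length = n) (hy : y.length = n)
    (hyr : IsRoot cs h (vc e y)) : cpr cs h (vc e x) (vc e y) = 2 * (dot x y : ℤ) - (dot x (nb N y) : ℤ) := by
  have h1 : vc e x = ∑ i, (x.getD (e i) 0 : ℤ) • sr i := by
    funext j
    rw [Finset.sum_apply]
    simp [sr, Pi.single_apply, vc]
  have h2 : ∀ i : I, cpr cs h ((x.getD (e i) 0 : ℤ) • sr i) (vc e y) =
      2 * ((x.getD (e i) 0 : ℤ) * (y.getD (e i) 0 : ℤ)) - (x.getD (e i) 0 : ℤ) * ((nb N y).getD (e i) 0 : ℤ) := by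
    intro i
    rw [cpr_smul cs h _ _ hyr, t.sl cs h _ _ (isRoot_sr cs h i) hyr, cpr_sr, t.pairing h i hy]
    ring
  have hnb : (nb N y).length = n := by rw [nb, List.length_map, t.len]
  rw [h1, cpr_sum _ _ hyr, Finset.sum_congr rfl (fun i _ => h2 i), Finset.sum_sub_distrib, ← Finset.mul_sum,
    dot_eq _ _ (hx.trans hy.symm), dot_eq _ _ (hx.trans hnb.symm), hx]
  push_cast
  rw [sum_range_eq e (fun k => (x.getD k 0 : ℤ) * (y.getD k 0 : ℤ)),
    sum_range_eq e (fun k => (x.getD k 0 : ℤ) * ((nb N y).getD k 0 : ℤ))]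

end Cfsg.Agent.Omega.EH3Close.RootTab
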